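import Groth.Agent.BunLib68.GenusOne
import Groth.Agent.InvX.GenLocusPull
import Groth.Agent.AmpleVan.Pull
import Groth.Agent.VarDim.Local
import Groth.Agent.S1519

/-!
# Degree of ample bundles, bounds for sections
-/

universe u

set_option backward.isDefEq.respectTransparency false
set_option backward.isDefEq.respectTransparency.types false
set_option linter.style.haveILetI false
set_option linter.unusedSectionVars false
set_option linter.unusedVariables false
set_option synthInstance.maxHeartbeats 100000

open CategoryTheory CategoryTheory.Limits AlgebraicGeometry TopologicalSpace Opposite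

noncomputable section

namespace Groth.Agent.BunLib68

open Groth.Agent.CurveBundle Groth.Agent.CurveSlope Groth.Agent.CurveStable

variable {X : Scheme.{u}} (k : Type u) [Field k] [X.Over (Spec (CommRingCat.of k))] [IsIntegral X]
  [IsProper (X ↘ Spec (CommRingCat.of k))] [Smooth (X ↘ Spec (CommRingCat.of k))]
  (hdim : topologicalKrullDim X = 1)
include hdim

theorem deg_tensorPow {L : X.Modules} (hL : PicF.IsInvertible L) (m : ℕ) :
    Curv2.deg k X (CohB1.tensorPow L m) 1 = m * Curv2.deg k X L 1 := by
  induction m with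
  | zero => exact ((CurveDeg.deg_structureModule k).trans (by simp))
  | succ m ih =>
    refine (CurveRR.deg_tensor k hdim (InvX.isInvertible_tensorPow hL m) hL).trans ?_
    rw [ih]
    push_cast
    ring

include k in
/-- A proper integral curve is not affine. -/
theorem not_isAffineOpen_top : ¬ IsAffineOpen (⊤ : X.Opens) := by
  intro haff
  haveI : IsAffine X := by
    haveI : IsAffine (⊤ : X.Opens) := haff
    exact .of_isIso (Scheme.topIso X).inv
  haveI : IsFinite (X ↘ Spec (CommRingCat.of k)) :=
    IsFinite.iff_isProper_and_isAffineHom.2 ⟨inferInstance, inferInstance⟩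
  letI := ((Scheme.ΓSpecIso (CommRingCat.of k)).inv ≫ (X ↘ Spec (CommRingCat.of k)).appTop).hom.toAlgebra
  haveI : Module.Finite k Γ(X, ⊤) := RingHom.finite_algebraMap.1 (by
    show ((Scheme.ΓSpecIso (CommRingCat.of k)).inv ≫ (X ↘ Spec (CommRingCat.of k)).appTop).hom.Finite
    exact ((Scheme.Hom.finite_appTop (X ↘ Spec (CommRingCat.of k))).comp
      (RingHom.Finite.of_surjective _
        (ConcreteCategory.bijective_of_isIso (Scheme.ΓSpecIso (CommRingCat.of k)).inv).2)))
  haveI : IsArtinianRing Γ(X, ⊤) := IsArtinianRing.of_finite k _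
  haveI : Subsingleton (PrimeSpectrum Γ(X, ⊤)) := by
    letI := (IsArtinianRing.isField_of_isDomain Γ(X, ⊤)).toField
    infer_instance
  haveI : Subsingleton (Spec Γ(X, ⊤)) := ‹Subsingleton (PrimeSpectrum Γ(X, ⊤))›
  haveI : Subsingleton X := X.isoSpec.hom.homeomorph.toEquiv.subsingleton
  haveI : Subsingleton (IrreducibleCloseds X) := ⟨fun a b => IrreducibleCloseds.ext <| by
    obtain ⟨p, hp⟩ := a.isIrreducible.nonempty
    obtain ⟨q, hq⟩ := b.isIrreducible.nonempty
    ext y
    exact ⟨fun _ => Subsingleton.elim q y ▸ hq, fun _ => Subsingleton.elim p y ▸ hp⟩⟩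
  have : topologicalKrullDim X ≤ 0 := Order.krullDim_nonpos_of_subsingleton
  rw [hdim] at this
  exact absurd this (by norm_num)

/-- An ample bundle on a curve has positive degree. -/
theorem deg_pos_of_ample {L : X.Modules} (hL : CohB1.IsAmple L) : 0 < Curv2.deg k X L 1 := by
  obtain ⟨n, s, hn, haff⟩ := hL.2.2 (genericPoint X)
  obtain ⟨x, hx⟩ : ∃ x, x ∉ CohB1.genLocus _ s := by
    by_contra hall
    push Not at hall
    rw [show CohB1.genLocus _ s = ⊤ from eq_top_iff.2 fun x _ => hall x] at haff
    exact not_isAffineOpen_top k hdim haff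
  have hs : s ≠ 0 := by
    rintro rfl
    obtain ⟨U, hxU, hU⟩ := InvX.mem_genLocus hn
    have h0 : AModX.res (CohB1.tensorPow L (n + 1)) (le_top : U ≤ ⊤)
        (InvX.one (0 : Coh.structureModule X ⟶ CohB1.tensorPow L (n + 1))) = 0 := by
      rw [show InvX.one (0 : Coh.structureModule X ⟶ CohB1.tensorPow L (n + 1)) = 0 from rfl]
      exact map_zero ((CohB1.tensorPow L (n + 1)).presheaf.map _).hom
    have h1 : (1 : Γ(X, U)) = 0 := hU.coord_unique le_rfl (by rw [h0, AModX.res_self, smul_zero, smul_zero])
    have h2 := congrArg (fun a => X.presheaf.germ U (genericPoint X) hxU a) h1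
    simp only [map_one, map_zero] at h2
    exact one_ne_zero h2
  have hpos := S1519.result k X hdim _ (InvX.isInvertible_tensorPow hL.1 (n + 1)) s hs x hx
  rw [deg_tensorPow k hdim hL.1] at hpos
  exact (pos_iff_pos_of_mul_pos hpos).1 (by positivity)

/-- Bounded line subsheaves bound the sections. -/
theorem finrank_h0_le_of_subs [IsAlgClosed k] {G : X.Modules} (hG : FlatMod.IsFinLocFree G) (s : ℕ)
    (h : ∀ (M : X.Modules) (i : M ⟶ G), Mono i → FlatMod.IsFinLocFree M → rk M = 1 → dg k M ≤ (s : ℤ)) :
    Module.finrank k (Coh.HH X G 0) ≤ rk G * (s + 1) := by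
  by_contra hc
  obtain ⟨S, hS, hcl⟩ := CurveSection.exists_closed_finset k hdim (s + 1)
  obtain ⟨M, i, hi, hM, hdM⟩ := CurveSection.exists_line_sub k hdim (isFinLocFreeOfRank_rk hG) S hcl
    (by rw [hS]; omega)
  have := h M i hi (isFinLocFree_of_rank hM) (rk_eq hM)
  rw [hS] at hdM
  push_cast at hdM
  omega

/-- Quotients of free modules have nonnegative degree. -/
theorem dg_nonneg_of_epi_free {n : ℕ} {C : X.Modules} (π : FlatMod.freeMod X n ⟶ C) [Epi π]
    (hC : Coh.IsCoh C) : 0 ≤ dg k C := by
  haveI := isLocallyNoetherian' k (X := X)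
  have hK := QCoh.isCoh_kernel (coh_free k n) hC π
  have h1 := dg_le_zero_of_mono_free k hdim.le n _ (kernel.ι π) inferInstance
    (isFinLocFree_of_mono k hdim.le hK (kernel.ι π) (KFlatLib.isFinLocFree_freeMod n))
  have h2 := dg_add k _ _ _ (shortExact_kernel_of_epi π) hK (coh_free k n) hC
  rw [dg_free] at h2
  omega

end Groth.Agent.BunLib68
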