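import Groth.Agent.BunLib68.Bundle
import Groth.Agent.Lib.CurveSSVanish

/-!
# Degrees of duals and of the sheaf Hom, and vanishing of `H¹` in genus one
-/

universe u

set_option backward.isDefEq.respectTransparency false
set_option backward.isDefEq.respectTransparency.types false
set_option linter.style.haveILetI false
set_option linter.unusedVariables false
set_option linter.unusedSectionVars false
set_option synthInstance.maxHeartbeats 100000

open CategoryTheory CategoryTheory.Limits AlgebraicGeometry TopologicalSpace Opposite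

noncomputable section

namespace Groth.Agent.BunLib68

open Groth.Agent.CurveBundle Groth.Agent.CurveSlope Groth.Agent.CurveStable

variable {X : Scheme.{u}} (k : Type u) [Field k] [X.Over (Spec (CommRingCat.of k))] [IsIntegral X]
  [IsProper (X ↘ Spec (CommRingCat.of k))] [Smooth (X ↘ Spec (CommRingCat.of k))]

/-- The endomorphisms of a line bundle are the structure module. -/
theorem nonempty_iso_homSh_self {L : X.Modules} (hL : FlatMod.IsFinLocFreeOfRank 1 L) :
    Nonempty (Coh.structureModule X ≅ RefHull.homSh L L) := by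
  let t : Γ(RefHull.homSh L L, ⊤) := RefHull.ofHom (𝟙 L) ⊤
  have hLf := isFinLocFree_of_rank hL
  have hb : ∀ x : X, Function.Bijective (RefHull.stalkMapₗ (QCoh.homOfTop t) x) := by
    intro x
    obtain ⟨b⟩ := CurveTensor.exists_basis_stalk hL x
    have key : ∀ a : X.presheaf.stalk x,
        RefHull.evalStalk L L x (RefHull.stalkMapₗ (QCoh.homOfTop t) x (RefX.unitStalk x a)) =
          a • LinearMap.id := by
      intro a
      obtain ⟨U, hx, r, rfl⟩ := TopCat.Presheaf.exists_germ_eq X.presheaf a
      rw [unitStalk_germ, RefHull.stalkMapₗ_germ, RefHull.evalStalk_germ, QCoh.homOfTop_app]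
      show X.presheaf.germ U x hx r • RefHull.stalkMapₗ (𝟙 L) x = _
      rw [stalkMapₗ_id]
    have hb : Function.Bijective fun a : X.presheaf.stalk x =>
        (a • LinearMap.id : RefHull.StalkHom L L x) := by
      refine ⟨fun a c hac => ?_, fun f => ⟨b.repr (f (b 0)) 0, b.ext fun i => ?_⟩⟩
      · simpa using congrArg (fun g : RefHull.StalkHom L L x => b.repr (g (b 0)) 0) hac
      · obtain rfl : i = 0 := Subsingleton.elim i 0
        show b.repr (f (b 0)) 0 • b 0 = f (b 0)
        conv_rhs => rw [← b.sum_repr (f (b 0))]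
        simp
    simp only [← key] at hb
    exact (Function.Bijective.of_comp_iff' (evalStalk_bij hLf x) _).1
      ((Function.Bijective.of_comp_iff _ (RefX.unitStalk x).bijective).1 hb)
  haveI := ZClosLib.isIso_of_stalkMap_bijective (QCoh.homOfTop t) hb
  exact ⟨asIso (QCoh.homOfTop t)⟩

variable (hdim : topologicalKrullDim X = 1)
include hdim

include k in
theorem coh_homSh {F G : X.Modules} (hF : FlatMod.IsFinLocFree F) (hG : FlatMod.IsFinLocFree G) :
    Coh.IsCoh (RefHull.homSh F G) :=
  haveI := isLocallyNoetherian' k (X := X)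
  coh_of_free k (isFinLocFree_homSh hF hG)

/-- `deg Hom(F, G)` through the dual. -/
theorem dg_homSh_eq {F G : X.Modules} (hF : FlatMod.IsFinLocFree F) (hG : FlatMod.IsFinLocFree G) :
    dg k (RefHull.homSh F G) =
      (rk G : ℤ) * dg k (RefHull.dual F) + (rk F : ℤ) * dg k G := by
  haveI := isLocallyNoetherian' k (X := X)
  have hO := isFinLocFree_of_rank (InvEnd.isFinLocFreeOfRank_one (CurveDeg.isInvertible_structureModule (X := X)))
  have hD := isFinLocFree_homSh hF hO
  have hrD : rk (RefHull.dual F) = rk F := by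
    rw [RefHull.dual, rk_homSh hF hO, rk_eq (InvEnd.isFinLocFreeOfRank_one (CurveDeg.isInvertible_structureModule (X := X))),
      mul_one]
  haveI := isIso_theta hF G
  have h := CurveTensor.euler_tensor k hdim (isFinLocFreeOfRank_rk hD) (coh_of_free k hG)
  have he := Euler.euler_congr k (asIso (theta F G))
  rw [deg_eq_dg k (isFinLocFreeOfRank_rk hD), hrD] at h
  have he' : Curv2.euler k X (RefHull.homSh F G) =
      (rk G : ℤ) * dg k (RefHull.dual F) + (rk F : ℤ) * Curv2.euler k X G := he.symm.trans h
  have hr : (rk (RefHull.homSh F G) : ℤ) = (rk F : ℤ) * (rk G : ℤ) := by exact_mod_cast rk_homSh hF hG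
  show Curv2.euler k X (RefHull.homSh F G) - (rk (RefHull.homSh F G) : ℤ) * _ = _
  rw [he', hr]
  show _ = _ + (rk F : ℤ) * (Curv2.euler k X G - (rk G : ℤ) * _)
  ring

/-- The degree of the dual. -/
theorem dg_dual : ∀ {F : X.Modules}, FlatMod.IsFinLocFree F →
    dg k (RefHull.dual F) = - dg k F := by
  haveI := isLocallyNoetherian' k (X := X)
  have hO := isFinLocFree_of_rank (InvEnd.isFinLocFreeOfRank_one (CurveDeg.isInvertible_structureModule (X := X)))
  suffices h : ∀ (n : ℕ) (F : X.Modules), FlatMod.IsFinLocFree F → rk F = n →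
      dg k (RefHull.dual F) = - dg k F from fun {F} hF => h _ F hF rfl
  intro n
  induction n with
  | zero =>
    intro F hF hr
    have hD := isFinLocFree_homSh hF hO
    rw [dg_eq_zero_of_isZero k (isZero_of_rk_zero hF hr), neg_zero]
    exact dg_eq_zero_of_isZero k (isZero_of_rk_zero hD (by rw [rk_homSh hF hO, hr, zero_mul]))
  | succ n ih =>
    intro F hF hr
    obtain ⟨G, j, hj, hG, hrG, hmax⟩ := exists_max_sub k hdim.le hF
      (CurveDuality.exists_sub_of_rank k hdim hF 1 (by omega))
    haveI := hj
    have hFc := coh_of_free k hF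
    have hGc := coh_of_free k hG
    have hQc : Coh.IsCoh (cokernel j) := QCoh.isCoh_cokernel hGc.1 hFc j
    have hS := shortExact_cokernel_of_mono j
    have hQ := isFinLocFree_of_max k hdim.le j (cokernel.π j) _ hS hGc hF hQc
      (fun F g hg hF hrF => hmax F g hg hF (hrF.trans hrG))
    have r1 := rk_add_coh k _ _ _ hS hFc
    have d1 := dg_add k _ _ _ hS hGc hFc hQc
    obtain ⟨w, hT⟩ := shortExact_comap hS hG hF hQ (Coh.structureModule X)
    have d2 := dg_add k _ _ w hT (coh_homSh k hdim hQ hO) (coh_homSh k hdim hF hO) (coh_homSh k hdim hG hO)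
    have hG1 : FlatMod.IsFinLocFreeOfRank 1 G := hrG ▸ isFinLocFreeOfRank_rk hG
    obtain ⟨e⟩ := nonempty_iso_homSh_self hG1
    have hL : dg k (RefHull.dual G) = - dg k G := by
      have h1 := dg_homSh_eq k hdim hG hG
      rw [← dg_congr k e, hrG] at h1
      have h0 : dg k (Coh.structureModule X) = 0 := by
        rw [← deg_eq_dg k (InvEnd.isFinLocFreeOfRank_one (CurveDeg.isInvertible_structureModule (X := X))),
          CurveDeg.deg_structureModule]
      rw [h0] at h1
      push_cast at h1
      linarith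
    have hQd := ih (cokernel j) hQ (by omega)
    show dg k (RefHull.homSh F _) = _
    rw [d2]
    change dg k (RefHull.dual (cokernel j)) + dg k (RefHull.dual G) = _
    rw [hQd, hL, d1]
    ring

/-- The degree of the sheaf Hom. -/
theorem dg_homSh {F G : X.Modules} (hF : FlatMod.IsFinLocFree F) (hG : FlatMod.IsFinLocFree G) :
    dg k (RefHull.homSh F G) = (rk F : ℤ) * dg k G - (rk G : ℤ) * dg k F := by
  rw [dg_homSh_eq k hdim hF hG, dg_dual k hdim hF]
  ring

/-- The Euler characteristic of the sheaf Hom. -/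
theorem euler_homSh {F G : X.Modules} (hF : FlatMod.IsFinLocFree F) (hG : FlatMod.IsFinLocFree G) :
    Curv2.euler k X (RefHull.homSh F G) = (rk F : ℤ) * dg k G - (rk G : ℤ) * dg k F +
      (rk F : ℤ) * (rk G : ℤ) * Curv2.euler k X (Coh.structureModule X) := by
  have h := dg_homSh k hdim hF hG
  unfold dg at h ⊢
  rw [rk_homSh hF hG] at h
  push_cast at h
  linarith

/-- A bundle with more degree than needed has a nonzero map: positivity of `χ(Hom)`. -/
theorem exists_hom_ne_zero {F G : X.Modules} (hF : FlatMod.IsFinLocFree F) (hG : FlatMod.IsFinLocFree G)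
    (h : 0 < Curv2.euler k X (RefHull.homSh F G)) : ∃ φ : F ⟶ G, φ ≠ 0 := by
  have h1 := euler_le_h0 k hdim.le (coh_homSh k hdim hF hG)
  haveI := Module.nontrivial_of_finrank_pos (R := k)
    (M := Coh.HH X (RefHull.homSh F G) 0) (by omega)
  obtain ⟨t, ht⟩ := exists_ne (0 : Coh.HH X (RefHull.homSh F G) 0)
  refine ⟨toHom (Sheaf.H.equiv₀ (Coh.toAb (RefHull.homSh F G)) isTerminalTop t), fun h0 => ht ?_⟩
  refine (Sheaf.H.equiv₀ (Coh.toAb (RefHull.homSh F G)) isTerminalTop).injective ?_
  rw [map_zero]
  exact (ofHom_toHom _).symm.trans (h0 ▸ (homEquiv (F := F) (G := G)).symm.map_zero)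

/-- In genus one `H¹(Hom(B, A))` vanishes when there are no maps `A ⟶ B`. -/
theorem subsingleton_HH_one_homSh (hO : Module.finrank k (Coh.HH X (Coh.structureModule X) 0) = 1)
    (hg : Curv2.genus k X = 1) {A B : X.Modules} (hA : FlatMod.IsFinLocFree A) (hB : FlatMod.IsFinLocFree B)
    (h : ∀ g : A ⟶ B, g = 0) : Subsingleton (Coh.HH X (RefHull.homSh B A) 1) := by
  haveI := isLocallyNoetherian' k (X := X)
  obtain ⟨ω, μ, hω⟩ := CurveDuality.exists_isDualizing k (X := X) hdim
  obtain ⟨e⟩ := CurveDuality.nonempty_iso_of_genus_one k hO hω hdim hg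
  refine (CurveDuality.subsingleton_HH_one_iff k hω hdim (isFinLocFree_homSh hB hA)).2 fun φ => ?_
  rw [← cancel_mono e.inv, zero_comp]
  exact hom_eq_zero_of hB h _

end Groth.Agent.BunLib68
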