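import Groth.Agent.BunLib68.Hom
import Groth.Agent.Lib.CurveStable
import Groth.Agent.Lib.CurveTensor
import Groth.Agent.Lib.CurveRR

/-!
# The sheaf Hom of locally free modules: exactness, freeness, duals, splitting
-/

universe u

set_option backward.isDefEq.respectTransparency false
set_option backward.isDefEq.respectTransparency.types false
set_option linter.style.haveILetI false
set_option linter.unusedVariables false
set_option linter.unusedSectionVars false
set_option synthInstance.maxHeartbeats 100000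

open CategoryTheory CategoryTheory.Limits AlgebraicGeometry TopologicalSpace Opposite
open scoped TensorProduct

noncomputable section

namespace Groth.Agent.BunLib68

variable {X : Scheme.{u}} {F G G' : X.Modules}

theorem evalStalk_bij (hF : FlatMod.IsFinLocFree F) (x : X) :
    Function.Bijective (RefHull.evalStalk F G x) :=
  RefX.evalStalk_bijective (QCoh.isFP_of_isFinLocFree hF) x

theorem finite_stalk (hF : FlatMod.IsFinLocFree F) (x : X) :
    Module.Finite (X.presheaf.stalk x) (F.presheaf.stalk x) :=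
  QCoh.finite_stalk_of_isFT (QCoh.isQCoh_of_isFinLocFree hF)
    (QCoh.isFT_of_isFP (QCoh.isFP_of_isFinLocFree hF)) x

/-- `Hom(F, -)` is exact for `F` finite locally free. -/
theorem shortExact_map (hF : FlatMod.IsFinLocFree F) {S : ShortComplex X.Modules} (hS : S.ShortExact) :
    ∃ w : map F S.f ≫ map F S.g = 0, (ShortComplex.mk (map F S.f) (map F S.g) w).ShortExact := by
  have hx := fun x => (KFlatLib.shortExact_iff_stalk S).1 hS x
  have hinj : ∀ x, Function.Injective (RefHull.stalkMapₗ S.f x) := fun x =>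
    (hx x).moduleCat_injective_f
  have hsurj : ∀ x, Function.Surjective (RefHull.stalkMapₗ S.g x) := fun x =>
    (hx x).moduleCat_surjective_g
  have hcomp : ∀ x, (RefHull.stalkMapₗ S.g x).comp (RefHull.stalkMapₗ S.f x) = 0 := fun x => by
    rw [← stalkMapₗ_comp, S.zero, stalkMapₗ_eq, Functor.map_zero]
    rfl
  have w : map F S.f ≫ map F S.g = 0 := hom_ext_homSh fun U f y => by
    show (RefHull.stalkMapₗ S.g y.1).comp ((RefHull.stalkMapₗ S.f y.1).comp (f.1 y)) = 0
    rw [← LinearMap.comp_assoc, hcomp, LinearMap.zero_comp]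
  refine ⟨w, (KFlatLib.shortExact_iff_stalk _).2 fun x => ?_⟩
  haveI := QCoh.free_stalk_of_isFinLocFree hF x
  refine ShortComplex.ShortExact.mk' ((ShortComplex.moduleCat_exact_iff _).2 ?_)
    ((ModuleCat.mono_iff_injective _).2 ?_) ((ModuleCat.epi_iff_surjective _).2 ?_)
  · intro θ (hθ : RefHull.stalkMapₗ (map F S.g) x θ = 0)
    have h0 : (RefHull.stalkMapₗ S.g x).comp (RefHull.evalStalk F S.X₂ x θ) = 0 := by
      rw [← evalStalk_map, hθ, map_zero]
    have hex := (ShortComplex.moduleCat_exact_iff _).1 (hx x).exact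
    obtain ⟨ψ, hψ⟩ : ∃ ψ : F.presheaf.stalk x →ₗ[X.presheaf.stalk x] S.X₁.presheaf.stalk x,
        (RefHull.stalkMapₗ S.f x).comp ψ = RefHull.evalStalk F S.X₂ x θ := by
      let r := LinearEquiv.ofInjective (RefHull.stalkMapₗ S.f x) (hinj x)
      refine ⟨r.symm.toLinearMap.comp ((RefHull.evalStalk F S.X₂ x θ).codRestrict
        (LinearMap.range (RefHull.stalkMapₗ S.f x)) fun v => ?_), ?_⟩
      · obtain ⟨p, hp⟩ := hex (RefHull.evalStalk F S.X₂ x θ v) (LinearMap.congr_fun h0 v)
        exact ⟨p, hp⟩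
      · refine LinearMap.ext fun v => ?_
        exact LinearEquiv.ofInjective_symm_apply (RefHull.stalkMapₗ S.f x) _ (h := hinj x)
    obtain ⟨η, rfl⟩ := (evalStalk_bij hF x).2 ψ
    refine ⟨η, (evalStalk_bij hF x).1 ?_⟩
    rw [← hψ]
    exact evalStalk_map _ x η
  · intro a b (hab : RefHull.stalkMapₗ (map F S.f) x a = RefHull.stalkMapₗ (map F S.f) x b)
    refine (evalStalk_bij hF x).1 (LinearMap.ext fun v => hinj x ?_)
    have := congrArg (RefHull.evalStalk F S.X₂ x) hab
    rw [evalStalk_map, evalStalk_map] at this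
    exact LinearMap.congr_fun this v
  · intro θ
    obtain ⟨ψ, hψ⟩ := Module.projective_lifting_property (RefHull.stalkMapₗ S.g x)
      (RefHull.evalStalk F S.X₃ x θ) (hsurj x)
    obtain ⟨η, rfl⟩ := (evalStalk_bij hF x).2 ψ
    refine ⟨η, (evalStalk_bij hF x).1 ?_⟩
    rw [← hψ]
    exact evalStalk_map _ x η

/-- `Hom(-, G)` is exact on sequences of locally free modules. -/
theorem shortExact_comap {S : ShortComplex X.Modules} (hS : S.ShortExact) (h1 : FlatMod.IsFinLocFree S.X₁)
    (h2 : FlatMod.IsFinLocFree S.X₂) (h3 : FlatMod.IsFinLocFree S.X₃) (G : X.Modules) :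
    ∃ w : comap G S.g ≫ comap G S.f = 0, (ShortComplex.mk (comap G S.g) (comap G S.f) w).ShortExact := by
  have hx := fun x => (KFlatLib.shortExact_iff_stalk S).1 hS x
  have hcomp : ∀ x, (RefHull.stalkMapₗ S.g x).comp (RefHull.stalkMapₗ S.f x) = 0 := fun x => by
    rw [← stalkMapₗ_comp, S.zero, stalkMapₗ_eq, Functor.map_zero]
    rfl
  have w : comap G S.g ≫ comap G S.f = 0 := hom_ext_homSh fun U f y => by
    show ((f.1 y).comp (RefHull.stalkMapₗ S.g y.1)).comp (RefHull.stalkMapₗ S.f y.1) = 0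
    rw [LinearMap.comp_assoc, hcomp, LinearMap.comp_zero]
  refine ⟨w, (KFlatLib.shortExact_iff_stalk _).2 fun x => ?_⟩
  haveI := QCoh.free_stalk_of_isFinLocFree h3 x
  have hsurj : Function.Surjective (RefHull.stalkMapₗ S.g x) := (hx x).moduleCat_surjective_g
  have hinj : Function.Injective (RefHull.stalkMapₗ S.f x) := (hx x).moduleCat_injective_f
  have hex := (ShortComplex.moduleCat_exact_iff _).1 (hx x).exact
  obtain ⟨s, hs⟩ := Module.projective_lifting_property (RefHull.stalkMapₗ S.g x) LinearMap.id hsurj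
  refine ShortComplex.ShortExact.mk' ((ShortComplex.moduleCat_exact_iff _).2 ?_)
    ((ModuleCat.mono_iff_injective _).2 ?_) ((ModuleCat.epi_iff_surjective _).2 ?_)
  · intro θ (hθ : RefHull.stalkMapₗ (comap G S.f) x θ = 0)
    have h0 : (RefHull.evalStalk S.X₂ G x θ).comp (RefHull.stalkMapₗ S.f x) = 0 := by
      rw [← evalStalk_comap, hθ, map_zero]
    obtain ⟨η, hη⟩ := (evalStalk_bij (G := G) h3 x).2 ((RefHull.evalStalk S.X₂ G x θ).comp s)
    refine ⟨η, (evalStalk_bij h2 x).1 ?_⟩
    refine (evalStalk_comap S.g x η).trans (LinearMap.ext fun v => ?_)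
    rw [hη]
    have hv : RefHull.stalkMapₗ S.g x (v - s (RefHull.stalkMapₗ S.g x v)) = 0 := by
      rw [map_sub, sub_eq_zero]
      exact (LinearMap.congr_fun hs _).symm
    obtain ⟨p, hp⟩ := hex _ hv
    have h1 := LinearMap.congr_fun h0 p
    change RefHull.evalStalk S.X₂ G x θ (RefHull.stalkMapₗ S.f x p) = 0 at h1
    change RefHull.stalkMapₗ S.f x p = _ at hp
    rw [hp, map_sub, sub_eq_zero] at h1
    exact h1.symm
  · intro a b (hab : RefHull.stalkMapₗ (comap G S.g) x a = RefHull.stalkMapₗ (comap G S.g) x b)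
    refine (evalStalk_bij h3 x).1 (LinearMap.ext fun v => ?_)
    obtain ⟨v, rfl⟩ := hsurj v
    have := congrArg (RefHull.evalStalk S.X₂ G x) hab
    rw [evalStalk_comap, evalStalk_comap] at this
    exact LinearMap.congr_fun this v
  · intro θ
    let p : S.X₂.presheaf.stalk x →ₗ[X.presheaf.stalk x] S.X₂.presheaf.stalk x :=
      LinearMap.id - s.comp (RefHull.stalkMapₗ S.g x)
    have hp : ∀ v, p v ∈ LinearMap.range (RefHull.stalkMapₗ S.f x) := fun v => by
      obtain ⟨q, hq⟩ := hex (p v) (by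
        show RefHull.stalkMapₗ S.g x (v - s (RefHull.stalkMapₗ S.g x v)) = 0
        rw [map_sub, sub_eq_zero]
        exact (LinearMap.congr_fun hs _).symm)
      exact ⟨q, hq⟩
    let t : S.X₂.presheaf.stalk x →ₗ[X.presheaf.stalk x] S.X₁.presheaf.stalk x :=
      (LinearEquiv.ofInjective _ hinj).symm.toLinearMap.comp (p.codRestrict _ hp)
    obtain ⟨η, hη⟩ := (evalStalk_bij (G := G) h2 x).2 ((RefHull.evalStalk S.X₁ G x θ).comp t)
    refine ⟨η, (evalStalk_bij h1 x).1 ?_⟩
    refine (evalStalk_comap S.f x η).trans (LinearMap.ext fun q => ?_)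
    rw [hη]
    refine congrArg (RefHull.evalStalk S.X₁ G x θ) (hinj ?_)
    refine (LinearEquiv.ofInjective_symm_apply _ _ (h := hinj)).trans ?_
    show RefHull.stalkMapₗ S.f x q - s (RefHull.stalkMapₗ S.g x (RefHull.stalkMapₗ S.f x q)) = _
    rw [show RefHull.stalkMapₗ S.g x (RefHull.stalkMapₗ S.f x q) = 0 from LinearMap.congr_fun (hcomp x) q,
      map_zero, sub_zero]

/-- Vanishing of `H¹` of the sheaf Hom splits an extension by a bundle. -/
theorem isSplitEpi_of_HH_one {S : ShortComplex X.Modules} (hS : S.ShortExact)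
    (h3 : FlatMod.IsFinLocFree S.X₃) (h : Subsingleton (Coh.HH X (RefHull.homSh S.X₃ S.X₁) 1)) :
    IsSplitEpi S.g := by
  obtain ⟨w, hT⟩ := shortExact_map h3 hS
  obtain ⟨t, ht⟩ := QCoh.app_top_surjective_of_HH_one hT h (RefHull.ofHom (𝟙 S.X₃) ⊤)
  refine IsSplitEpi.mk' ⟨toHom t, ?_⟩
  rw [← toHom_map, ← toHom_ofHom (𝟙 S.X₃)]
  exact congrArg toHom ht

/-! ## Freeness -/

theorem isFinLocFree_homSh [IsLocallyNoetherian X] (hF : FlatMod.IsFinLocFree F)
    (hG : FlatMod.IsFinLocFree G) : FlatMod.IsFinLocFree (RefHull.homSh F G) := by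
  refine QCoh.isFinLocFree_iff.2 ⟨QCoh.isCoh_iff_isFP.1 (RefX.isCoh_homSh
    (CurveDeg.isCoh_of_isFinLocFree hF) (CurveDeg.isCoh_of_isFinLocFree hG)), fun x => ?_⟩
  haveI := QCoh.free_stalk_of_isFinLocFree hF x
  haveI := QCoh.free_stalk_of_isFinLocFree hG x
  haveI := finite_stalk hF x
  haveI := finite_stalk hG x
  exact Module.Free.of_equiv (LinearEquiv.ofBijective _ (evalStalk_bij (G := G) hF x)).symm

theorem rk_homSh [IsIntegral X] (hF : FlatMod.IsFinLocFree F) (hG : FlatMod.IsFinLocFree G) :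
    CurveBundle.rk (RefHull.homSh F G) = CurveBundle.rk F * CurveBundle.rk G := by
  haveI := QCoh.free_stalk_of_isFinLocFree hF (genericPoint X)
  haveI := QCoh.free_stalk_of_isFinLocFree hG (genericPoint X)
  haveI := finite_stalk hF (genericPoint X)
  haveI := finite_stalk hG (genericPoint X)
  exact (LinearEquiv.ofBijective _ (evalStalk_bij (G := G) hF (genericPoint X))).finrank_eq.trans
    (Module.finrank_linearMap _ _ _ _)

/-- Biduality for a bundle. -/
theorem isIso_bidualMap [IsLocallyNoetherian X] (hF : FlatMod.IsFinLocFree F) :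
    IsIso (RefHull.bidualMap F) :=
  (RefX.isReflexive_iff (CurveDeg.isCoh_of_isFinLocFree hF)).2 fun x => by
    haveI := QCoh.free_stalk_of_isFinLocFree hF x
    haveI := finite_stalk hF x
    show Module.IsReflexive (X.presheaf.stalk x) (F.presheaf.stalk x)
    infer_instance

/-! ## `dual F ⊗ G ≅ Hom(F, G)` -/

theorem unitStalk_germ (x : X) {U : X.Opens} (hx : x ∈ U) (r : Γ(X, U)) :
    RefX.unitStalk x (X.presheaf.germ U x hx r) =
      (Coh.structureModule X).presheaf.germ U x hx (show Γ(Coh.structureModule X, U) from r) := by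
  show X.presheaf.germ U x hx r • (Coh.structureModule X).presheaf.germ ⊤ x trivial
    (show Γ(Coh.structureModule X, ⊤) from (1 : Γ(X, ⊤))) = _
  rw [← RefX.germ_res (Coh.structureModule X) (le_top : U ≤ ⊤) hx, ← Mero.germ_smul]
  congr 1
  show r * X.presheaf.map (homOfLE (le_top : U ≤ ⊤)).op (1 : Γ(X, ⊤)) = r
  rw [map_one, mul_one]

/-- The family of stalk maps `v ↦ θ_y(v) n_y`. -/
def thetaFun (F G : X.Modules) (U : X.Opens) (θ : Γ(RefHull.dual F, U)) (n : Γ(G, U)) :
    Γ(RefHull.homSh F G, U) :=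
  ⟨fun y => ((RefX.unitStalk y.1).symm.toLinearMap.comp (θ.1 y)).smulRight (G.presheaf.germ U y.1 y.2 n),
    fun V i m x => ⟨V, x.2, 𝟙 V,
      (show Γ(X, V) from RefX.app i.le θ m) • AModX.res G i.le n, fun y => by
        dsimp only
        rw [Mero.germ_smul, RefX.germ_res, LinearMap.smulRight_apply, LinearMap.comp_apply,
          ← RefX.germ_app i.le θ m y.2]
        congr 1
        rw [← unitStalk_germ]
        exact LinearEquiv.symm_apply_apply _ _⟩⟩

theorem thetaFun_val (U : X.Opens) (θ : Γ(RefHull.dual F, U)) (n : Γ(G, U)) (y : U) (v : F.presheaf.stalk y.1) :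
    (thetaFun F G U θ n).1 y v = (RefX.unitStalk y.1).symm (θ.1 y v) • G.presheaf.germ U y.1 y.2 n := rfl

/-- The pairing `θ, n ↦ θ(-) n`. -/
def thetaBilin (F G : X.Modules) : H23.TensorDesc.Bilin (RefHull.dual F) G (RefHull.homSh F G) where
  b := thetaFun F G
  add_left U θ θ' n := Subtype.ext <| funext fun y => LinearMap.ext fun v => by
    refine (thetaFun_val U _ n y v).trans ?_
    refine Eq.trans ?_ (congrArg₂ (· + ·) (thetaFun_val U θ n y v) (thetaFun_val U θ' n y v)).symm
    rw [show (θ + θ').1 y v = θ.1 y v + θ'.1 y v from rfl, map_add, add_smul]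
  smul_left U r θ n := Subtype.ext <| funext fun y => LinearMap.ext fun v => by
    refine (thetaFun_val U _ n y v).trans ?_
    refine Eq.trans ?_ (congrArg (X.presheaf.germ U y.1 y.2 r • ·) (thetaFun_val U θ n y v)).symm
    rw [show (r • θ).1 y v = X.presheaf.germ U y.1 y.2 r • θ.1 y v from rfl, map_smul, smul_assoc]
  add_right U θ n n' := Subtype.ext <| funext fun y => LinearMap.ext fun v => by
    refine (thetaFun_val U θ _ y v).trans ?_
    refine Eq.trans ?_ (congrArg₂ (· + ·) (thetaFun_val U θ n y v) (thetaFun_val U θ n' y v)).symm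
    rw [map_add, smul_add]
  smul_right U r θ n := Subtype.ext <| funext fun y => LinearMap.ext fun v => by
    refine (thetaFun_val U θ _ y v).trans ?_
    refine Eq.trans ?_ (congrArg (X.presheaf.germ U y.1 y.2 r • ·) (thetaFun_val U θ n y v)).symm
    rw [Mero.germ_smul, smul_comm]
  res {U V} h θ n := Subtype.ext <| funext fun y => LinearMap.ext fun v => by
    refine Eq.trans ?_ (thetaFun_val V _ _ y v).symm
    rw [TopCat.Presheaf.germ_res_apply]
    rfl

/-- The natural map `dual F ⊗ G ⟶ Hom(F, G)`. -/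
def theta (F G : X.Modules) : CohB1.tensorMod (RefHull.dual F) G ⟶ RefHull.homSh F G :=
  H23.TensorDesc.desc (thetaBilin F G)

theorem isIso_theta (hF : FlatMod.IsFinLocFree F) (G : X.Modules) : IsIso (theta F G) := by
  refine ZClosLib.isIso_of_stalkMap_bijective _ fun x => ?_
  show Function.Bijective (RefHull.stalkMapₗ (theta F G) x)
  haveI := QCoh.free_stalk_of_isFinLocFree hF x
  haveI := finite_stalk hF x
  let e₁ := (KFlatLib.stalkTensorIso x (RefHull.dual F) G).toLinearEquiv
  let e₂ := TensorProduct.congr (RefX.dualStalk (QCoh.isFP_of_isFinLocFree hF) x)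
    (LinearEquiv.refl (X.presheaf.stalk x) (G.presheaf.stalk x))
  let e₃ := dualTensorHomEquiv (X.presheaf.stalk x) (F.presheaf.stalk x) (G.presheaf.stalk x)
  have key : ∀ t, RefHull.evalStalk F G x (RefHull.stalkMapₗ (theta F G) x (e₁ t)) = e₃ (e₂ t) := by
    intro t
    induction t using TensorProduct.induction_on with
    | zero => simp only [map_zero]
    | add a b ha hb => simp only [map_add, ha, hb]
    | tmul a b =>
      obtain ⟨U, hx, θ, rfl⟩ := TopCat.Presheaf.exists_germ_eq (RefHull.dual F).presheaf a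
      obtain ⟨U', hx', n, rfl⟩ := TopCat.Presheaf.exists_germ_eq G.presheaf b
      let V := U ⊓ U'
      rw [← RefX.germ_res (RefHull.dual F) (inf_le_left : V ≤ U) ⟨hx, hx'⟩,
        ← RefX.germ_res G (inf_le_right : V ≤ U') ⟨hx, hx'⟩]
      have h1 := KFlatLib.stalkTensorIso_gm (RefHull.dual F) G V (x := x) ⟨hx, hx'⟩
        (AModX.res (RefHull.dual F) (inf_le_left : V ≤ U) θ) (AModX.res G (inf_le_right : V ≤ U') n)
      refine (congrArg (fun w => RefHull.evalStalk F G x (RefHull.stalkMapₗ (theta F G) x w)) h1).trans ?_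
      change RefHull.evalStalk F G x (RefHull.stalkMapₗ (theta F G) x
        ((CohB1.tensorMod (RefHull.dual F) G).presheaf.germ V x ⟨hx, hx'⟩
          (SecTwist.tmul (RefHull.dual F) G V (AModX.res (RefHull.dual F) (inf_le_left : V ≤ U) θ)
            (AModX.res G (inf_le_right : V ≤ U') n)))) = _
      rw [RefHull.stalkMapₗ_germ, RefHull.evalStalk_germ]
      refine (congrArg (fun s : Γ(RefHull.homSh F G, V) => s.1 ⟨x, ⟨hx, hx'⟩⟩)
        (H23.TensorDesc.desc_tmul (thetaBilin F G) V _ _)).trans ?_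
      refine LinearMap.ext fun v => ?_
      refine (thetaFun_val V _ _ ⟨x, ⟨hx, hx'⟩⟩ v).trans ?_
      rw [TensorProduct.congr_tmul]
      refine Eq.trans ?_ (dualTensorHom_apply _ _ _).symm
      refine congrArg₂ (· • ·) ?_ rfl
      refine congrArg (RefX.unitStalk x).symm ?_
      exact (LinearMap.congr_fun (RefHull.evalStalk_germ (F := F) (G := Coh.structureModule X) x
        (U := V) ⟨hx, hx'⟩ _) v).symm
  have hb : Function.Bijective fun t => RefHull.evalStalk F G x (RefHull.stalkMapₗ (theta F G) x (e₁ t)) := by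
    simp only [key]
    exact e₃.bijective.comp e₂.bijective
  have h2 : Function.Bijective ((RefHull.evalStalk F G x) ∘ (RefHull.stalkMapₗ (theta F G) x)) :=
    (Function.Bijective.of_comp_iff _ e₁.bijective).1 hb
  exact (Function.Bijective.of_comp_iff' (evalStalk_bij hF x) _).1 h2

/-- No maps `A ⟶ B` gives no maps from `Hom(B, A)` to the structure module. -/
theorem hom_eq_zero_of [IsLocallyNoetherian X] {A B : X.Modules} (hB : FlatMod.IsFinLocFree B)
    (h : ∀ g : A ⟶ B, g = 0) (φ : RefHull.homSh B A ⟶ Coh.structureModule X) : φ = 0 := by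
  haveI := isIso_theta hB A
  haveI := isIso_bidualMap hB
  rw [← cancel_epi (theta B A), comp_zero]
  refine eq_zero_of_curry ?_
  rw [← cancel_mono (inv (RefHull.bidualMap B)), zero_comp]
  exact h _

end Groth.Agent.BunLib68
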