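import Groth.Agent.BunLib68.Free

/-!
# The dual of a tensor product of bundles
-/

universe u

set_option backward.isDefEq.respectTransparency false
set_option backward.isDefEq.respectTransparency.types false
set_option linter.style.haveILetI false
set_option linter.unusedSectionVars false
set_option linter.unusedVariables false
set_option synthInstance.maxHeartbeats 100000

open CategoryTheory CategoryTheory.Limits AlgebraicGeometry TopologicalSpace Opposite
open scoped TensorProduct

noncomputable section

namespace Groth.Agent.BunLib68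

variable {X : Scheme.{u}} (A B : X.Modules)

/-- Currying on the stalks, landing in the stalk of the dual. -/
def curryStalk (hA : FlatMod.IsFinLocFree A) (x : X) :
    RefHull.StalkHom (CohB1.tensorMod A B) (Coh.structureModule X) x →ₗ[X.presheaf.stalk x]
      RefHull.StalkHom B (RefHull.dual A) x where
  toFun f := (LinearEquiv.ofBijective _ (evalStalk_bij (G := Coh.structureModule X) hA x)).symm.toLinearMap.comp
    ((stalkPair A B x).compr₂ f)
  map_add' f g := by
    refine LinearMap.ext fun b => ?_
    show (LinearEquiv.ofBijective _ (evalStalk_bij (G := Coh.structureModule X) hA x)).symm ((f + g).comp (stalkPair A B x b)) = _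
    rw [LinearMap.add_comp, map_add]
    rfl
  map_smul' r f := by
    refine LinearMap.ext fun b => ?_
    show (LinearEquiv.ofBijective _ (evalStalk_bij (G := Coh.structureModule X) hA x)).symm ((r • f).comp (stalkPair A B x b)) = _
    rw [LinearMap.smul_comp, map_smul]
    rfl

theorem evalStalk_curryStalk (hA : FlatMod.IsFinLocFree A) (x : X)
    (f : RefHull.StalkHom (CohB1.tensorMod A B) (Coh.structureModule X) x) (b : B.presheaf.stalk x) :
    RefHull.evalStalk A (Coh.structureModule X) x (curryStalk A B hA x f b) = f.comp (stalkPair A B x b) :=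
  (LinearEquiv.ofBijective _ (evalStalk_bij (G := Coh.structureModule X) hA x)).apply_symm_apply _

/-- Currying on sections of the dual. -/
def dualCurryFun (hA : FlatMod.IsFinLocFree A) (U : X.Opens) :
    Γ(RefHull.dual (CohB1.tensorMod A B), U) →+ Γ(RefHull.homSh B (RefHull.dual A), U) where
  toFun g := ⟨fun y => curryStalk A B hA y.1 (g.1 y), fun V i b x => by
    let n : Γ(RefHull.dual A, V) :=
      ⟨fun y => (g.1 ⟨y.1, i.le y.2⟩).comp (stalkPair A B y.1 (B.presheaf.germ V y.1 y.2 b)),
        fun V' i' a x' => by
          obtain ⟨W, hW, j, o, w⟩ := RefHull.isLocSect_of_mem g V' (i' ≫ i)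
            (SecTwist.tmul A B V' a (AModX.res B i'.le b)) x'
          refine ⟨W, hW, j, o, fun y => ?_⟩
          have e := w y
          dsimp only at e ⊢
          rw [LinearMap.comp_apply, germ_pair y.1 (i'.le (j.le y.2)) (j.le y.2) a b i'.le]
          exact e⟩
    refine ⟨V, x.2, 𝟙 V, n, fun y => ?_⟩
    refine (evalStalk_bij (G := Coh.structureModule X) hA y.1).1 ?_
    dsimp only
    rw [evalStalk_curryStalk, RefHull.evalStalk_germ]⟩
  map_zero' := Subtype.ext <| funext fun y => map_zero (curryStalk A B hA y.1)
  map_add' g g' := Subtype.ext <| funext fun y => map_add (curryStalk A B hA y.1) _ _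

/-- Currying, as a morphism. -/
def dualCurry (hA : FlatMod.IsFinLocFree A) :
    RefHull.dual (CohB1.tensorMod A B) ⟶ RefHull.homSh B (RefHull.dual A) :=
  ⟨PresheafOfModules.homMk
    { app := fun U => AddCommGrpCat.ofHom (dualCurryFun A B hA U.unop)
      naturality := fun {U V} i => rfl }
    (fun U r g => Subtype.ext <| funext fun y => map_smul (curryStalk A B hA y.1) _ _)⟩

theorem isIso_dualCurry (hA : FlatMod.IsFinLocFree A) (hB : FlatMod.IsFinLocFree B) :
    IsIso (dualCurry A B hA) := by
  refine ZClosLib.isIso_of_stalkMap_bijective _ fun x => ?_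
  show Function.Bijective (RefHull.stalkMapₗ (dualCurry A B hA) x)
  have key : ∀ θ, RefHull.evalStalk B (RefHull.dual A) x (RefHull.stalkMapₗ (dualCurry A B hA) x θ) =
      curryStalk A B hA x (RefHull.evalStalk (CohB1.tensorMod A B) (Coh.structureModule X) x θ) := by
    intro θ
    obtain ⟨U, hx, g, rfl⟩ := TopCat.Presheaf.exists_germ_eq (RefHull.dual (CohB1.tensorMod A B)).presheaf θ
    rw [RefHull.stalkMapₗ_germ]
    refine (RefHull.evalStalk_germ (F := B) (G := RefHull.dual A) x hx _).trans ?_
    show curryStalk A B hA x (g.1 ⟨x, hx⟩) = _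
    exact congrArg (curryStalk A B hA x)
      (RefHull.evalStalk_germ (F := CohB1.tensorMod A B) (G := Coh.structureModule X) x hx g).symm
  let e := (KFlatLib.stalkTensorIso x A B).toLinearEquiv
  have hc : Function.Bijective (curryStalk A B hA x) := by
    refine ⟨fun f g h => ?_, fun ψ => ?_⟩
    · refine LinearMap.ext fun t => ?_
      obtain ⟨t, rfl⟩ := e.surjective t
      induction t using TensorProduct.induction_on with
      | zero => simp
      | add p q hp hq =>
        simp only [map_add] at hp hq ⊢
        rw [hp, hq]
      | tmul a b =>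
        have h1 := congrArg (fun m => RefHull.evalStalk A (Coh.structureModule X) x (m b)) h
        simp only [evalStalk_curryStalk] at h1
        exact LinearMap.congr_fun h1 a
    · let bil : A.presheaf.stalk x →ₗ[X.presheaf.stalk x] B.presheaf.stalk x →ₗ[X.presheaf.stalk x]
          (Coh.structureModule X).presheaf.stalk x :=
        ((RefHull.evalStalk A (Coh.structureModule X) x).comp ψ).flip
      refine ⟨(TensorProduct.lift bil).comp e.symm.toLinearMap, LinearMap.ext fun b => ?_⟩
      refine (evalStalk_bij (G := Coh.structureModule X) hA x).1 ?_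
      rw [evalStalk_curryStalk]
      refine LinearMap.ext fun a => ?_
      show TensorProduct.lift bil (e.symm (e (a ⊗ₜ b))) = _
      rw [LinearEquiv.symm_apply_apply, TensorProduct.lift.tmul]
      rfl
  have h2 : Function.Bijective
      ((RefHull.evalStalk B (RefHull.dual A) x) ∘ (RefHull.stalkMapₗ (dualCurry A B hA) x)) := by
    rw [show (RefHull.evalStalk B (RefHull.dual A) x) ∘ (RefHull.stalkMapₗ (dualCurry A B hA) x) =
      (curryStalk A B hA x) ∘ (RefHull.evalStalk (CohB1.tensorMod A B) (Coh.structureModule X) x) from funext key]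
    exact hc.comp (evalStalk_bij (KFlatLib.isFinLocFree_tensor hA hB) x)
  exact (Function.Bijective.of_comp_iff' (evalStalk_bij hB x) _).1 h2

/-- `(A ⊗ B)^∨ ≅ B^∨ ⊗ A^∨`. -/
theorem nonempty_iso_dual_tensor (hA : FlatMod.IsFinLocFree A) (hB : FlatMod.IsFinLocFree B) :
    Nonempty (RefHull.dual (CohB1.tensorMod A B) ≅ CohB1.tensorMod (RefHull.dual B) (RefHull.dual A)) := by
  haveI := isIso_dualCurry A B hA hB
  haveI := isIso_theta hB (RefHull.dual A)
  exact ⟨asIso (dualCurry A B hA) ≪≫ (asIso (theta B (RefHull.dual A))).symm⟩

end Groth.Agent.BunLib68
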