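import Groth.Agent.BunLib68.Free
import Groth.Agent.Lib.CurveCanonical

/-!
# Genus one: the dual of the kernel of the evaluation map of a semistable bundle

From a semistable bundle of rank `r` and degree `D > r` we get a semistable bundle of rank `D - r`
and degree `D`; it is stable if the bundle we start with is.
-/

universe u

set_option backward.isDefEq.respectTransparency false
set_option backward.isDefEq.respectTransparency.types false
set_option linter.style.haveILetI false
set_option linter.unusedSectionVars false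
set_option linter.unusedVariables false
set_option synthInstance.maxHeartbeats 100000

open CategoryTheory CategoryTheory.Limits AlgebraicGeometry TopologicalSpace Opposite
open Groth.Agent.PnCoh.Finite (mapLin)

noncomputable section

namespace Groth.Agent.BunLib68

open Groth.Agent.CurveBundle Groth.Agent.CurveSlope Groth.Agent.CurveStable

variable {X : Scheme.{u}} (k : Type u) [Field k] [X.Over (Spec (CommRingCat.of k))] [IsIntegral X]
  [IsProper (X ↘ Spec (CommRingCat.of k))] [Smooth (X ↘ Spec (CommRingCat.of k))]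
  (hdim : topologicalKrullDim X = 1) (hO : Module.finrank k (Coh.HH X (Coh.structureModule X) 0) = 1)
  (hg : Curv2.genus k X = 1)
include hdim hO hg

omit hdim hg in
theorem euler_one_eq_zero (hdim : topologicalKrullDim X = 1) (hg : Curv2.genus k X = 1) :
    Curv2.euler k X (Coh.structureModule X) = 0 := by
  rw [CurveDuality.euler_structure k hO hdim, hg]
  norm_num

theorem euler_eq_dg {F : X.Modules} : Curv2.euler k X F = dg k F := by
  unfold dg
  rw [euler_one_eq_zero k hO hdim hg, mul_zero, sub_zero]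

/-- A bundle with no maps to `O` has as many sections as its degree. -/
theorem h0_of_hom_eq_zero {F : X.Modules} (hF : FlatMod.IsFinLocFree F)
    (h : ∀ φ : F ⟶ Coh.structureModule X, φ = 0) :
    Subsingleton (Coh.HH X F 1) ∧ (Module.finrank k (Coh.HH X F 0) : ℤ) = dg k F := by
  haveI := isLocallyNoetherian' k (X := X)
  obtain ⟨ω, μ, hω⟩ := CurveDuality.exists_isDualizing k (X := X) hdim
  obtain ⟨e⟩ := CurveDuality.nonempty_iso_of_genus_one k hO hω hdim hg
  have h1 : Subsingleton (Coh.HH X F 1) :=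
    (CurveDuality.subsingleton_HH_one_iff k hω hdim hF).2 fun φ => by
      rw [← cancel_mono e.inv, zero_comp]
      exact h _
  refine ⟨h1, ?_⟩
  have h2 := CurveRR.euler_eq_h0_sub_h1 k hdim.le (coh_of_free k hF).1
  rw [euler_eq_dg k hdim hO hg, Module.finrank_zero_of_subsingleton (M := Coh.HH X F 1)] at h2
  simpa using h2.symm

/-- The inequality behind the semistability: `Q₁` is a quotient of the dual of the kernel, of least
slope. -/
theorem key_inequality {n : ℕ} {A Q Q₁ : X.Modules} (i : A ⟶ FlatMod.freeMod X n)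
    (p : FlatMod.freeMod X n ⟶ Q) (w : i ≫ p = 0) (hS : (ShortComplex.mk i p w).ShortExact)
    (hA : FlatMod.IsFinLocFree A) (hQ : FlatMod.IsFinLocFree Q) (hAs : SS k A) (hn : (n : ℤ) = -dg k A)
    (hQO : ∀ φ : Q ⟶ Coh.structureModule X, φ = 0) (π : Q ⟶ Q₁) [Epi π]
    (hQ₁ : FlatMod.IsFinLocFree Q₁) (hb : 0 < rk Q₁) (hA0 : 0 < rk A)
    (hmin : ∀ (K : X.Modules) (j : K ⟶ Q), Mono j → FlatMod.IsFinLocFree K →
      dg k Q₁ * ((rk Q : ℤ) - rk K) ≤ (dg k Q - dg k K) * (rk Q₁ : ℤ)) :
    (rk A : ℤ) * dg k Q₁ ≤ (dg k Q₁ - rk Q₁) * (-dg k A) ∧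
      (St k A → (rk A : ℤ) * dg k Q₁ = (dg k Q₁ - rk Q₁) * (-dg k A) → rk Q₁ = rk Q) := by
  haveI := isLocallyNoetherian' k (X := X)
  haveI : Epi p := hS.epi_g
  have hQ₁O : ∀ φ : Q₁ ⟶ Coh.structureModule X, φ = 0 := fun φ => by
    rw [← cancel_epi π, comp_zero]
    exact hQO _
  obtain ⟨-, he⟩ := h0_of_hom_eq_zero k hdim hO hg hQ₁ hQ₁O
  obtain ⟨σ, hσ⟩ := exists_free_gen k hO (coh_of_free k hQ₁)
  obtain ⟨C, hC⟩ := exists_lift_free k σ hσ.2 (p ≫ π)
  obtain ⟨W, c, l, hl, hc, hfac, hkC, hW, hrk, hdgC, -, hwe⟩ :=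
    exists_decomp k hdim.le (KFlatLib.isFinLocFree_freeMod n) (KFlatLib.isFinLocFree_freeMod _) C
  rw [rk_free] at hwe
  have hWd : dg k W ≤ 0 := dg_le_zero_of_mono_free k hdim.le _ W l hl hW
  obtain ⟨I, πI, j, hj, hπI, hIfac, hK', hI, hrA, hdA, hposI, -⟩ := exists_decomp k hdim.le hA hW (i ≫ c)
  haveI := hj
  haveI := hπI
  haveI := hc
  have hWc := coh_of_free k hW
  have hN : Coh.IsCoh (cokernel j) := QCoh.isCoh_cokernel (coh_of_free k hI).1 hWc j
  have hrW := rk_add_coh k _ _ _ (shortExact_cokernel_of_mono j) hWc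
  have hdW := dg_add k _ _ _ (shortExact_cokernel_of_mono j) (coh_of_free k hI) hWc hN
  -- `Q ⟶ W / I`
  have hw0 : i ≫ c ≫ cokernel.π j = 0 := by
    rw [← Category.assoc, ← hIfac, Category.assoc, cokernel.condition, comp_zero]
  haveI : Epi (c ≫ cokernel.π j) := epi_comp _ _
  let θ : Q ⟶ cokernel j := hS.exact.desc (c ≫ cokernel.π j) hw0
  have hθ : p ≫ θ = c ≫ cokernel.π j := hS.exact.g_desc (c ≫ cokernel.π j) hw0
  haveI : Epi (p ≫ θ) := hθ ▸ inferInstance
  haveI : Epi θ := epi_of_epi p θ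
  have hQc := coh_of_free k hQ
  have hKc := QCoh.isCoh_kernel hQc hN θ
  have hKf := isFinLocFree_of_mono k hdim.le hKc (kernel.ι θ) hQ
  have hrK := rk_add_coh k _ _ _ (shortExact_kernel_of_epi θ) hQc
  have hdK := dg_add k _ _ _ (shortExact_kernel_of_epi θ) hKc hQc hN
  have hm := hmin _ (kernel.ι θ) inferInstance hKf
  -- `W / I ⟶ Q₁`
  have hlσ : j ≫ l ≫ σ = 0 := by
    rw [← cancel_epi πI, comp_zero, ← Category.assoc, hIfac, Category.assoc, ← Category.assoc c,
      hfac, hC, ← Category.assoc, w, zero_comp]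
  let η : cokernel j ⟶ Q₁ := cokernel.desc j (l ≫ σ) hlσ
  haveI : Epi (p ≫ π) := epi_comp _ _
  haveI : Epi ((c ≫ cokernel.π j) ≫ η) := by
    rw [Category.assoc, cokernel.π_desc, ← Category.assoc, hfac, hC]
    infer_instance
  haveI : Epi η := epi_of_epi (c ≫ cokernel.π j) η
  have hQ₁c := coh_of_free k hQ₁
  have hrη := rk_add_coh k _ _ _ (shortExact_kernel_of_epi η) hN
  have hNb : rk Q₁ ≤ rk (cokernel j) := by omega
  -- semistability of `A`
  have h5 := hAs _ (kernel.ι (i ≫ c)) inferInstance hK'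
  -- arithmetic
  have e1 : (rk Q : ℤ) = (rk (kernel θ) : ℤ) + (rk (cokernel j) : ℤ) := by exact_mod_cast hrK
  have e2 : (rk W : ℤ) = (rk I : ℤ) + (rk (cokernel j) : ℤ) := by exact_mod_cast hrW
  have e3 : (rk A : ℤ) = (rk (kernel (i ≫ c)) : ℤ) + (rk I : ℤ) := by exact_mod_cast hrA
  have e4 : (rk W : ℤ) ≤ dg k Q₁ := by rw [← he]; exact_mod_cast hwe
  have e5 : (rk Q₁ : ℤ) ≤ (rk (cokernel j) : ℤ) := by exact_mod_cast hNb
  have hb' : (0 : ℤ) < rk Q₁ := by exact_mod_cast hb
  have heq0 : (0 : ℤ) ≤ dg k Q₁ := by rw [← he]; exact Int.natCast_nonneg _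
  have m1 : dg k Q₁ * (rk Q₁ : ℤ) ≤ (-dg k I) * (rk Q₁ : ℤ) := by
    have a1 := mul_le_mul_of_nonneg_left e5 heq0
    have a2 := mul_le_mul_of_nonneg_right hWd hb'.le
    have t1 : dg k Q - dg k (kernel θ) = dg k W - dg k I := by linarith
    have t2 : (rk Q : ℤ) - rk (kernel θ) = rk (cokernel j) := by linarith
    rw [t1, t2, sub_mul] at hm
    linarith
  have m2 : dg k Q₁ ≤ -dg k I := le_of_mul_le_mul_right m1 hb'
  have m3 : (rk I : ℤ) ≤ dg k Q₁ - rk Q₁ := by linarith
  have m4 : (-dg k I) * (rk A : ℤ) ≤ (rk I : ℤ) * (-dg k A) := by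
    linear_combination h5 - (dg k A) * e3 + (rk A : ℤ) * hdA
  have hA0' : (0 : ℤ) < rk A := by exact_mod_cast hA0
  have m5 := mul_le_mul_of_nonneg_left m2 hA0'.le
  rcases Nat.eq_zero_or_pos (rk I) with hI0 | hI0
  · exfalso
    rw [dg_eq_zero_of_isZero k (isZero_of_rk_zero hI hI0), neg_zero] at m2
    linarith
  have hI0' : (0 : ℤ) < rk I := by exact_mod_cast hI0
  have hAneg : 0 < -dg k A := by
    by_contra hc'
    push Not at hc'
    have := mul_nonpos_of_nonneg_of_nonpos hI0'.le hc'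
    have : (0 : ℤ) < (-dg k I) * (rk A : ℤ) := mul_pos (by linarith) hA0'
    linarith
  have m6 := mul_le_mul_of_nonneg_right m3 hAneg.le
  refine ⟨by linarith, fun hst heq => ?_⟩
  -- the kernel vanishes
  have hk0 : rk (kernel (i ≫ c)) = 0 := by
    by_contra hne
    have := hst _ (kernel.ι (i ≫ c)) inferInstance hK' (Nat.pos_of_ne_zero hne) (by omega)
    have m4' : (-dg k I) * (rk A : ℤ) < (rk I : ℤ) * (-dg k A) := by
      linear_combination this - (dg k A) * e3 + (rk A : ℤ) * hdA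
    linarith
  have hk0' : (rk (kernel (i ≫ c)) : ℤ) = 0 := by exact_mod_cast hk0
  have q1 : (rk I : ℤ) = dg k Q₁ - rk Q₁ :=
    le_antisymm m3 (le_of_mul_le_mul_right (a := -dg k A) (by linarith) hAneg)
  have q2 : (rk I : ℤ) = rk A := by rw [e3, hk0', zero_add]
  -- `b = n - rk A`
  have q3 : dg k Q₁ = -dg k A := by
    refine mul_left_cancel₀ hA0'.ne' ?_
    rw [heq, ← q1, q2]
  have hrS := rk_add_coh k i p w hS (coh_free k n)
  rw [rk_free] at hrS
  have e6 : (n : ℤ) = rk A + rk Q := by exact_mod_cast hrS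
  exact_mod_cast (show (rk Q₁ : ℤ) = rk Q by linarith)

omit hg hO in
theorem ss_one : SS k (Coh.structureModule X) := by
  haveI := isLocallyNoetherian' k (X := X)
  intro K i hi hK
  haveI := hi
  rw [rk_one, dg_one, zero_mul, Nat.cast_one, mul_one]
  rcases isZero_or_pos k hK with h | h
  · rw [dg_eq_zero_of_isZero k h]
  · have hle := rk_le_of_mono k i (coh_of_free k isFinLocFree_one)
    rw [rk_one] at hle
    have hK1 : FlatMod.IsFinLocFreeOfRank 1 K := (show rk K = 1 by omega) ▸ isFinLocFreeOfRank_rk hK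
    have hi0 : i ≠ 0 := fun h0 => by
      rw [rk_eq_zero_of_isZero (IsZero.of_mono_eq_zero i h0)] at h
      omega
    have := (CurveDeg.deg_le_and_isIso k hdim.le (CurveDuality.isInvertible_of_rank_one hK1)
      CurveDeg.isInvertible_structureModule i hi0).1
    rwa [CurveDeg.deg_structureModule, deg_eq_dg k hK1] at this

omit hdim hO hg in
/-- A map to a globally generated module which is surjective on sections is an epimorphism. -/
theorem epi_of_surjective_h0 {A F : X.Modules} (σ : A ⟶ F) (hσ : Function.Surjective (mapLin k σ 0))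
    (hgen : Curv2.IsGloballyGenerated F) : Epi σ := by
  obtain ⟨ι, q, hq⟩ := hgen
  let q' : (∐ fun _ : ι => Coh.structureModule X) ⟶ F := q
  haveI : Epi q' := hq
  choose u hu using fun i => hσ (mapLin k (Sigma.ι (fun _ : ι => Coh.structureModule X) i ≫ q') 0 oneClass)
  have : Sigma.desc (fun i => CurveSpecial.homOfClass (u i)) ≫ σ = q' := Sigma.hom_ext _ _ fun i => by
    rw [Sigma.ι_desc_assoc]
    refine mapLin_oneClass_injective k ?_
    rw [← FFun.mapLin_comp, mapLin_homOfClass, hu]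
  haveI : Epi (Sigma.desc (fun i => CurveSpecial.homOfClass (u i)) ≫ σ) := this ▸ inferInstance
  exact epi_of_epi (Sigma.desc fun i => CurveSpecial.homOfClass (u i)) σ

theorem exists_dual_kernel [IsAlgClosed k] {F : X.Modules} (hF : FlatMod.IsFinLocFree F) (hFs : SS k F)
    (hr : 0 < rk F) (hlt : (rk F : ℤ) < dg k F) :
    ∃ Q : X.Modules, FlatMod.IsFinLocFree Q ∧ (rk Q : ℤ) = dg k F - rk F ∧ dg k Q = dg k F ∧
      SS k Q ∧ (St k F → St k Q) := by
  haveI := isLocallyNoetherian' k (X := X)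
  have hr' : (0 : ℤ) < rk F := by exact_mod_cast hr
  have hFc := coh_of_free k hF
  -- sections
  have hFO : ∀ φ : F ⟶ Coh.structureModule X, φ = 0 := hom_eq_zero_of_slope k hdim.le hF isFinLocFree_one hFs
    (ss_one k hdim) (by rw [dg_one, zero_mul, rk_one, Nat.cast_one, mul_one]; linarith)
  obtain ⟨-, hh0⟩ := h0_of_hom_eq_zero k hdim hO hg hF hFO
  have hgen : Curv2.IsGloballyGenerated F := by
    refine CurveGenerated.isGloballyGenerated_of_h1 k (isFinLocFreeOfRank_rk hF) fun x hx => ?_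
    refine CurveDuality.subsingleton_HH_one_twist k hO hdim hF (CurvePoint.isInvertible_ptMod x hx k hdim)
      fun K i hi hK hrK => ?_
    rw [CurvePoint.deg_ptMod x hx k, hg]
    have h := hFs K i hi hK
    have e : (rk F : ℤ) = rk K + 1 := by exact_mod_cast hrK
    have : dg k K * (rk F : ℤ) < (dg k F - 1) * (rk F : ℤ) := by
      calc dg k K * (rk F : ℤ) ≤ dg k F * (rk K : ℤ) := h
        _ < (dg k F - 1) * (rk F : ℤ) := by
          rw [show (rk K : ℤ) = rk F - 1 by linarith, mul_sub, sub_mul, one_mul, mul_one]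
          linarith
    have := lt_of_mul_lt_mul_right this hr'.le
    push_cast
    linarith
  obtain ⟨σ, hσ⟩ := exists_free_gen k hO hFc
  generalize hn : Module.finrank k (Coh.HH X F 0) = n at σ hh0
  haveI : Epi σ := epi_of_surjective_h0 k σ hσ.2 hgen
  -- the kernel and the dual sequence
  have hPf := KFlatLib.isFinLocFree_freeMod (X := X) n
  have hMc := QCoh.isCoh_kernel (coh_free k n) hFc σ
  have hM := isFinLocFree_of_mono k hdim.le hMc (kernel.ι σ) hPf
  have hS0 := shortExact_kernel_of_epi σ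
  have hMO : ∀ g : Coh.structureModule X ⟶ kernel σ, g = 0 := fun g =>
    hom_eq_zero_of_h0 k (kernel.ι σ) σ (kernel.condition σ) hσ.1 g
  have hQO : ∀ φ : RefHull.dual (kernel σ) ⟶ Coh.structureModule X, φ = 0 := hom_eq_zero_of hM hMO
  obtain ⟨w, hT⟩ := shortExact_comap hS0 hM hPf hF (Coh.structureModule X)
  obtain ⟨e⟩ := nonempty_iso_dual_free k hdim n
  haveI := hT.mono_f
  haveI := hT.epi_g
  let i : RefHull.dual F ⟶ FlatMod.freeMod X n := comap (Coh.structureModule X) σ ≫ e.inv
  let p : FlatMod.freeMod X n ⟶ RefHull.dual (kernel σ) := e.hom ≫ comap (Coh.structureModule X) (kernel.ι σ)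
  have w' : i ≫ p = 0 := by
    simp only [i, p, Category.assoc, e.inv_hom_id_assoc]
    exact w
  let ee : ShortComplex.mk (comap (Coh.structureModule X) σ) (comap (Coh.structureModule X) (kernel.ι σ)) w ≅
      ShortComplex.mk i p w' := ShortComplex.isoMk (Iso.refl _) e.symm (Iso.refl _)
      (Category.id_comp _)
      ((e.inv_hom_id_assoc _).trans (Category.comp_id _).symm)
  have hS : (ShortComplex.mk i p w').ShortExact := ShortComplex.shortExact_of_iso ee hT
  let Q := RefHull.dual (kernel σ)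
  have hQ : FlatMod.IsFinLocFree Q := isFinLocFree_dual k hM
  have hA := isFinLocFree_dual k hF
  have hQc := coh_of_free k hQ
  have hdA : dg k (RefHull.dual F) = - dg k F := dg_dual k hdim hF
  have hrA : rk (RefHull.dual F) = rk F := rk_dual hF
  have hnD : (n : ℤ) = - dg k (RefHull.dual F) := by rw [hdA, neg_neg, hh0]
  have hdQ := dg_add k i p w' hS (coh_of_free k hA) (coh_free k n) hQc
  rw [dg_free, hdA] at hdQ
  have hrQ := rk_add_coh k i p w' hS (coh_free k n)
  rw [rk_free, hrA] at hrQ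
  have hdQ' : dg k Q = dg k F := by linarith
  have hrQ' : (rk Q : ℤ) = dg k F - rk F := by
    have : (n : ℤ) = rk F + rk Q := by exact_mod_cast hrQ
    linarith
  have hn0 : (0 : ℤ) < rk Q := by linarith
  have key := fun (Q₁ : X.Modules) (π : Q ⟶ Q₁) (hπ : Epi π) (h₁ : FlatMod.IsFinLocFree Q₁) (hb : 0 < rk Q₁) =>
    @key_inequality X k _ _ _ _ _ hdim hO hg n _ Q Q₁ i p w' hS hA hQ (ss_dual k hdim hF hFs) hnD hQO π hπ h₁ hb
      (hrA ▸ hr)
  -- semistability
  have hQs : SS k Q := by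
    have hDQ := isFinLocFree_dual k hQ
    obtain ⟨E, j, hj, hpos, hE, hC, -, hall, -, -⟩ :=
      exists_destab k hdim.le hDQ (by rw [rk_dual hQ]; exact_mod_cast hn0)
    haveI := hj
    obtain ⟨w2, hT2⟩ := shortExact_comap (shortExact_cokernel_of_mono j) hE hDQ hC (Coh.structureModule X)
    haveI := hT2.epi_g
    haveI := isIso_bidualMap hQ
    let π : Q ⟶ RefHull.dual E := RefHull.bidualMap Q ≫ comap _ j
    haveI : Epi π := epi_comp _ _
    have hb : 0 < rk (RefHull.dual E) := by rwa [rk_dual hE]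
    have hmin : ∀ (K : X.Modules) (l : K ⟶ Q), Mono l → FlatMod.IsFinLocFree K →
        dg k (RefHull.dual E) * ((rk Q : ℤ) - rk K) ≤ (dg k Q - dg k K) * (rk (RefHull.dual E) : ℤ) := by
      intro K l hl hK
      haveI := hl
      obtain ⟨G, l', hl', hG, hrG, hdG⟩ := exists_sub_of_dual k hdim hDQ (l ≫ RefHull.bidualMap Q) hK
      have h1 := hall G l' hl' hG
      have h2 := mul_le_mul_of_nonneg_right hdG (Int.natCast_nonneg (rk E))
      rw [rk_dual hQ] at hrG
      have h3 : (rk Q : ℤ) = rk K + rk G := by exact_mod_cast hrG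
      rw [dg_dual k hdim hQ] at h2
      rw [dg_dual k hdim hE, rk_dual hE]
      linear_combination h1 + h2 - (dg k E) * h3
    obtain ⟨hk, -⟩ := key _ π inferInstance (isFinLocFree_dual k hE) hb hmin
    rw [hdA, neg_neg, hrA] at hk
    intro K l hl hK
    have hm := hmin K l hl hK
    have hb' : (0 : ℤ) < rk (RefHull.dual E) := by exact_mod_cast hb
    haveI := hl
    have hKn : (0 : ℤ) ≤ (rk Q : ℤ) - rk K := by
      have : (rk K : ℤ) ≤ rk Q := by exact_mod_cast rk_le_of_mono k l hQc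
      linarith
    have a1 := mul_le_mul_of_nonneg_right hm hn0.le
    have a2 := mul_le_mul_of_nonneg_right hk hKn
    rw [hdQ']
    refine le_of_mul_le_mul_right ?_ hb'
    rw [hdQ'] at a1
    linear_combination a1 + a2 + (dg k (RefHull.dual E) * ((rk K : ℤ) - rk Q)) * hrQ'
  refine ⟨Q, hQ, hrQ', hdQ', hQs, fun hst K l hl hK hpos hlt' => ?_⟩
  haveI := hl
  refine lt_of_le_of_ne (hQs K l hl hK) fun heq => ?_
  obtain ⟨G, j, hj, hG, hC, hrG, hdG, hr2, hd2⟩ := exists_saturation k hdim.le hQ l hK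
  haveI := hj
  have hb : 0 < rk (cokernel j) := by omega
  have h1 := hQs G j hj hG
  have h2 := mul_le_mul_of_nonneg_right hdG hn0.le
  have z1 : (rk G : ℤ) = rk K := by exact_mod_cast hrG
  have z2 : (rk Q : ℤ) = rk G + rk (cokernel j) := by exact_mod_cast hr2
  have hG2 : dg k G * (rk Q : ℤ) = dg k Q * (rk G : ℤ) :=
    le_antisymm h1 (by rw [z1, ← heq]; exact h2)
  have hN2 : dg k (cokernel j) * (rk Q : ℤ) = dg k Q * (rk (cokernel j) : ℤ) := by
    linear_combination (-(rk Q : ℤ)) * hd2 - hG2 + (dg k Q) * z2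
  obtain ⟨-, he⟩ := key _ (cokernel.π j) inferInstance hC hb fun K' l' hl' hK' => by
    refine le_of_mul_le_mul_right ?_ hn0
    have h3 := mul_le_mul_of_nonneg_right (hQs K' l' hl' hK') (Int.natCast_nonneg (rk (cokernel j)))
    linear_combination h3 + ((rk Q : ℤ) - rk K') * hN2
  have hb2 := he (st_dual k hdim hF hst) (by
    rw [hdA, neg_neg, hrA]
    rw [hdQ'] at hN2
    linear_combination -hN2 + (dg k (cokernel j)) * hrQ')
  omega

end Groth.Agent.BunLib68
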