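import Groth.Agent.BunLib68.Slope

/-!
# Finite free modules on a curve, lifting of sections, duals of semistable bundles
-/

universe u

set_option backward.isDefEq.respectTransparency false
set_option backward.isDefEq.respectTransparency.types false
set_option linter.style.haveILetI false
set_option linter.unusedSectionVars false
set_option linter.unusedVariables false
set_option synthInstance.maxHeartbeats 100000

open CategoryTheory CategoryTheory.Limits AlgebraicGeometry TopologicalSpace Opposite
open Groth.Agent.PnCoh.Finite (mapLin)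

noncomputable section

namespace Groth.Agent.BunLib68

open Groth.Agent.CurveBundle Groth.Agent.CurveSlope Groth.Agent.CurveStable

variable {X : Scheme.{u}}

theorem comap_zero {F F' G : X.Modules} : comap G (0 : F' ⟶ F) = 0 :=
  hom_ext_homSh fun U f y => by
    rw [comap_app_val, stalkMapₗ_eq, Functor.map_zero]
    exact LinearMap.comp_zero _

/-- `freeMod (n + 1) ≅ O ⊞ freeMod n`. -/
def freeSuccIso (n : ℕ) : FlatMod.freeMod X (n + 1) ≅ Coh.structureModule X ⊞ FlatMod.freeMod X n where
  hom := Sigma.desc (Fin.cases biprod.inl fun i => Sigma.ι (fun _ : Fin n => Coh.structureModule X) i ≫ biprod.inr)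
  inv := biprod.desc (Sigma.ι (fun _ : Fin (n + 1) => Coh.structureModule X) 0)
    (Sigma.desc fun i => Sigma.ι (fun _ : Fin (n + 1) => Coh.structureModule X) i.succ)
  hom_inv_id := by
    refine Sigma.hom_ext _ _ fun i => ?_
    refine Fin.cases ?_ (fun i => ?_) i <;> simp
  inv_hom_id := by
    refine biprod.hom_ext' _ _ (by simp) (Sigma.hom_ext _ _ fun i => by simp)

theorem isFinLocFreeOfRank_freeMod (n : ℕ) : FlatMod.IsFinLocFreeOfRank n (FlatMod.freeMod X n) := fun x =>
  ⟨⊤, trivial, ⟨(Scheme.Modules.restrictFunctorIsoPullback _).app _ ≪≫ KFlatLib.pullFreeIso _ n⟩⟩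

theorem isFinLocFree_one : FlatMod.IsFinLocFree (Coh.structureModule X) :=
  isFinLocFree_of_rank (InvEnd.isFinLocFreeOfRank_one (CurveDeg.isInvertible_structureModule (X := X)))

/-- The degree zero class `1`. -/
def oneClass : Coh.HH X (Coh.structureModule X) 0 :=
  (Sheaf.H.equiv₀ (Coh.toAb (Coh.structureModule X)) isTerminalTop).symm (H23.Frame.one ⊤)

variable (k : Type u) [Field k] [X.Over (Spec (CommRingCat.of k))]

theorem equiv0_mapLin {A B : X.Modules} (f : A ⟶ B) (t : Coh.HH X A 0) :
    (Sheaf.H.equiv₀ (Coh.toAb B) isTerminalTop (mapLin k f 0 t) : Γ(B, ⊤)) =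
      f.app ⊤ (Sheaf.H.equiv₀ (Coh.toAb A) isTerminalTop t : Γ(A, ⊤)) :=
  (Sheaf.H.equiv₀_naturality isTerminalTop ((QCoh.toAbFunctor X).map f) t).symm

theorem mapLin_oneClass_injective {A : X.Modules} {f g : Coh.structureModule X ⟶ A}
    (h : mapLin k f 0 oneClass = mapLin k g 0 oneClass) : f = g := by
  refine CurveRR.hom_ext_one ?_
  have h1 := congrArg (fun t => (Sheaf.H.equiv₀ (Coh.toAb A) isTerminalTop t : Γ(A, ⊤))) h
  simp only [equiv0_mapLin, oneClass, AddEquiv.apply_symm_apply] at h1
  exact h1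

theorem mapLin_homOfClass {A : X.Modules} (t : Coh.HH X A 0) :
    mapLin k (CurveSpecial.homOfClass t) 0 oneClass = t := by
  refine (Sheaf.H.equiv₀ (Coh.toAb A) isTerminalTop).injective ?_
  refine (equiv0_mapLin k _ _).trans ?_
  rw [oneClass, AddEquiv.apply_symm_apply]
  exact CurveSpecial.homOfClass_one t

/-- Maps from a free module lift along maps surjective on sections. -/
theorem exists_lift_free {A B : X.Modules} {n : ℕ} (σ : A ⟶ B) (hσ : Function.Surjective (mapLin k σ 0))
    (f : FlatMod.freeMod X n ⟶ B) : ∃ C : FlatMod.freeMod X n ⟶ A, C ≫ σ = f := by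
  choose u hu using fun i => hσ (mapLin k (Sigma.ι (fun _ : Fin n => Coh.structureModule X) i ≫ f) 0 oneClass)
  refine ⟨Sigma.desc fun i => CurveSpecial.homOfClass (u i), Sigma.hom_ext _ _ fun i => ?_⟩
  rw [Sigma.ι_desc_assoc]
  refine mapLin_oneClass_injective k ?_
  rw [← FFun.mapLin_comp, mapLin_homOfClass, hu]

/-- No maps from `O` into a module injected on sections. -/
theorem hom_eq_zero_of_h0 {A B C : X.Modules} (f : A ⟶ B) (g : B ⟶ C) (w : f ≫ g = 0)
    (hg : Function.Injective (mapLin k g 0)) [Mono f] (ψ : Coh.structureModule X ⟶ A) : ψ = 0 := by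
  rw [← cancel_mono f, zero_comp]
  refine mapLin_oneClass_injective k (hg ?_)
  rw [FFun.mapLin_comp, FFun.mapLin_comp, Category.assoc, w, comp_zero, zero_comp]

variable [IsIntegral X] [IsProper (X ↘ Spec (CommRingCat.of k))] [Smooth (X ↘ Spec (CommRingCat.of k))]

theorem dg_one : dg k (Coh.structureModule X) = 0 := by
  rw [← deg_eq_dg k (InvEnd.isFinLocFreeOfRank_one (CurveDeg.isInvertible_structureModule (X := X))),
    CurveDeg.deg_structureModule]

theorem rk_one : rk (Coh.structureModule X) = 1 :=
  rk_eq (InvEnd.isFinLocFreeOfRank_one (CurveDeg.isInvertible_structureModule (X := X)))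

theorem rk_free (n : ℕ) : rk (FlatMod.freeMod X n) = n := rk_eq (isFinLocFreeOfRank_freeMod n)

/-- The split sequence `freeMod n ⟶ O ⊞ freeMod n ⟶ O`. -/
theorem shortExact_free (n : ℕ) :
    (ShortComplex.mk (biprod.inr : FlatMod.freeMod X n ⟶ Coh.structureModule X ⊞ FlatMod.freeMod X n)
      (biprod.fst : _ ⟶ Coh.structureModule X) biprod.inr_fst).ShortExact :=
  (ShortComplex.Splitting.mk (S := ShortComplex.mk _ _ biprod.inr_fst) biprod.snd biprod.inl
    biprod.inr_snd biprod.inl_fst (by rw [add_comm]; exact biprod.total)).shortExact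

include k in
theorem coh_free (n : ℕ) : Coh.IsCoh (FlatMod.freeMod X n) :=
  coh_of_free k (KFlatLib.isFinLocFree_freeMod n)

include k in
theorem coh_free' (n : ℕ) : Coh.IsCoh (Coh.structureModule X ⊞ FlatMod.freeMod X n) :=
  coh_of_free k (H23.PullPush.isFinLocFree_of_iso (freeSuccIso n) (KFlatLib.isFinLocFree_freeMod _))

theorem dg_free : ∀ n : ℕ, dg k (FlatMod.freeMod X n) = 0 := by
  haveI := isLocallyNoetherian' k (X := X)
  intro n
  induction n with
  | zero => exact dg_eq_zero_of_isZero k (isZero_of_rk_zero (KFlatLib.isFinLocFree_freeMod 0) (rk_free 0))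
  | succ n ih =>
    rw [dg_congr k (freeSuccIso n),
      dg_add k _ _ _ (shortExact_free n) (coh_free k n) (coh_free' k n) (coh_of_free k isFinLocFree_one),
      ih, dg_one, add_zero]

/-- Subsheaves of free modules have nonpositive degree. -/
theorem dg_le_zero_of_mono_free (hdim : topologicalKrullDim X ≤ 1) : ∀ (n : ℕ) (K : X.Modules)
    (i : K ⟶ FlatMod.freeMod X n), Mono i → FlatMod.IsFinLocFree K → dg k K ≤ 0 := by
  haveI := isLocallyNoetherian' k (X := X)
  intro n
  induction n with
  | zero =>
    intro K i hi hK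
    haveI := hi
    have h := rk_le_of_mono k i (coh_free k 0)
    rw [rk_free 0] at h
    rw [dg_eq_zero_of_isZero k (isZero_of_rk_zero hK (by omega))]
  | succ n ih =>
    intro K i hi hK
    haveI := hi
    let i' : K ⟶ Coh.structureModule X ⊞ FlatMod.freeMod X n := i ≫ (freeSuccIso n).hom
    obtain ⟨I, π, j, hj, hπ, hfac, hker, hI, hrk, hdg, hpos, hle⟩ :=
      exists_decomp k hdim hK isFinLocFree_one (i' ≫ biprod.fst)
    haveI := hj
    let l : kernel (i' ≫ biprod.fst) ⟶ FlatMod.freeMod X n := kernel.ι (i' ≫ biprod.fst) ≫ i' ≫ biprod.snd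
    haveI : Mono l := Preadditive.mono_of_cancel_zero l fun v hv => by
      rw [← cancel_mono (kernel.ι (i' ≫ biprod.fst)), zero_comp, ← cancel_mono i', zero_comp]
      refine biprod.hom_ext _ _ ?_ ?_
      · rw [zero_comp, Category.assoc, Category.assoc, kernel.condition, comp_zero]
      · rw [zero_comp, Category.assoc, Category.assoc]
        exact hv
    have h1 := ih _ l inferInstance hker
    have h2 : dg k I ≤ 0 := by
      rcases isZero_or_pos k hI with h | h
      · rw [dg_eq_zero_of_isZero k h]
      · rw [rk_one] at hle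
        have hI1 : FlatMod.IsFinLocFreeOfRank 1 I := (show rk I = 1 by omega) ▸ isFinLocFreeOfRank_rk hI
        have hj0 : j ≠ 0 := fun h0 => by
          have : IsZero I := IsZero.of_mono_eq_zero j h0
          rw [rk_eq_zero_of_isZero this] at h
          omega
        have := (CurveDeg.deg_le_and_isIso k hdim (CurveDuality.isInvertible_of_rank_one hI1)
          CurveDeg.isInvertible_structureModule j hj0).1
        rwa [CurveDeg.deg_structureModule, deg_eq_dg k hI1] at this
    omega

theorem finrank_h0_free_le (hO : Module.finrank k (Coh.HH X (Coh.structureModule X) 0) = 1) :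
    ∀ n : ℕ, Module.finrank k (Coh.HH X (FlatMod.freeMod X n) 0) ≤ n := by
  haveI := isLocallyNoetherian' k (X := X)
  intro n
  induction n with
  | zero =>
    haveI := CurveCohLib.isNoetherian_of_proper (k := k) (X := X)
    exact (CurveCohLib.finrank_HH_zero_eq_zero_of_isZero (k := k)
      (isZero_of_rk_zero (KFlatLib.isFinLocFree_freeMod 0) (rk_free 0))).le
  | succ n ih =>
    have h := CurveDuality.finrank_h0_mid_le k (shortExact_free n) (coh_free' k n)
      (coh_of_free k (isFinLocFree_one (X := X)))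
    have he := (CurveCohLib.hhEquiv (k := k) (freeSuccIso (X := X) n) 0).finrank_eq
    dsimp only at h
    omega

/-- A free module onto the sections. -/
theorem exists_free_gen (hO : Module.finrank k (Coh.HH X (Coh.structureModule X) 0) = 1)
    {A : X.Modules} (hA : Coh.IsCoh A) :
    ∃ σ : FlatMod.freeMod X (Module.finrank k (Coh.HH X A 0)) ⟶ A,
      Function.Bijective (mapLin k σ 0) := by
  haveI := CurveCohLib.isNoetherian_of_proper (k := k) (X := X)
  haveI := S0002.result k X A hA 0
  let n := Module.finrank k (Coh.HH X A 0)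
  haveI := S0002.result k X _ (coh_free k n) 0
  let b := Module.finBasis k (Coh.HH X A 0)
  let σ : FlatMod.freeMod X n ⟶ A := Sigma.desc fun i => CurveSpecial.homOfClass (b i)
  have hs : Function.Surjective (mapLin k σ 0) := by
    rw [← LinearMap.range_eq_top, ← top_le_iff, ← b.span_eq, Submodule.span_le]
    rintro _ ⟨i, rfl⟩
    exact ⟨mapLin k (Sigma.ι (fun _ : Fin n => Coh.structureModule X) i) 0 oneClass, by
      rw [FFun.mapLin_comp, Sigma.ι_desc, mapLin_homOfClass]⟩
  refine ⟨σ, ?_, hs⟩
  refine (LinearMap.injective_iff_surjective_of_finrank_eq_finrank ?_).2 hs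
  exact le_antisymm (finrank_h0_free_le k hO n) (LinearMap.finrank_le_finrank_of_surjective hs)

/-- The largest subsheaf of its rank has a locally free cokernel. -/
theorem exists_saturation (hdim : topologicalKrullDim X ≤ 1) {E K : X.Modules} (hE : FlatMod.IsFinLocFree E)
    (i : K ⟶ E) [Mono i] (hK : FlatMod.IsFinLocFree K) :
    ∃ (G : X.Modules) (j : G ⟶ E), Mono j ∧ FlatMod.IsFinLocFree G ∧
      FlatMod.IsFinLocFree (cokernel j) ∧ rk G = rk K ∧ dg k K ≤ dg k G ∧
      rk E = rk G + rk (cokernel j) ∧ dg k E = dg k G + dg k (cokernel j) := by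
  haveI := isLocallyNoetherian' k (X := X)
  obtain ⟨G, j, hj, hG, hrG, hmax⟩ := exists_max_sub k hdim hE (a := rk K) ⟨K, i, inferInstance, hK, rfl⟩
  haveI := hj
  have hEc := coh_of_free k hE
  have hGc := coh_of_free k hG
  have hQc : Coh.IsCoh (cokernel j) := QCoh.isCoh_cokernel hGc.1 hEc j
  have hS := shortExact_cokernel_of_mono j
  exact ⟨G, j, hj, hG, isFinLocFree_of_max k hdim j (cokernel.π j) _ hS hGc hE hQc
      (fun F g hg hF hrF => hmax F g hg hF (hrF.trans hrG)), hrG, hmax K i inferInstance hK rfl,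
    rk_add_coh k _ _ _ hS hEc, dg_add k _ _ _ hS hGc hEc hQc⟩

include k in
theorem isFinLocFree_dual {F : X.Modules} (hF : FlatMod.IsFinLocFree F) :
    FlatMod.IsFinLocFree (RefHull.dual F) :=
  haveI := isLocallyNoetherian' k (X := X)
  isFinLocFree_homSh hF isFinLocFree_one

theorem rk_dual {F : X.Modules} (hF : FlatMod.IsFinLocFree F) : rk (RefHull.dual F) = rk F := by
  rw [RefHull.dual, rk_homSh hF isFinLocFree_one, rk_one, mul_one]

variable (hdim : topologicalKrullDim X = 1)
include hdim

include k in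
/-- The dual of a finite free module is free. -/
theorem nonempty_iso_dual_free (n : ℕ) :
    Nonempty (FlatMod.freeMod X n ≅ RefHull.dual (FlatMod.freeMod X n)) := by
  classical
  haveI := isLocallyNoetherian' k (X := X)
  obtain ⟨e⟩ := nonempty_iso_homSh_self (InvEnd.isFinLocFreeOfRank_one (CurveDeg.isInvertible_structureModule (X := X)))
  let O := fun _ : Fin n => Coh.structureModule X
  let pr : Fin n → (FlatMod.freeMod X n ⟶ Coh.structureModule X) := fun i =>
    Sigma.desc fun j => if j = i then 𝟙 _ else 0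
  let σ : FlatMod.freeMod X n ⟶ RefHull.dual (FlatMod.freeMod X n) :=
    Sigma.desc fun i => e.hom ≫ comap (Coh.structureModule X) (pr i)
  let τ : RefHull.dual (FlatMod.freeMod X n) ⟶ FlatMod.freeMod X n :=
    ∑ i, comap (Coh.structureModule X) (Sigma.ι O i) ≫ e.inv ≫ Sigma.ι O i
  have hst : σ ≫ τ = 𝟙 _ := by
    refine Sigma.hom_ext _ _ fun i => ?_
    rw [Sigma.ι_desc_assoc, Category.comp_id, Preadditive.comp_sum]
    rw [Finset.sum_eq_single i (fun j _ hji => ?_) (fun h => absurd (Finset.mem_univ i) h)]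
    · rw [Category.assoc, ← Category.assoc (comap _ (pr i)), ← comap_comp, Sigma.ι_desc, if_pos rfl,
        comap_id, Category.id_comp, e.hom_inv_id_assoc]
    · rw [Category.assoc, ← Category.assoc (comap _ (pr i)), ← comap_comp, Sigma.ι_desc, if_neg hji,
        comap_zero, zero_comp, comp_zero]
  haveI : IsSplitMono σ := IsSplitMono.mk' ⟨τ, hst⟩
  have hf := KFlatLib.isFinLocFree_freeMod (X := X) n
  by_contra hne
  have := dg_lt_of_rk_eq k hdim.le σ (coh_free k n) (coh_of_free k (isFinLocFree_dual k hf))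
    (rk_dual hf).symm fun h => hne ⟨asIso σ⟩
  rw [dg_dual k hdim hf, dg_free] at this
  omega

omit hdim in
/-- Stability, for a module given without a rank. -/
def St (E : X.Modules) : Prop :=
  ∀ (F : X.Modules) (i : F ⟶ E), Mono i → FlatMod.IsFinLocFree F → 0 < rk F → rk F < rk E →
    dg k F * (rk E : ℤ) < dg k E * (rk F : ℤ)

/-- Subbundles of the dual, through the quotients. -/
theorem exists_sub_of_dual {F : X.Modules} (hF : FlatMod.IsFinLocFree F) {K : X.Modules}
    (i : K ⟶ RefHull.dual F) [Mono i] (hK : FlatMod.IsFinLocFree K) :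
    ∃ (G : X.Modules) (j : G ⟶ F), Mono j ∧ FlatMod.IsFinLocFree G ∧ rk F = rk K + rk G ∧
      dg k K + dg k F ≤ dg k G := by
  haveI := isLocallyNoetherian' k (X := X)
  have hD := isFinLocFree_dual k hF
  obtain ⟨G, j, hj, hG, hQ, hrG, hdG, hr, hd⟩ := exists_saturation k hdim.le hD i hK
  haveI := hj
  obtain ⟨w, hT⟩ := shortExact_comap (shortExact_cokernel_of_mono j) hG hD hQ (Coh.structureModule X)
  haveI := hT.mono_f
  haveI := isIso_bidualMap hF
  refine ⟨RefHull.dual (cokernel j), comap _ (cokernel.π j) ≫ inv (RefHull.bidualMap F),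
    mono_comp _ _, isFinLocFree_dual k hQ, ?_, ?_⟩
  · rw [rk_dual hQ, ← rk_dual hF, hr, hrG]
  · rw [dg_dual k hdim hQ]
    rw [dg_dual k hdim hF] at hd
    omega

/-- The dual of a semistable bundle is semistable. -/
theorem ss_dual {F : X.Modules} (hF : FlatMod.IsFinLocFree F) (h : SS k F) : SS k (RefHull.dual F) := by
  intro K i hi hK
  haveI := hi
  obtain ⟨G, j, hj, hG, hr, hd⟩ := exists_sub_of_dual k hdim hF i hK
  have h1 := h G j hj hG
  have hr' : (rk F : ℤ) = (rk K : ℤ) + (rk G : ℤ) := by exact_mod_cast hr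
  have h2 := mul_le_mul_of_nonneg_right hd (Int.natCast_nonneg (rk F))
  rw [dg_dual k hdim hF, rk_dual hF]
  linear_combination h1 + h2 - (dg k F) * hr'

/-- The dual of a stable bundle is stable. -/
theorem st_dual {F : X.Modules} (hF : FlatMod.IsFinLocFree F) (h : St k F) : St k (RefHull.dual F) := by
  intro K i hi hK hpos hlt
  haveI := hi
  rw [rk_dual hF] at hlt ⊢
  obtain ⟨G, j, hj, hG, hr, hd⟩ := exists_sub_of_dual k hdim hF i hK
  have h1 := h G j hj hG (by omega) (by omega)
  have hr' : (rk F : ℤ) = (rk K : ℤ) + (rk G : ℤ) := by exact_mod_cast hr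
  have h2 := mul_le_mul_of_nonneg_right hd (Int.natCast_nonneg (rk F))
  rw [dg_dual k hdim hF]
  linear_combination h1 + h2 - (dg k F) * hr'

end Groth.Agent.BunLib68
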