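import Groth.Agent.BunLib68.EvalDual
import Mathlib.RingTheory.Coprime.Basic

/-!
# Twists, existence of semistable bundles in genus one, stability and `gcd(deg, rank)`
-/

universe u

set_option backward.isDefEq.respectTransparency false
set_option backward.isDefEq.respectTransparency.types false
set_option linter.style.haveILetI false
set_option linter.unusedSectionVars false
set_option linter.unusedVariables false
set_option synthInstance.maxHeartbeats 100000

open CategoryTheory CategoryTheory.Limits AlgebraicGeometry TopologicalSpace Opposite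
open Groth.Agent.PnCoh.Finite (mapLin)

noncomputable section

namespace Groth.Agent.BunLib68

open Groth.Agent.CurveBundle Groth.Agent.CurveSlope Groth.Agent.CurveStable

variable {X : Scheme.{u}} (k : Type u) [Field k] [X.Over (Spec (CommRingCat.of k))] [IsIntegral X]
  [IsProper (X ↘ Spec (CommRingCat.of k))] [Smooth (X ↘ Spec (CommRingCat.of k))]
  (hdim : topologicalKrullDim X = 1)
include hdim

/-- Line bundles of every degree. -/
theorem exists_line_deg [IsAlgClosed k] (d : ℤ) :
    ∃ D : X.Modules, PicF.IsInvertible D ∧ Curv2.deg k X D 1 = d := by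
  obtain ⟨S, hS, hcl⟩ := CurveSection.exists_closed_finset k hdim 1
  obtain ⟨p, rfl⟩ := Finset.card_eq_one.1 hS
  have hp := hcl p (Finset.mem_singleton_self p)
  have hI := CurvePoint.isInvertible_ptMod p hp k hdim
  have hdI := CurvePoint.deg_ptMod p hp k
  obtain ⟨J, hJ, hdJ, -⟩ := CurveDuality.exists_inverse_deg k hdim hI
  induction d using Int.induction_on with
  | zero => exact ⟨_, CurveDeg.isInvertible_structureModule, CurveDeg.deg_structureModule k⟩
  | succ n ih =>
    obtain ⟨D, hD, hd⟩ := ih
    refine ⟨_, InvX.isInvertible_tensorMod hD hJ, ?_⟩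
    refine (CurveRR.deg_tensor k hdim hD hJ).trans ?_
    rw [hd, hdJ, hdI, neg_neg]
  | pred n ih =>
    obtain ⟨D, hD, hd⟩ := ih
    refine ⟨_, InvX.isInvertible_tensorMod hD hI, ?_⟩
    refine (CurveRR.deg_tensor k hdim hD hI).trans ?_
    rw [hd, hdI]
    ring

/-- Subsheaves of a twist come from subsheaves. -/
theorem exists_sub_of_twist {D E : X.Modules} (hD : PicF.IsInvertible D) (hE : FlatMod.IsFinLocFree E)
    {K : X.Modules} (i : K ⟶ (DCoh.tensorBi.obj D).obj E) [Mono i] (hK : FlatMod.IsFinLocFree K) :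
    ∃ (G : X.Modules) (j : G ⟶ E), Mono j ∧ FlatMod.IsFinLocFree G ∧ rk G = rk K ∧
      dg k G = dg k K - (rk K : ℤ) * Curv2.deg k X D 1 := by
  obtain ⟨L, hL, hdL, ⟨e⟩⟩ := CurveDuality.exists_inverse_deg k hdim hD
  have e' : (DCoh.tensorBi.obj L).obj D ≅ Coh.structureModule X := CurveTensor.commIso L D ≪≫ e
  have hLf := isFinLocFree_of_rank (InvEnd.isFinLocFreeOfRank_one hL)
  haveI : Mono ((DCoh.tensorBi.obj L).map i) :=
    (CurveTensor.shortExact_tensor hLf _ _ _ (shortExact_cokernel_of_mono i)).mono_f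
  obtain ⟨r1, d1⟩ := CurveDuality.dg_tensor_line k hdim hL hK
  refine ⟨_, (DCoh.tensorBi.obj L).map i ≫ ((CurveRR.cancelIso e').app E).hom, mono_comp _ _,
    KFlatLib.isFinLocFree_tensor hLf hK, r1, ?_⟩
  rw [d1, hdL]
  ring

theorem ss_twist {D E : X.Modules} (hD : PicF.IsInvertible D) (hE : FlatMod.IsFinLocFree E) (h : SS k E) :
    SS k ((DCoh.tensorBi.obj D).obj E) := by
  intro K i hi hK
  haveI := hi
  obtain ⟨G, j, hj, hG, hr, hd⟩ := exists_sub_of_twist k hdim hD hE i hK
  obtain ⟨r2, d2⟩ := CurveDuality.dg_tensor_line k hdim hD hE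
  have h1 := h G j hj hG
  rw [hr, hd] at h1
  rw [r2, d2]
  linear_combination h1

theorem st_twist {D E : X.Modules} (hD : PicF.IsInvertible D) (hE : FlatMod.IsFinLocFree E) (h : St k E) :
    St k ((DCoh.tensorBi.obj D).obj E) := by
  intro K i hi hK hpos hlt
  haveI := hi
  obtain ⟨G, j, hj, hG, hr, hd⟩ := exists_sub_of_twist k hdim hD hE i hK
  obtain ⟨r2, d2⟩ := CurveDuality.dg_tensor_line k hdim hD hE
  rw [r2] at hlt ⊢
  have h1 := h G j hj hG (by omega) (by omega)
  rw [hr, hd] at h1
  rw [d2]
  linear_combination h1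

/-- A semistable bundle whose degree is prime to the rank is stable. -/
theorem st_of_gcd {E : X.Modules} (hs : SS k E) (h : Int.gcd (dg k E) (rk E : ℤ) = 1) : St k E := by
  intro K i hi hK hpos hlt
  refine lt_of_le_of_ne (hs K i hi hK) fun heq => ?_
  have h1 : (rk E : ℤ) ∣ (rk K : ℤ) :=
    (Int.isCoprime_iff_gcd_eq_one.2 h).symm.dvd_of_dvd_mul_left
      (heq ▸ dvd_mul_left _ _)
  have := Nat.le_of_dvd hpos (Int.natCast_dvd_natCast.1 h1)
  omega

variable (hO : Module.finrank k (Coh.HH X (Coh.structureModule X) 0) = 1) (hg : Curv2.genus k X = 1)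
include hO hg

/-- Existence of semistable bundles. -/
theorem exists_ss [IsAlgClosed k] : ∀ (r : ℕ), 0 < r → ∀ d : ℤ,
    ∃ F : X.Modules, FlatMod.IsFinLocFree F ∧ rk F = r ∧ dg k F = d ∧ SS k F := by
  intro r
  induction r using Nat.strong_induction_on with
  | _ r ih =>
    intro hr d
    have hr' : (r : ℤ) ≠ 0 := by exact_mod_cast hr.ne'
    have hlt := Int.emod_lt_of_pos d (b := (r : ℤ)) (by exact_mod_cast hr)
    have hge := Int.emod_nonneg d hr'
    have hdiv := Int.mul_ediv_add_emod d (r : ℤ)
    obtain ⟨a, ha⟩ : ∃ a : ℕ, d % (r : ℤ) = a := ⟨_, (Int.toNat_of_nonneg hge).symm⟩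
    obtain ⟨E, hE, hrE, m, hdE, hsE⟩ : ∃ E : X.Modules, FlatMod.IsFinLocFree E ∧ rk E = r ∧
        ∃ m : ℤ, dg k E + (r : ℤ) * m = d ∧ SS k E := by
      rcases Nat.eq_zero_or_pos a with rfl | ha0
      · refine ⟨FlatMod.freeMod X r, KFlatLib.isFinLocFree_freeMod r, rk_free r, d / r, ?_, fun K i hi hK => ?_⟩
        · rw [dg_free]
          push_cast at ha
          linarith
        · rw [dg_free, zero_mul, rk_free]
          exact mul_nonpos_of_nonpos_of_nonneg (dg_le_zero_of_mono_free k hdim.le r K i hi hK) (Int.natCast_nonneg _)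
      · obtain ⟨F, hF, hrF, hdF, hsF⟩ := ih a (by omega) ha0 ((r : ℤ) + a)
        obtain ⟨Q, hQ, hrQ, hdQ, hsQ, -⟩ := exists_dual_kernel k hdim hO hg hF hsF (by omega)
          (by rw [hrF, hdF]; omega)
        rw [hdF, hrF] at hrQ
        refine ⟨Q, hQ, by omega, d / r - 1, ?_, hsQ⟩
        rw [hdQ, hdF, mul_sub, mul_one]
        omega
    obtain ⟨D, hD, hdD⟩ := exists_line_deg k hdim m
    obtain ⟨r2, d2⟩ := CurveDuality.dg_tensor_line k hdim hD hE
    exact ⟨_, KFlatLib.isFinLocFree_tensor (isFinLocFree_of_rank (InvEnd.isFinLocFreeOfRank_one hD)) hE,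
      r2.trans hrE, by rw [d2, hrE, hdD]; exact hdE, ss_twist k hdim hD hE hsE⟩

/-- A stable bundle has degree prime to the rank. -/
theorem gcd_of_st [IsAlgClosed k] : ∀ (r : ℕ) (F : X.Modules), FlatMod.IsFinLocFree F → rk F = r → 0 < r →
    St k F → Int.gcd (dg k F) (r : ℤ) = 1 := by
  haveI := isLocallyNoetherian' k (X := X)
  intro r
  induction r using Nat.strong_induction_on with
  | _ r ih =>
    intro F hF hrF hr hst
    by_cases hr1 : r = 1
    · subst hr1
      simp
    have hr' : (r : ℤ) ≠ 0 := by exact_mod_cast hr.ne'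
    have hlt := Int.emod_lt_of_pos (dg k F) (b := (r : ℤ)) (by exact_mod_cast hr)
    have hge := Int.emod_nonneg (dg k F) hr'
    have hdiv := Int.mul_ediv_add_emod (dg k F) (r : ℤ)
    by_cases ha0 : dg k F % (r : ℤ) = 0
    · exfalso
      -- twist to degree `r`
      obtain ⟨D, hD, hdD⟩ := exists_line_deg k hdim (1 - dg k F / r)
      obtain ⟨r2, d2⟩ := CurveDuality.dg_tensor_line k hdim hD hF
      have hG := KFlatLib.isFinLocFree_tensor (isFinLocFree_of_rank (InvEnd.isFinLocFreeOfRank_one hD)) hF
      have hGs := st_twist k hdim hD hF hst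
      set G := (DCoh.tensorBi.obj D).obj F with hGdef
      have hdG : dg k G = r := by
        rw [d2, hrF, hdD, mul_sub, mul_one]
        linarith
      have hrG : rk G = r := r2.trans hrF
      have hgen : Curv2.IsGloballyGenerated G := by
        refine CurveGenerated.isGloballyGenerated_of_h1 k (isFinLocFreeOfRank_rk hG) fun x hx => ?_
        refine CurveDuality.subsingleton_HH_one_twist k hO hdim hG (CurvePoint.isInvertible_ptMod x hx k hdim)
          fun K i hi hK hrK => ?_
        rw [CurvePoint.deg_ptMod x hx k, hg, hdG]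
        have h := hGs K i hi hK (by omega) (by omega)
        rw [hdG, hrG, mul_comm (dg k K)] at h
        have := lt_of_mul_lt_mul_left h (Int.natCast_nonneg r)
        push_cast
        omega
      obtain ⟨σ, hσ⟩ := exists_free_gen k hO (coh_of_free k hG)
      haveI := epi_of_surjective_h0 k σ hσ.2 hgen
      have hGO : ∀ φ : G ⟶ Coh.structureModule X, φ = 0 := by
        refine hom_eq_zero_of_slope k hdim.le hG isFinLocFree_one (fun K i hi hK => ?_) (ss_one k hdim)
          (by rw [dg_one, rk_one, hdG, zero_mul, Nat.cast_one, mul_one]; exact_mod_cast hr)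
        rcases Nat.eq_zero_or_pos (rk K) with h | h
        · rw [dg_eq_zero_of_isZero k (isZero_of_rk_zero hK h), h]
          simp
        haveI := hi
        have hle := rk_le_of_mono k i (coh_of_free k hG)
        rcases lt_or_eq_of_le hle with h2 | h2
        · exact (hGs K i hi hK h h2).le
        · by_cases hiso : IsIso i
          · rw [dg_congr k (asIso i), rk_congr (asIso i)]
          · have := dg_lt_of_rk_eq k hdim.le i (coh_of_free k hK) (coh_of_free k hG) h2 hiso
            rw [h2]
            exact mul_le_mul_of_nonneg_right this.le (Int.natCast_nonneg _)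
      obtain ⟨-, hh0⟩ := h0_of_hom_eq_zero k hdim hO hg hG hGO
      have hP := coh_free k (X := X) (Module.finrank k (Coh.HH X G 0))
      have hK := QCoh.isCoh_kernel hP (coh_of_free k hG) σ
      have hKf := isFinLocFree_of_mono k hdim.le hK (kernel.ι σ) (KFlatLib.isFinLocFree_freeMod _)
      have hr3 := rk_add_coh k _ _ _ (shortExact_kernel_of_epi σ) hP
      have hd3 := dg_add k _ _ _ (shortExact_kernel_of_epi σ) hK hP (coh_of_free k hG)
      rw [rk_free] at hr3
      rw [dg_free, dg_eq_zero_of_isZero k (isZero_of_rk_zero hKf (by omega))] at hd3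
      omega
    · obtain ⟨D, hD, hdD⟩ := exists_line_deg k hdim (1 - dg k F / r)
      obtain ⟨r2, d2⟩ := CurveDuality.dg_tensor_line k hdim hD hF
      have hG := KFlatLib.isFinLocFree_tensor (isFinLocFree_of_rank (InvEnd.isFinLocFreeOfRank_one hD)) hF
      have hGs := st_twist k hdim hD hF hst
      rw [hrF] at r2
      rw [hrF, hdD, mul_sub, mul_one] at d2
      set G := (DCoh.tensorBi.obj D).obj F with hGdef
      have hdG : dg k G = r + dg k F % r := by linarith
      have hsG : SS k G := fun K i hi hK => by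
        haveI := hi
        rcases Nat.eq_zero_or_pos (rk K) with h | h
        · rw [dg_eq_zero_of_isZero k (isZero_of_rk_zero hK h), h]
          simp
        have hle := rk_le_of_mono k i (coh_of_free k hG)
        rcases lt_or_eq_of_le hle with h2 | h2
        · exact (hGs K i hi hK h h2).le
        · by_cases hiso : IsIso i
          · rw [dg_congr k (asIso i), rk_congr (asIso i)]
          · have := dg_lt_of_rk_eq k hdim.le i (coh_of_free k hK) (coh_of_free k hG) h2 hiso
            rw [h2]
            exact mul_le_mul_of_nonneg_right this.le (Int.natCast_nonneg _)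
      obtain ⟨Q, hQ, hrQ, hdQ, -, hsQ⟩ := exists_dual_kernel k hdim hO hg hG hsG (by omega)
        (by rw [r2, hdG]; omega)
      rw [r2, hdG] at hrQ
      rw [hdG] at hdQ
      have h := ih (rk Q) (by omega) Q hQ rfl (by omega) (hsQ hGs)
      rw [hdQ, show (rk Q : ℤ) = dg k F % r by omega, Int.gcd_add_self_left, Int.gcd_comm] at h
      rw [← hdiv, add_comm]
      simpa using h

end Groth.Agent.BunLib68
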