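import Groth.Prelude.Def_W4c3irrattreebunCvg
import Mathlib

set_option autoImplicit false
universe u
open W4c3irrattreebun

namespace Groth.Agent.BunLib68.Gonality

variable {k K : Type u} [Field k] [Field K] [Algebra k K]

/-- A diagram over the field of constants gives one over the ground field. -/
theorem down (k' : IntermediateField k K) {e : ℕ} (D : CovDiag.{u} k' K e) :
    ∃ D' : CovDiag.{u} k K e, Algebra.IsSeparable K D.KC → Algebra.IsSeparable K D'.KC := by
  letI a1 : Algebra k D.KC := ((algebraMap K D.KC).comp (algebraMap k K)).toAlgebra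
  haveI : IsScalarTower k K D.KC := IsScalarTower.of_algebraMap_eq fun _ => rfl
  letI a2 : Algebra k D.KB := ((algebraMap k' D.KB).comp (algebraMap k k')).toAlgebra
  haveI : IsScalarTower k D.KB D.KC := IsScalarTower.of_algebraMap_eq fun x => by
    show algebraMap K D.KC (algebraMap k K x) =
      algebraMap D.KB D.KC (algebraMap k' D.KB (algebraMap k k' x))
    have e1 := @IsScalarTower.algebraMap_apply k' D.KB D.KC _ _ _ _ _ D.algkC D.towerB (algebraMap k k' x)
    have e2 := @IsScalarTower.algebraMap_apply k' K D.KC _ _ _ _ _ D.algkC D.towerK (algebraMap k k' x)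
    exact e2.symm.trans e1
  exact ⟨{ KC := D.KC, KB := D.KB, t := D.t, transc := D.transc, finrank_eq := D.finrank_eq }, id⟩

/-- A diagram over the ground field gives one of at most the same degree over an algebraic
extension inside `K`. -/
theorem up (k' : IntermediateField k K) [Algebra.IsAlgebraic k k'] {e : ℕ}
    (D : CovDiag.{u} k K e) :
    ∃ (e' : ℕ) (D' : CovDiag.{u} k' K e'),
      e' ≤ e ∧ (Algebra.IsSeparable K D.KC → Algebra.IsSeparable K D'.KC) := by
  let S : Set D.KC := (algebraMap K D.KC) '' (k' : Set K)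
  let B : IntermediateField D.KB D.KC := IntermediateField.adjoin D.KB S
  have hS : ∀ x ∈ S, IsAlgebraic D.KB x := by
    rintro _ ⟨a, ha, rfl⟩
    have h1 : IsAlgebraic k (⟨a, ha⟩ : k') := Algebra.IsAlgebraic.isAlgebraic _
    have h2 : IsAlgebraic k (algebraMap K D.KC a) :=
      h1.algHom ((IsScalarTower.toAlgHom k K D.KC).comp k'.val)
    exact h2.tower_top D.KB
  haveI : Algebra.IsAlgebraic D.KB B :=
    IntermediateField.isAlgebraic_adjoin fun x hx => isAlgebraic_iff_isIntegral.mp (hS x hx)
  letI a1 : Algebra k' B :=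
    (RingHom.codRestrict ((algebraMap K D.KC).comp (algebraMap k' K)) B.toSubfield fun a =>
      IntermediateField.subset_adjoin D.KB S ⟨a.1, a.2, rfl⟩).toAlgebra
  haveI : IsScalarTower k' B D.KC := IsScalarTower.of_algebraMap_eq fun _ => rfl
  have htr : Transcendental B D.t := Transcendental.extendScalars B D.transc
  let F : IntermediateField D.KB D.KC := IntermediateField.adjoin D.KB {D.t}
  let F' : IntermediateField D.KB D.KC :=
    (IntermediateField.adjoin B ({D.t} : Set D.KC)).restrictScalars D.KB
  have hle : F ≤ F' := by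
    refine IntermediateField.adjoin_le_iff.mpr ?_
    intro x hx
    exact IntermediateField.subset_adjoin B _ hx
  letI : Algebra F F' := (IntermediateField.inclusion hle).toRingHom.toAlgebra
  haveI : IsScalarTower F F' D.KC := IsScalarTower.of_algebraMap_eq fun _ => rfl
  haveI : Module.Finite F D.KC := D.finiteT
  haveI : Module.Finite F' D.KC := Module.Finite.of_restrictScalars_finite F F' D.KC
  haveI : Module.Finite (IntermediateField.adjoin B ({D.t} : Set D.KC)) D.KC := ‹Module.Finite F' D.KC›
  refine ⟨Module.finrank F' D.KC, ⟨D.KC, B, D.t, htr, rfl⟩, ?_, id⟩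
  have h := Module.finrank_mul_finrank F F' D.KC
  have he : Module.finrank F D.KC = e := D.finrank_eq
  have hpos : 0 < Module.finrank F D.KC := Module.finrank_pos
  refine le_trans (Nat.le_of_dvd hpos ?_) he.le
  exact ⟨Module.finrank F F', by rw [← h, mul_comm]⟩

theorem sInf_eq {A B : Set ℕ} (h1 : B ⊆ A) (h2 : ∀ a ∈ A, ∃ b ∈ B, b ≤ a) : sInf A = sInf B := by
  rcases A.eq_empty_or_nonempty with h | h
  · have hB : B = ∅ := Set.subset_empty_iff.mp (h ▸ h1)
    rw [h, hB]
  · obtain ⟨b, hb, hba⟩ := h2 _ (Nat.sInf_mem h)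
    exact le_antisymm (Nat.sInf_le (h1 (Nat.sInf_mem ⟨b, hb⟩))) ((Nat.sInf_le hb).trans hba)

end Groth.Agent.BunLib68.Gonality
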