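import Groth.Agent.BunLib68.Slope
import Groth.Agent.BunLib68.Free
import Groth.Agent.BunLib68.GenusOne
import Groth.Agent.Lib.CurveHiggs
import Groth.Agent.Lib.CurveSection
import Groth.Agent.H23.PicMul

/-!
# Invariant subbundles of pairs `(E, φ : E ⟶ E ⊗ L)`
-/

universe u

set_option backward.isDefEq.respectTransparency false
set_option backward.isDefEq.respectTransparency.types false
set_option linter.style.haveILetI false
set_option linter.unusedSectionVars false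
set_option linter.unusedVariables false
set_option synthInstance.maxHeartbeats 100000

open CategoryTheory CategoryTheory.Limits AlgebraicGeometry TopologicalSpace Opposite

noncomputable section

namespace Groth.Agent.BunLib68

open Groth.Agent.CurveBundle Groth.Agent.CurveSlope Groth.Agent.CurveStable Groth.Agent.CurveHiggs

variable {X : Scheme.{u}} {L : X.Modules}

/-- `j` is invariant under `φ`. -/
def Inv (L : X.Modules) {E : X.Modules} (φ : E ⟶ (DCoh.tensorBi.obj E).obj L) {G : X.Modules} (j : G ⟶ E) :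
    Prop :=
  ∃ χ : G ⟶ (DCoh.tensorBi.obj G).obj L, χ ≫ twist L j = j ≫ φ

theorem inv_id {E : X.Modules} (φ : E ⟶ (DCoh.tensorBi.obj E).obj L) : Inv L φ (𝟙 E) :=
  ⟨φ, by simp [twist]⟩

theorem inv_comp {E : X.Modules} {φ : E ⟶ (DCoh.tensorBi.obj E).obj L} {G G' : X.Modules} {j : G ⟶ E}
    {χ : G ⟶ (DCoh.tensorBi.obj G).obj L} (hχ : χ ≫ twist L j = j ≫ φ) {i : G' ⟶ G} (h : Inv L χ i) :
    Inv L φ (i ≫ j) := by
  obtain ⟨χ', h'⟩ := h
  exact ⟨χ', by rw [twist_comp, ← Category.assoc, h', Category.assoc, hχ, Category.assoc]⟩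

/-- An invariant subobject whose twisted inclusion into the quotient is killed. -/
theorem inv_of_comp_eq_zero (hL : FlatMod.IsFinLocFree L) {E : X.Modules}
    (φ : E ⟶ (DCoh.tensorBi.obj E).obj L) {M : X.Modules} (i : M ⟶ E) [Mono i]
    (h : i ≫ φ ≫ twist L (cokernel.π i) = 0) : Inv L φ i := by
  obtain ⟨y, hy⟩ := exists_lift hL i (cokernel.π i) (cokernel.condition i) (shortExact_cokernel_of_mono i)
    (i ≫ φ) (by rw [Category.assoc]; exact h)
  exact ⟨y, hy⟩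

variable (k : Type u) [Field k] [X.Over (Spec (CommRingCat.of k))] [IsIntegral X]
  [IsProper (X ↘ Spec (CommRingCat.of k))] [Smooth (X ↘ Spec (CommRingCat.of k))]

include k in
/-- A map to a bundle vanishing on a subsheaf of full rank vanishes. -/
theorem eq_zero_of_full_rank (hdim : topologicalKrullDim X ≤ 1) {M B G : X.Modules}
    (hM : FlatMod.IsFinLocFree M) (hB : FlatMod.IsFinLocFree B) (f : M ⟶ B) (l : G ⟶ M) [Mono l]
    (hG : FlatMod.IsFinLocFree G) (hrk : rk G = rk M) (h : l ≫ f = 0) : f = 0 := by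
  haveI := isLocallyNoetherian' k (X := X)
  by_contra hf
  obtain ⟨I, π, j, hj, hπ, hfac, hK, hI, hr, -, hpos, -⟩ := exists_decomp k hdim hM hB f
  haveI : Mono (kernel.lift f l h) := mono_of_mono_fac (kernel.lift_ι f l h)
  have := rk_le_of_mono k (kernel.lift f l h) (coh_of_free k hK)
  have := hpos hf
  omega

/-- An invariant subsheaf lies in an invariant subbundle of the same rank and no smaller degree. -/
theorem exists_inv_saturation (hdim : topologicalKrullDim X ≤ 1) (hL : PicF.IsInvertible L) {E : X.Modules}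
    (hE : FlatMod.IsFinLocFree E) (φ : E ⟶ (DCoh.tensorBi.obj E).obj L) {G : X.Modules} (j : G ⟶ E) [Mono j]
    (hG : FlatMod.IsFinLocFree G) (hj : Inv L φ j) :
    ∃ (M : X.Modules) (i : M ⟶ E) (l : G ⟶ M), Mono i ∧ FlatMod.IsFinLocFree M ∧
      FlatMod.IsFinLocFree (cokernel i) ∧ l ≫ i = j ∧ rk M = rk G ∧ dg k G ≤ dg k M ∧ Inv L φ i := by
  haveI := isLocallyNoetherian' k (X := X)
  have hEc := coh_of_free k hE
  obtain ⟨d, ⟨M, i, hi, hM, hrM, ⟨l, hl⟩, rfl⟩, hmax⟩ := Int.exists_greatest_of_bdd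
    (P := fun d => ∃ (M : X.Modules) (i : M ⟶ E), Mono i ∧ FlatMod.IsFinLocFree M ∧ rk M = rk G ∧
      (∃ l : G ⟶ M, l ≫ i = j) ∧ dg k M = d)
    ⟨(Module.finrank k (Coh.HH X E 0) : ℤ) - (rk G : ℤ) * Curv2.euler k X (Coh.structureModule X),
      fun d ⟨M, i, hi, hM, hr, _, hd⟩ => by
        haveI := hi
        rw [← hd, ← hr]
        exact dg_le_h0 k hdim i (coh_of_free k hM) hEc⟩
    ⟨_, G, j, inferInstance, hG, rfl, ⟨𝟙 _, Category.id_comp _⟩, rfl⟩
  haveI := hi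
  have hMc := coh_of_free k hM
  have hQc : Coh.IsCoh (cokernel i) := QCoh.isCoh_cokernel hMc.1 hEc i
  have hQ := CurveSection.isFinLocFree_of_max_over k hdim i (cokernel.π i) _ (shortExact_cokernel_of_mono i)
    hMc hE hQc fun M' g hg hM' hr ⟨l', hl'⟩ =>
      hmax _ ⟨M', g, hg, hM', hr.trans hrM, ⟨l ≫ l', by rw [Category.assoc, hl', hl]⟩, rfl⟩
  refine ⟨M, i, l, hi, hM, hQ, hl, hrM,
    hmax _ ⟨G, j, inferInstance, hG, rfl, ⟨𝟙 _, Category.id_comp _⟩, rfl⟩, ?_⟩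
  have hLf := isFinLocFree_of_rank (InvEnd.isFinLocFreeOfRank_one hL)
  haveI : Mono l := mono_of_mono_fac hl
  refine inv_of_comp_eq_zero hLf φ i (eq_zero_of_full_rank k hdim hM (isFinLocFree_twist hL hQ) _ l hG hrM.symm ?_)
  obtain ⟨χ, hχ⟩ := hj
  rw [← Category.assoc, hl, ← Category.assoc, ← hχ, Category.assoc, ← twist_comp, ← hl, Category.assoc,
    cokernel.condition, comp_zero, twist_zero, comp_zero]

/-- The preimage of an invariant subsheaf of the quotient by an invariant subsheaf. -/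
theorem exists_inv_preimage (hdim : topologicalKrullDim X ≤ 1) (hL : FlatMod.IsFinLocFree L) {E : X.Modules}
    (hE : FlatMod.IsFinLocFree E) (φ : E ⟶ (DCoh.tensorBi.obj E).obj L) {M : X.Modules} (i : M ⟶ E) [Mono i]
    (hM : FlatMod.IsFinLocFree M) (φQ : cokernel i ⟶ (DCoh.tensorBi.obj (cokernel i)).obj L)
    (hφQ : cokernel.π i ≫ φQ = φ ≫ twist L (cokernel.π i)) {G : X.Modules} (g : G ⟶ cokernel i) [Mono g]
    (hG : Coh.IsCoh G) (hg : Inv L φQ g) :
    ∃ (P : X.Modules) (p : P ⟶ E), Mono p ∧ FlatMod.IsFinLocFree P ∧ Inv L φ p ∧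
      rk P = rk M + rk G ∧ dg k P = dg k M + dg k G := by
  haveI := isLocallyNoetherian' k (X := X)
  have hEc := coh_of_free k hE
  have hMc := coh_of_free k hM
  have hQc : Coh.IsCoh (cokernel i) := QCoh.isCoh_cokernel hMc.1 hEc i
  obtain ⟨χ, hχ⟩ := hg
  have w : g ≫ φQ ≫ twist L (cokernel.π g) = 0 := by
    rw [← Category.assoc, ← hχ, Category.assoc, ← twist_comp, cokernel.condition, twist_zero, comp_zero]
  let φC : cokernel g ⟶ (DCoh.tensorBi.obj (cokernel g)).obj L :=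
    cokernel.desc g (φQ ≫ twist L (cokernel.π g)) w
  let f : E ⟶ cokernel g := cokernel.π i ≫ cokernel.π g
  haveI : Epi f := epi_comp _ _
  have hf : f ≫ φC = φ ≫ twist L f := by
    simp only [f, φC, Category.assoc, cokernel.π_desc]
    rw [reassoc_of% hφQ, ← twist_comp]
  obtain ⟨hP, -⟩ := exists_invariant hL φ φC f hf f (𝟙 _) (Category.comp_id f)
  have hC : Coh.IsCoh (cokernel g) := QCoh.isCoh_cokernel hG.1 hQc g
  have hK := QCoh.isCoh_kernel hEc hC f
  have h1 := rk_add_coh k _ _ _ (shortExact_kernel_of_epi f) hEc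
  have h2 := rk_add_coh k _ _ _ (shortExact_cokernel_of_mono i) hEc
  have h3 := dg_add k _ _ _ (shortExact_kernel_of_epi f) hK hEc hC
  have h4 := dg_add k _ _ _ (shortExact_cokernel_of_mono i) hMc hEc hQc
  have h5 := rk_add_coh k _ _ _ (shortExact_cokernel_of_mono g) hQc
  have h6 := dg_add k _ _ _ (shortExact_cokernel_of_mono g) hG hQc hC
  exact ⟨_, kernel.ι f, inferInstance, isFinLocFree_of_mono k hdim hK (kernel.ι f) hE, hP, by omega, by omega⟩

/-- Semistability of a pair, for modules given without rank. -/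
def PSS (L : X.Modules) {E : X.Modules} (φ : E ⟶ (DCoh.tensorBi.obj E).obj L) : Prop :=
  ∀ (G : X.Modules) (j : G ⟶ E), Mono j → FlatMod.IsFinLocFree G → Inv L φ j →
    dg k G * (rk E : ℤ) ≤ dg k E * (rk G : ℤ)

theorem pss_of {E : X.Modules} {r : ℕ} (hE : FlatMod.IsFinLocFreeOfRank r E)
    (φ : E ⟶ (DCoh.tensorBi.obj E).obj L)
    (h : ∀ (G : X.Modules) (n : ℕ) (j : G ⟶ E) (χ : G ⟶ (DCoh.tensorBi.obj G).obj L), Mono j → 0 < n →
      FlatMod.IsFinLocFreeOfRank n G → χ ≫ twist L j = j ≫ φ →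
      Curv2.deg k X G n * (r : ℤ) ≤ Curv2.deg k X E r * (n : ℤ)) : PSS k L φ := by
  haveI := isLocallyNoetherian' k (X := X)
  intro G j hj hG ⟨χ, hχ⟩
  rcases Nat.eq_zero_or_pos (rk G) with h0 | h0
  · rw [dg_eq_zero_of_isZero k (isZero_of_rk_zero hG h0), h0]
    simp
  · have := h G (rk G) j χ hj h0 (isFinLocFreeOfRank_rk hG) hχ
    rwa [deg_eq_dg k hE, deg_eq_dg k (isFinLocFreeOfRank_rk hG), ← rk_eq hE] at this

theorem deg_le_of_pss {E : X.Modules} {r : ℕ} (hE : FlatMod.IsFinLocFreeOfRank r E)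
    {φ : E ⟶ (DCoh.tensorBi.obj E).obj L} (h : PSS k L φ) (G : X.Modules) (n : ℕ) (j : G ⟶ E)
    (χ : G ⟶ (DCoh.tensorBi.obj G).obj L) (hj : Mono j) (hG : FlatMod.IsFinLocFreeOfRank n G)
    (hχ : χ ≫ twist L j = j ≫ φ) :
    Curv2.deg k X G n * (r : ℤ) ≤ Curv2.deg k X E r * (n : ℤ) := by
  have := h G j hj (isFinLocFree_of_rank hG) ⟨χ, hχ⟩
  rwa [← deg_eq_dg k hE, ← deg_eq_dg k hG, rk_eq hE, rk_eq hG] at this

/-- The first step of the slope filtration of a pair. -/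
theorem exists_max_inv (hdim : topologicalKrullDim X ≤ 1) (hL : PicF.IsInvertible L) {E : X.Modules}
    (hE : FlatMod.IsFinLocFree E) (hr : 0 < rk E) (φ : E ⟶ (DCoh.tensorBi.obj E).obj L) :
    ∃ (E₁ : X.Modules) (i₁ : E₁ ⟶ E), Mono i₁ ∧ 0 < rk E₁ ∧ FlatMod.IsFinLocFree E₁ ∧
      FlatMod.IsFinLocFree (cokernel i₁) ∧ Inv L φ i₁ ∧
      ∀ (G : X.Modules) (j : G ⟶ E), Mono j → FlatMod.IsFinLocFree G → Inv L φ j → 0 < rk G →
        dg k G * (rk E₁ : ℤ) ≤ dg k E₁ * (rk G : ℤ) ∧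
        (dg k G * (rk E₁ : ℤ) = dg k E₁ * (rk G : ℤ) → rk G ≤ rk E₁) := by
  classical
  haveI := isLocallyNoetherian' k (X := X)
  let J : Finset ℕ := (Finset.Icc 1 (rk E)).filter fun a =>
    ∃ (F : X.Modules) (i : F ⟶ E), Mono i ∧ FlatMod.IsFinLocFree F ∧ Inv L φ i ∧ rk F = a
  have hJ : J.Nonempty := ⟨rk E, Finset.mem_filter.2 ⟨Finset.mem_Icc.2 ⟨hr, le_rfl⟩,
    E, 𝟙 E, inferInstance, hE, inv_id φ, rfl⟩⟩
  have hmax : ∀ a, a ∈ J → ∃ d : ℤ, (∃ (F : X.Modules) (i : F ⟶ E), Mono i ∧ FlatMod.IsFinLocFree F ∧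
      Inv L φ i ∧ rk F = a ∧ dg k F = d) ∧
      ∀ (F : X.Modules) (i : F ⟶ E), Mono i → FlatMod.IsFinLocFree F → Inv L φ i → rk F = a → dg k F ≤ d := by
    intro a ha
    obtain ⟨F₀, i₀, hi₀, hF₀, hv₀, hr₀⟩ := (Finset.mem_filter.1 ha).2
    obtain ⟨d, hd, hd'⟩ := Int.exists_greatest_of_bdd
      (P := fun d => ∃ (F : X.Modules) (i : F ⟶ E), Mono i ∧ FlatMod.IsFinLocFree F ∧ Inv L φ i ∧
        rk F = a ∧ dg k F = d)
      ⟨(Module.finrank k (Coh.HH X E 0) : ℤ) - (a : ℤ) * Curv2.euler k X (Coh.structureModule X),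
        fun d ⟨F, i, hi, hF, _, hr, hd⟩ => by
          haveI := hi
          rw [← hd, ← hr]
          exact dg_le_h0 k hdim i (coh_of_free k hF) (coh_of_free k hE)⟩
      ⟨_, F₀, i₀, hi₀, hF₀, hv₀, hr₀, rfl⟩
    exact ⟨d, hd, fun F i hi hF hv hr' => hd' _ ⟨F, i, hi, hF, hv, hr', rfl⟩⟩
  choose! d hd hd' using hmax
  obtain ⟨a₁, ha₁, hbest⟩ := J.exists_max_image (fun a => toLex ((d a : ℚ) / (a : ℚ), a)) hJ
  obtain ⟨F₁, j₁, hj₁, hF₁, hv₁, hrk₁, hdg₁⟩ := hd a₁ ha₁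
  haveI := hj₁
  obtain ⟨M, i, l, hi, hM, hQ, -, hrM, hdM, hvM⟩ := exists_inv_saturation k hdim hL hE φ j₁ hF₁ hv₁
  have hdM' : dg k M = d a₁ := le_antisymm (hd' a₁ ha₁ M i hi hM hvM (hrM.trans hrk₁)) (hdg₁ ▸ hdM)
  have hpos : 0 < a₁ := (Finset.mem_Icc.1 (Finset.mem_filter.1 ha₁).1).1
  refine ⟨M, i, hi, by omega, hM, hQ, hvM, fun G j hj hG hv hG0 => ?_⟩
  haveI := hj
  have haJ : rk G ∈ J := Finset.mem_filter.2 ⟨Finset.mem_Icc.2 ⟨hG0,
    rk_le_of_mono k j (coh_of_free k hE)⟩, G, j, hj, hG, hv, rfl⟩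
  have hle := mul_le_mul_of_nonneg_right (hd' _ haJ G j hj hG hv rfl) (Int.natCast_nonneg a₁)
  rw [hrM, hrk₁, hdM']
  have haQ : (0 : ℚ) < rk G := by exact_mod_cast hG0
  have h1Q : (0 : ℚ) < a₁ := by exact_mod_cast hpos
  rcases Prod.Lex.toLex_le_toLex.1 (hbest _ haJ) with h | ⟨h, h'⟩
  · rw [div_lt_div_iff₀ haQ h1Q] at h
    have h2 : d (rk G) * (a₁ : ℤ) < d a₁ * (rk G : ℤ) := by exact_mod_cast h
    exact ⟨by linarith, fun he => absurd he (by intro he; linarith)⟩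
  · rw [div_eq_div_iff haQ.ne' h1Q.ne'] at h
    have h2 : d (rk G) * (a₁ : ℤ) = d a₁ * (rk G : ℤ) := by exact_mod_cast h
    exact ⟨by linarith, fun _ => h'⟩

/-- A semistable pair stays semistable after forgetting an endomorphism that commutes. -/
theorem pss_of_commuting (hdim : topologicalKrullDim X ≤ 1) (hL : PicF.IsInvertible L) {E : X.Modules}
    (hE : FlatMod.IsFinLocFree E) (φ : E ⟶ (DCoh.tensorBi.obj E).obj L) (ψ : E ⟶ E)
    (hc : ψ ≫ φ = φ ≫ twist L ψ)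
    (h : ∀ (G : X.Modules) (j : G ⟶ E), Mono j → FlatMod.IsFinLocFree G → Inv L φ j →
      (∃ ψ', ψ' ≫ j = j ≫ ψ) → dg k G * (rk E : ℤ) ≤ dg k E * (rk G : ℤ)) : PSS k L φ := by
  haveI := isLocallyNoetherian' k (X := X)
  intro G j hj hG hv
  haveI := hj
  rcases Nat.eq_zero_or_pos (rk G) with h0 | h0
  · rw [dg_eq_zero_of_isZero k (isZero_of_rk_zero hG h0), h0]
    simp
  have hEpos : 0 < rk E := lt_of_lt_of_le h0 (rk_le_of_mono k j (coh_of_free k hE))
  obtain ⟨M, i, hi, hpos, hM, hQ, ⟨χ, hχ⟩, hall⟩ := exists_max_inv k hdim hL hE hEpos φ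
  haveI := hi
  have hLf := isFinLocFree_of_rank (InvEnd.isFinLocFreeOfRank_one hL)
  have w : i ≫ φ ≫ twist L (cokernel.π i) = 0 := by
    rw [← Category.assoc, ← hχ, Category.assoc, ← twist_comp, cokernel.condition, twist_zero, comp_zero]
  let φQ := cokernel.desc i (φ ≫ twist L (cokernel.π i)) w
  have hφQ : cokernel.π i ≫ φQ = φ ≫ twist L (cokernel.π i) := cokernel.π_desc _ _ _
  let f : M ⟶ cokernel i := i ≫ ψ ≫ cokernel.π i
  have hf : f ≫ φQ = χ ≫ twist L f := by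
    simp only [f, Category.assoc, hφQ, twist_comp]
    rw [reassoc_of% hc, reassoc_of% hχ]
  have hf0 : f = 0 := by
    by_contra hne
    obtain ⟨I, π, jI, hjI, hπ, hfac, hK, hI, hrk, hdg, hp, -⟩ := exists_decomp k hdim hM hQ f
    haveI := hjI
    haveI := hπ
    obtain ⟨hKv, hIv⟩ := exists_invariant hLf χ φQ f hf π jI hfac
    obtain ⟨P, p, hp', hP, hPv, hrP, hdP⟩ := exists_inv_preimage k hdim hLf hE φ i hM φQ hφQ jI (coh_of_free k hI) hIv
    have hIpos := hp hne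
    obtain ⟨a1, a2⟩ := hall P p hp' hP hPv (by omega)
    have a1' : dg k P * (rk M : ℤ) < dg k M * (rk P : ℤ) :=
      lt_of_le_of_ne a1 fun he => by have := a2 he; omega
    have b1 : dg k (kernel f) * (rk M : ℤ) ≤ dg k M * (rk (kernel f) : ℤ) := by
      rcases Nat.eq_zero_or_pos (rk (kernel f)) with z | z
      · rw [dg_eq_zero_of_isZero k (isZero_of_rk_zero hK z), z]
        simp
      · exact (hall _ (kernel.ι f ≫ i) (mono_comp _ _) hK (inv_comp hχ hKv) z).1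
    have r1 : (rk M : ℤ) = rk (kernel f) + rk I := by exact_mod_cast hrk
    have r2 : (rk P : ℤ) = rk M + rk I := by exact_mod_cast hrP
    rw [r2, hdP] at a1'
    have r3 : dg k M * (rk M : ℤ) = dg k M * rk (kernel f) + dg k M * rk I := by rw [r1]; ring
    have r4 : dg k M * (rk M : ℤ) = dg k (kernel f) * rk M + dg k I * rk M := by rw [hdg]; ring
    linarith
  obtain ⟨ψ', hψ'⟩ : ∃ ψ', ψ' ≫ i = i ≫ ψ :=
    ⟨(shortExact_cokernel_of_mono i).exact.lift (i ≫ ψ) (by rw [Category.assoc]; exact hf0),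
      (shortExact_cokernel_of_mono i).exact.lift_f _ _⟩
  have c1 := h M i hi hM ⟨χ, hχ⟩ ⟨ψ', hψ'⟩
  have c2 := (hall G j hj hG hv h0).1
  have hM0 : (0 : ℤ) < rk M := by exact_mod_cast hpos
  have c1' := mul_le_mul_of_nonneg_right c1 (Int.natCast_nonneg (rk G))
  have c2' := mul_le_mul_of_nonneg_right c2 (Int.natCast_nonneg (rk E))
  refine le_of_mul_le_mul_right ?_ hM0
  linarith

/-- Quotient of a semistable pair by an invariant subsheaf of the same slope. -/
theorem quotient_of_pss (hdim : topologicalKrullDim X ≤ 1) (hL : PicF.IsInvertible L) {E : X.Modules}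
    (hE : FlatMod.IsFinLocFree E) (hr : 0 < rk E) (φ : E ⟶ (DCoh.tensorBi.obj E).obj L) (h : PSS k L φ)
    {F : X.Modules} (i : F ⟶ E) [Mono i] (hF : FlatMod.IsFinLocFree F) (hi : Inv L φ i)
    (heq : dg k F * (rk E : ℤ) = dg k E * (rk F : ℤ)) :
    FlatMod.IsFinLocFree (cokernel i) ∧ rk E = rk F + rk (cokernel i) ∧
      dg k E = dg k F + dg k (cokernel i) ∧
      dg k (cokernel i) * (rk E : ℤ) = dg k E * (rk (cokernel i) : ℤ) ∧
      ∀ φQ : cokernel i ⟶ (DCoh.tensorBi.obj (cokernel i)).obj L,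
        cokernel.π i ≫ φQ = φ ≫ twist L (cokernel.π i) → PSS k L φQ := by
  haveI := isLocallyNoetherian' k (X := X)
  have hr' : (0 : ℤ) < rk E := by exact_mod_cast hr
  obtain ⟨M, j, l, hj, hM, hQ, hl, hrM, hdM, hvM⟩ := exists_inv_saturation k hdim hL hE φ i hF hi
  haveI := hj
  have hd : dg k M = dg k F := by
    refine le_antisymm (le_of_mul_le_mul_right ?_ hr') hdM
    rw [heq, ← hrM]
    exact h M j hj hM hvM
  haveI : Mono l := mono_of_mono_fac hl
  haveI : IsIso l := by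
    by_contra hne
    have := dg_lt_of_rk_eq k hdim l (coh_of_free k hF) (coh_of_free k hM) hrM.symm hne
    omega
  have hQ' : FlatMod.IsFinLocFree (cokernel i) :=
    H23.PullPush.isFinLocFree_of_iso ((cokernelEpiComp l j).symm ≪≫ cokernelIsoOfEq hl) hQ
  have hEc := coh_of_free k hE
  have hFc := coh_of_free k hF
  have hQc := coh_of_free k hQ'
  have r1 := rk_add_coh k _ _ _ (shortExact_cokernel_of_mono i) hEc
  have d1 := dg_add k _ _ _ (shortExact_cokernel_of_mono i) hFc hEc hQc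
  have r1' : (rk E : ℤ) = rk F + rk (cokernel i) := by exact_mod_cast r1
  have hslope : dg k (cokernel i) * (rk E : ℤ) = dg k E * (rk (cokernel i) : ℤ) := by
    linear_combination (-(rk E : ℤ)) * d1 - heq + (dg k E) * r1'
  refine ⟨hQ', r1, d1, hslope, fun φQ hφQ G g hg hG hv => ?_⟩
  haveI := hg
  obtain ⟨P, p, hp, hP, hPv, hrP, hdP⟩ := exists_inv_preimage k hdim
    (isFinLocFree_of_rank (InvEnd.isFinLocFreeOfRank_one hL)) hE φ i hF φQ hφQ g (coh_of_free k hG) hv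
  have hle := h P p hp hP hPv
  have r2 : (rk P : ℤ) = rk F + rk G := by exact_mod_cast hrP
  rw [r2, hdP] at hle
  have hle' : dg k G * (rk E : ℤ) ≤ dg k E * (rk G : ℤ) := by linarith
  have h2 := mul_le_mul_of_nonneg_right hle' (Int.natCast_nonneg (rk (cokernel i)))
  refine le_of_mul_le_mul_right ?_ hr'
  linear_combination h2 - (rk G : ℤ) * hslope

/-- With a twist of degree at most zero the first destabilizing subbundle is invariant. -/
theorem ss_of_pss (hdim : topologicalKrullDim X = 1) (hL : PicF.IsInvertible L)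
    (hL0 : Curv2.deg k X L 1 ≤ 0) {E : X.Modules} (hE : FlatMod.IsFinLocFree E)
    (φ : E ⟶ (DCoh.tensorBi.obj E).obj L) (h : PSS k L φ) : SS k E := by
  haveI := isLocallyNoetherian' k (X := X)
  intro G j hj hG
  haveI := hj
  rcases Nat.eq_zero_or_pos (rk G) with h0 | h0
  · rw [dg_eq_zero_of_isZero k (isZero_of_rk_zero hG h0), h0]
    simp
  have hEpos : 0 < rk E := lt_of_lt_of_le h0 (rk_le_of_mono k j (coh_of_free k hE))
  obtain ⟨M, i, hi, hpos, hM, hQ, -, hall, hquot, -⟩ := exists_destab k hdim.le hE hEpos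
  haveI := hi
  have hLf := isFinLocFree_of_rank (InvEnd.isFinLocFreeOfRank_one hL)
  have hvM : Inv L φ i := by
    refine inv_of_comp_eq_zero hLf φ i ?_
    by_contra hne
    have hT := isFinLocFree_twist hL hQ
    obtain ⟨I, π, jI, hjI, hπ, hfac, hK, hI, hrk, hdg, hp, -⟩ :=
      exists_decomp k hdim.le hM hT (i ≫ φ ≫ twist L (cokernel.π i))
    haveI := hjI
    obtain ⟨G', g, hg, hG', hrG', hdG'⟩ := exists_sub_of_twist k hdim hL hQ
      (jI ≫ (CurveTensor.commIso (cokernel i) L).hom) hI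
    have a1 := hquot G' g hg hG' (by have := hp hne; omega)
    have b1 := hall (kernel (i ≫ φ ≫ twist L (cokernel.π i))) (kernel.ι _ ≫ i) (mono_comp _ _) hK
    rw [hrG', hdG'] at a1
    have r1 : (rk M : ℤ) = rk (kernel (i ≫ φ ≫ twist L (cokernel.π i))) + rk I := by exact_mod_cast hrk
    have e1 : 0 ≤ -((rk I : ℤ) * Curv2.deg k X L 1) * (rk M : ℤ) :=
      mul_nonneg (neg_nonneg.2 (mul_nonpos_of_nonneg_of_nonpos (Int.natCast_nonneg _) hL0)) (Int.natCast_nonneg _)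
    have r3 : dg k M * (rk M : ℤ) = dg k M * rk (kernel (i ≫ φ ≫ twist L (cokernel.π i))) + dg k M * rk I := by
      rw [r1]; ring
    have r4 : dg k M * (rk M : ℤ) =
        dg k (kernel (i ≫ φ ≫ twist L (cokernel.π i))) * rk M + dg k I * rk M := by rw [hdg]; ring
    linarith
  have c1 := h M i hi hM hvM
  have c2 := hall G j hj hG
  have hM0 : (0 : ℤ) < rk M := by exact_mod_cast hpos
  have c1' := mul_le_mul_of_nonneg_right c1 (Int.natCast_nonneg (rk G))
  have c2' := mul_le_mul_of_nonneg_right c2 (Int.natCast_nonneg (rk E))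
  refine le_of_mul_le_mul_right ?_ hM0
  linarith

/-- Left multiplication by a bundle cancels on line bundles. -/
theorem nonempty_iso_one_of_absorb {A Q : X.Modules} (hQ : PicF.IsInvertible Q)
    (e : CohB1.tensorMod A Q ≅ Q) : Nonempty (A ≅ Coh.structureModule X) := by
  obtain ⟨D, hD, ⟨d⟩⟩ := H23.PicInv.exists_inverse hQ
  obtain ⟨u⟩ := H23.PicMul.unit A
  obtain ⟨a⟩ := H23.PicMul.assoc A Q D
  exact ⟨u.symm ≪≫ PicGrp.tensorModIso (Iso.refl A) d.symm ≪≫ a.symm ≪≫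
    PicGrp.tensorModIso e (Iso.refl D) ≪≫ d⟩

end Groth.Agent.BunLib68
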