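import Groth.Agent.RefX.Reflexive
import Groth.Agent.H23.TensorDesc
import Groth.Agent.KFlatLib.Scheme.PullTensor
import Groth.Agent.KFlatLib.Scheme.Exact

/-!
# The sheaf `RefHull.homSh` as a functor, its global sections, and currying
-/

universe u

set_option backward.isDefEq.respectTransparency false
set_option backward.isDefEq.respectTransparency.types false
set_option linter.style.haveILetI false
set_option linter.unusedVariables false

open CategoryTheory CategoryTheory.Limits AlgebraicGeometry TopologicalSpace Opposite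
open scoped TensorProduct

noncomputable section

namespace Groth.Agent.BunLib68

variable {X : Scheme.{u}} {F F' G G' M N P : X.Modules}

theorem stalkMapₗ_comp (φ : F ⟶ G) (ψ : G ⟶ G') (x : X) :
    RefHull.stalkMapₗ (φ ≫ ψ) x = (RefHull.stalkMapₗ ψ x).comp (RefHull.stalkMapₗ φ x) := by
  refine LinearMap.ext fun v => ?_
  obtain ⟨U, hx, m, rfl⟩ := TopCat.Presheaf.exists_germ_eq F.presheaf v
  rw [LinearMap.comp_apply, RefHull.stalkMapₗ_germ, RefHull.stalkMapₗ_germ, RefHull.stalkMapₗ_germ]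
  rfl

theorem stalkMapₗ_id (x : X) : RefHull.stalkMapₗ (𝟙 F) x = LinearMap.id := by
  refine LinearMap.ext fun v => ?_
  obtain ⟨U, hx, m, rfl⟩ := TopCat.Presheaf.exists_germ_eq F.presheaf v
  rw [RefHull.stalkMapₗ_germ]
  rfl

theorem stalkMapₗ_eq (φ : F ⟶ G) (x : X) :
    RefHull.stalkMapₗ φ x = ((DerSch.stalkFunctor X x).map φ).hom := rfl

theorem hom_ext_stalk {φ ψ : F ⟶ G} (h : ∀ x, RefHull.stalkMapₗ φ x = RefHull.stalkMapₗ ψ x) :
    φ = ψ := by
  refine Scheme.Modules.hom_ext _ _ fun U => ?_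
  ext m
  refine ZClosLib.section_ext G _ _ fun y hy => ?_
  rw [← RefHull.stalkMapₗ_germ, ← RefHull.stalkMapₗ_germ, h]

/-! ## Functoriality -/

/-- Postcomposition on sections. -/
def mapFun (g : G ⟶ G') (U : X.Opens) : Γ(RefHull.homSh F G, U) →+ Γ(RefHull.homSh F G', U) where
  toFun f := ⟨fun y => (RefHull.stalkMapₗ g y.1).comp (f.1 y), fun V i m x => by
    obtain ⟨W, hW, j, n, w⟩ := RefHull.isLocSect_of_mem f V i m x
    refine ⟨W, hW, j, g.app W n, fun y => ?_⟩
    have e := w y
    dsimp only at e ⊢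
    rw [LinearMap.comp_apply, e, RefHull.stalkMapₗ_germ]⟩
  map_zero' := Subtype.ext <| funext fun y => LinearMap.comp_zero _
  map_add' f f' := Subtype.ext <| funext fun y => LinearMap.comp_add _ _ _

/-- Postcomposition. -/
def map (F : X.Modules) (g : G ⟶ G') : RefHull.homSh F G ⟶ RefHull.homSh F G' :=
  ⟨PresheafOfModules.homMk
    { app := fun U => AddCommGrpCat.ofHom (mapFun g U.unop)
      naturality := fun {U V} i => rfl }
    (fun U r f => Subtype.ext <| funext fun y => LinearMap.comp_smul _ _ _)⟩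

@[simp] theorem map_app_val (g : G ⟶ G') {U : X.Opens} (f : Γ(RefHull.homSh F G, U)) (y : U) :
    ((map F g).app U f).1 y = (RefHull.stalkMapₗ g y.1).comp (f.1 y) := rfl

/-- Precomposition on sections. -/
def comapFun (h : F' ⟶ F) (U : X.Opens) : Γ(RefHull.homSh F G, U) →+ Γ(RefHull.homSh F' G, U) where
  toFun f := ⟨fun y => (f.1 y).comp (RefHull.stalkMapₗ h y.1), fun V i m x => by
    obtain ⟨W, hW, j, n, w⟩ := RefHull.isLocSect_of_mem f V i (h.app V m) x
    refine ⟨W, hW, j, n, fun y => ?_⟩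
    have e := w y
    dsimp only at e ⊢
    rw [LinearMap.comp_apply, RefHull.stalkMapₗ_germ, e]⟩
  map_zero' := Subtype.ext <| funext fun y => LinearMap.zero_comp _
  map_add' f f' := Subtype.ext <| funext fun y => LinearMap.add_comp _ _ _

/-- Precomposition. -/
def comap (G : X.Modules) (h : F' ⟶ F) : RefHull.homSh F G ⟶ RefHull.homSh F' G :=
  ⟨PresheafOfModules.homMk
    { app := fun U => AddCommGrpCat.ofHom (comapFun h U.unop)
      naturality := fun {U V} i => rfl }
    (fun U r f => Subtype.ext <| funext fun y => LinearMap.smul_comp _ _ _)⟩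

@[simp] theorem comap_app_val (h : F' ⟶ F) {U : X.Opens} (f : Γ(RefHull.homSh F G, U)) (y : U) :
    ((comap G h).app U f).1 y = (f.1 y).comp (RefHull.stalkMapₗ h y.1) := rfl

theorem hom_ext_homSh {φ ψ : M ⟶ RefHull.homSh F G}
    (h : ∀ (U : X.Opens) (m : Γ(M, U)) (y : U), (φ.app U m).1 y = (ψ.app U m).1 y) : φ = ψ := by
  refine Scheme.Modules.hom_ext _ _ fun U => ?_
  ext m
  exact RefX.sect_ext fun y => h U m y

theorem map_id : map F (𝟙 G) = 𝟙 _ :=
  hom_ext_homSh fun U f y => by rw [map_app_val, stalkMapₗ_id]; rfl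

theorem map_comp (g : G ⟶ G') (g' : G' ⟶ P) : map F (g ≫ g') = map F g ≫ map F g' :=
  hom_ext_homSh fun U f y => by
    show _ = (RefHull.stalkMapₗ g' y.1).comp ((RefHull.stalkMapₗ g y.1).comp (f.1 y))
    rw [map_app_val, stalkMapₗ_comp, LinearMap.comp_assoc]

theorem comap_id : comap G (𝟙 F) = 𝟙 _ :=
  hom_ext_homSh fun U f y => by rw [comap_app_val, stalkMapₗ_id]; rfl

theorem comap_comp (h : F' ⟶ F) (h' : P ⟶ F') : comap G (h' ≫ h) = comap G h ≫ comap G h' :=
  hom_ext_homSh fun U f y => by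
    show _ = ((f.1 y).comp (RefHull.stalkMapₗ h y.1)).comp (RefHull.stalkMapₗ h' y.1)
    rw [comap_app_val, stalkMapₗ_comp, LinearMap.comp_assoc]

/-- Transport along isomorphisms. -/
def isoCongr (e : F ≅ F') (e' : G ≅ G') : RefHull.homSh F G ≅ RefHull.homSh F' G' where
  hom := comap G e.inv ≫ map F' e'.hom
  inv := map F' e'.inv ≫ comap G e.hom
  hom_inv_id := by
    rw [Category.assoc, ← Category.assoc (map F' e'.hom), ← map_comp, e'.hom_inv_id, map_id,
      Category.id_comp, ← comap_comp, e.hom_inv_id, comap_id]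
  inv_hom_id := by
    rw [Category.assoc, ← Category.assoc (comap G e.hom), ← comap_comp, e.inv_hom_id, comap_id,
      Category.id_comp, ← map_comp, e'.inv_hom_id, map_id]

theorem evalStalk_map (g : G ⟶ G') (x : X) (θ : (RefHull.homSh F G).presheaf.stalk x) :
    RefHull.evalStalk F G' x (RefHull.stalkMapₗ (map F g) x θ) =
      (RefHull.stalkMapₗ g x).comp (RefHull.evalStalk F G x θ) := by
  obtain ⟨U, hx, f, rfl⟩ := TopCat.Presheaf.exists_germ_eq (RefHull.homSh F G).presheaf θ
  rw [RefHull.stalkMapₗ_germ, RefHull.evalStalk_germ, RefHull.evalStalk_germ, map_app_val]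

theorem evalStalk_comap (h : F' ⟶ F) (x : X) (θ : (RefHull.homSh F G).presheaf.stalk x) :
    RefHull.evalStalk F' G x (RefHull.stalkMapₗ (comap G h) x θ) =
      (RefHull.evalStalk F G x θ).comp (RefHull.stalkMapₗ h x) := by
  obtain ⟨U, hx, f, rfl⟩ := TopCat.Presheaf.exists_germ_eq (RefHull.homSh F G).presheaf θ
  rw [RefHull.stalkMapₗ_germ, RefHull.evalStalk_germ, RefHull.evalStalk_germ, comap_app_val]

/-! ## Global sections are morphisms -/

/-- The morphism of a global section of the sheaf Hom. -/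
def toHom (g : Γ(RefHull.homSh F G, ⊤)) : F ⟶ G :=
  ⟨PresheafOfModules.homMk
    { app := fun U => AddCommGrpCat.ofHom
        (AddMonoidHom.mk' (RefX.app (le_top : U.unop ≤ ⊤) g) (RefX.app_add _ g))
      naturality := fun {U V} i => by
        ext m
        exact (RefX.res_app (le_top : U.unop ≤ ⊤) i.unop.le g m).symm }
    (fun U r m => RefX.app_smul (le_top : U.unop ≤ ⊤) g r m)⟩

theorem stalkMapₗ_toHom (g : Γ(RefHull.homSh F G, ⊤)) (x : X) :
    RefHull.stalkMapₗ (toHom g) x = g.1 ⟨x, trivial⟩ := by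
  refine LinearMap.ext fun v => ?_
  obtain ⟨U, hx, m, rfl⟩ := TopCat.Presheaf.exists_germ_eq F.presheaf v
  rw [RefHull.stalkMapₗ_germ]
  exact RefX.germ_app (le_top : U ≤ ⊤) g m hx

theorem toHom_map (g : G ⟶ G') (f : Γ(RefHull.homSh F G, ⊤)) :
    toHom ((map F g).app ⊤ f) = toHom f ≫ g :=
  hom_ext_stalk fun x => by rw [stalkMapₗ_toHom, stalkMapₗ_comp, stalkMapₗ_toHom, map_app_val]

theorem toHom_comap (h : F' ⟶ F) (f : Γ(RefHull.homSh F G, ⊤)) :
    toHom ((comap G h).app ⊤ f) = h ≫ toHom f :=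
  hom_ext_stalk fun x => by rw [stalkMapₗ_toHom, stalkMapₗ_comp, stalkMapₗ_toHom, comap_app_val]

theorem toHom_ofHom (φ : F ⟶ G) : toHom (RefHull.ofHom φ ⊤) = φ :=
  hom_ext_stalk fun x => by rw [stalkMapₗ_toHom, RefHull.ofHom_apply]

theorem ofHom_toHom (g : Γ(RefHull.homSh F G, ⊤)) : RefHull.ofHom (toHom g) ⊤ = g :=
  RefX.sect_ext fun y => by rw [RefHull.ofHom_apply, stalkMapₗ_toHom]

/-- Morphisms are the global sections of the sheaf Hom. -/
def homEquiv : Γ(RefHull.homSh F G, ⊤) ≃+ (F ⟶ G) where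
  toFun := toHom
  invFun φ := RefHull.ofHom φ ⊤
  left_inv := ofHom_toHom
  right_inv := toHom_ofHom
  map_add' f g := hom_ext_stalk fun x => by
    rw [stalkMapₗ_toHom, stalkMapₗ_eq, Functor.map_add]
    show _ = RefHull.stalkMapₗ (toHom f) x + RefHull.stalkMapₗ (toHom g) x
    rw [stalkMapₗ_toHom, stalkMapₗ_toHom]
    rfl

/-! ## Currying -/

/-- The pure tensor of two germs in the stalk of the tensor product. -/
def stalkPair (M N : X.Modules) (x : X) :
    N.presheaf.stalk x →ₗ[X.presheaf.stalk x] M.presheaf.stalk x →ₗ[X.presheaf.stalk x]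
      (CohB1.tensorMod M N).presheaf.stalk x :=
  ((TensorProduct.mk (X.presheaf.stalk x) (M.presheaf.stalk x) (N.presheaf.stalk x)).compr₂
    (KFlatLib.stalkTensorIso x M N).toLinearEquiv.toLinearMap).flip

theorem stalkPair_germ (x : X) {U : X.Opens} (hx : x ∈ U) (m : Γ(M, U)) (n : Γ(N, U)) :
    stalkPair M N x (N.presheaf.germ U x hx n) (M.presheaf.germ U x hx m) =
      (CohB1.tensorMod M N).presheaf.germ U x hx (SecTwist.tmul M N U m n) :=
  KFlatLib.stalkTensorIso_gm M N U hx m n

theorem germ_pair (x : X) {U V : X.Opens} (hxU : x ∈ U) (hxV : x ∈ V) (m : Γ(M, V)) (n : Γ(N, U))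
    (h : V ≤ U) :
    stalkPair M N x (N.presheaf.germ U x hxU n) (M.presheaf.germ V x hxV m) =
      (CohB1.tensorMod M N).presheaf.germ V x hxV (SecTwist.tmul M N V m (AModX.res N h n)) := by
  rw [← stalkPair_germ, RefX.germ_res]

/-- Currying on sections. -/
def curryFun (φ : CohB1.tensorMod M N ⟶ P) (U : X.Opens) : Γ(N, U) →+ Γ(RefHull.homSh M P, U) where
  toFun n := ⟨fun y => (RefHull.stalkMapₗ φ y.1).comp (stalkPair M N y.1 (N.presheaf.germ U y.1 y.2 n)),
    fun V i m x => ⟨V, x.2, 𝟙 V, φ.app V (SecTwist.tmul M N V m (AModX.res N i.le n)), fun y => by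
      dsimp only
      rw [LinearMap.comp_apply, germ_pair y.1 (i.le y.2) y.2 m n i.le, RefHull.stalkMapₗ_germ]⟩⟩
  map_zero' := Subtype.ext <| funext fun y => by
    simp only [map_zero, LinearMap.comp_zero]
    rfl
  map_add' n n' := Subtype.ext <| funext fun y => by
    simp only [map_add, LinearMap.comp_add]
    rfl

/-- Currying. -/
def curry (φ : CohB1.tensorMod M N ⟶ P) : N ⟶ RefHull.homSh M P :=
  ⟨PresheafOfModules.homMk
    { app := fun U => AddCommGrpCat.ofHom (curryFun φ U.unop)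
      naturality := fun {U V} i => by
        ext n
        refine Subtype.ext (funext fun y => ?_)
        change (RefHull.stalkMapₗ φ y.1).comp (stalkPair M N y.1 _) = (RefHull.stalkMapₗ φ y.1).comp (stalkPair M N y.1 _)
        exact congrArg (fun v => (RefHull.stalkMapₗ φ y.1).comp (stalkPair M N y.1 v))
          (TopCat.Presheaf.germ_res_apply' N.presheaf i y.1 y.2 n) }
    (fun U r n => Subtype.ext <| funext fun y => by
      change (RefHull.stalkMapₗ φ y.1).comp (stalkPair M N y.1 _) =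
        X.presheaf.germ U.unop y.1 y.2 r • (RefHull.stalkMapₗ φ y.1).comp (stalkPair M N y.1 _)
      rw [← LinearMap.comp_smul, ← map_smul]
      exact congrArg (fun v => (RefHull.stalkMapₗ φ y.1).comp (stalkPair M N y.1 v))
        (Mero.germ_smul N U.unop y.1 y.2 r n))⟩

theorem eq_zero_of_curry {φ : CohB1.tensorMod M N ⟶ P} (h : curry φ = 0) : φ = 0 := by
  refine hom_ext_stalk fun x => ?_
  rw [stalkMapₗ_eq, stalkMapₗ_eq, Functor.map_zero]
  refine LinearMap.ext fun w => ?_
  obtain ⟨t, rfl⟩ := (KFlatLib.stalkTensorIso x M N).toLinearEquiv.surjective w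
  induction t using TensorProduct.induction_on with
  | zero => simp
  | add a b ha hb =>
    simp only [map_add] at ha hb ⊢
    rw [ha, hb]
  | tmul a b =>
    obtain ⟨U, hx, m, rfl⟩ := TopCat.Presheaf.exists_germ_eq N.presheaf b
    have h0 : (curry φ).app U m = 0 := by rw [h]; rfl
    have h1 := congrArg (fun (s : Γ(RefHull.homSh M P, U)) => s.1 ⟨x, hx⟩ a) h0
    exact h1

end Groth.Agent.BunLib68
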