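import Groth.Agent.BunLib68.Free
import Groth.Agent.Lib.CurveEnd
import Mathlib.CategoryTheory.Preadditive.Biproducts

/-!
# Krull–Schmidt for bundles on a curve
-/

universe u

set_option backward.isDefEq.respectTransparency false
set_option backward.isDefEq.respectTransparency.types false
set_option linter.style.haveILetI false
set_option linter.unusedSectionVars false
set_option linter.unusedVariables false
set_option synthInstance.maxHeartbeats 100000

open CategoryTheory CategoryTheory.Limits AlgebraicGeometry TopologicalSpace Opposite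

noncomputable section

namespace Groth.Agent.BunLib68.KS

open Groth.Agent.CurveBundle Groth.Agent.CurveSlope Groth.Agent.CurveStable

variable {X : Scheme.{u}}

/-- An indecomposable bundle. -/
def IsIndec (A : X.Modules) : Prop :=
  FlatMod.IsFinLocFree A ∧ ¬ IsZero A ∧
    ∀ A₁ A₂ : X.Modules, Nonempty (A ≅ A₁ ⊞ A₂) → IsZero A₁ ∨ IsZero A₂

/-- The sum of a list. -/
def sumL : List X.Modules → X.Modules
  | [] => FlatMod.freeMod X 0
  | A :: l => A ⊞ sumL l

theorem isZero_freeZero : IsZero (FlatMod.freeMod X 0) :=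
  (IsZero.iff_id_eq_zero _).2 (Sigma.hom_ext _ _ fun i => i.elim0)

/-- Adding a zero module. -/
def biprodZeroIso (A : X.Modules) {Z : X.Modules} (hZ : IsZero Z) : A ⊞ Z ≅ A where
  hom := biprod.fst
  inv := biprod.inl
  hom_inv_id := biprod.hom_ext _ _ (by simp) (hZ.eq_of_tgt _ _)
  inv_hom_id := biprod.inl_fst

theorem sumL_append (l l' : List X.Modules) : Nonempty (sumL (l ++ l') ≅ sumL l ⊞ sumL l') := by
  induction l with
  | nil => exact ⟨(biprodZeroIso _ isZero_freeZero).symm ≪≫ biprod.braiding _ _⟩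
  | cons A l ih =>
    obtain ⟨e⟩ := ih
    exact ⟨biprod.mapIso (Iso.refl A) e ≪≫ (biprod.associator _ _ _).symm⟩

theorem sumL_perm {l l' : List X.Modules} (h : l.Perm l') : Nonempty (sumL l ≅ sumL l') := by
  induction h with
  | nil => exact ⟨Iso.refl _⟩
  | cons A _ ih => exact ⟨biprod.mapIso (Iso.refl A) ih.some⟩
  | swap A B l =>
    exact ⟨(biprod.associator B A (sumL l)).symm ≪≫ biprod.mapIso (biprod.braiding B A) (Iso.refl _) ≪≫
      biprod.associator A B (sumL l)⟩
  | trans _ _ ih ih' => exact ⟨ih.some ≪≫ ih'.some⟩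

theorem sumL_map {l l' : List X.Modules} (h : List.Forall₂ (fun A B => Nonempty (A ≅ B)) l l') :
    Nonempty (sumL l ≅ sumL l') := by
  induction h with
  | nil => exact ⟨Iso.refl _⟩
  | cons h _ ih => exact ⟨biprod.mapIso h.some ih.some⟩

/-- A splitting of a retract. -/
theorem exists_compl {A B : X.Modules} (i : A ⟶ B) (p : B ⟶ A) (h : i ≫ p = 𝟙 A) :
    ∃ (R : X.Modules) (e : B ≅ A ⊞ R), i ≫ e.hom = biprod.inl := by
  haveI : IsSplitMono i := IsSplitMono.mk' ⟨p, h⟩
  let S : ShortComplex X.Modules := ShortComplex.mk i (cokernel.π i) (cokernel.condition i)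
  have hS : S.ShortExact := shortExact_cokernel_of_mono i
  let sp := ShortComplex.Splitting.ofExactOfRetraction S hS.exact p h hS.epi_g
  refine ⟨cokernel i, sp.isoBinaryBiproduct, ?_⟩
  refine biprod.hom_ext _ _ ?_ ?_
  · show (i ≫ biprod.lift sp.r (cokernel.π i)) ≫ biprod.fst = _
    rw [Category.assoc, biprod.lift_fst, biprod.inl_fst]
    exact sp.f_r
  · show (i ≫ biprod.lift sp.r (cokernel.π i)) ≫ biprod.snd = _
    rw [Category.assoc, biprod.lift_snd, biprod.inl_snd, cokernel.condition]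

theorem isIso_of_retract {A B : X.Modules} (hA : ¬ IsZero A) (hB : IsIndec B) (i : A ⟶ B) (p : B ⟶ A)
    (h : i ≫ p = 𝟙 A) : IsIso i := by
  obtain ⟨R, e, he⟩ := exists_compl i p h
  rcases hB.2.2 A R ⟨e⟩ with hz | hz
  · exact absurd hz hA
  · have : i = (biprodZeroIso A hz).inv ≫ e.inv := by
      rw [show (biprodZeroIso A hz).inv = biprod.inl from rfl, ← he, Category.assoc, e.hom_inv_id,
        Category.comp_id]
    rw [this]
    infer_instance

variable (k : Type u) [Field k] [X.Over (Spec (CommRingCat.of k))] [IsIntegral X]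
  [IsProper (X ↘ Spec (CommRingCat.of k))] [Smooth (X ↘ Spec (CommRingCat.of k))]

theorem rk_biprod {A B : X.Modules} (h : FlatMod.IsFinLocFree (A ⊞ B)) : rk (A ⊞ B) = rk A + rk B := by
  have hS := (ShortComplex.Splitting.ofHasBinaryBiproduct A B).shortExact
  exact rk_add' _ _ _ hS (finite_stalk h _)

include k in
theorem isFinLocFree_retract (hdim : topologicalKrullDim X ≤ 1) {A B : X.Modules} (hB : FlatMod.IsFinLocFree B)
    (i : A ⟶ B) (p : B ⟶ A) (h : i ≫ p = 𝟙 A) : FlatMod.IsFinLocFree A := by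
  haveI := isLocallyNoetherian' k (X := X)
  haveI : IsSplitMono i := IsSplitMono.mk' ⟨p, h⟩
  haveI : IsSplitEpi p := IsSplitEpi.mk' ⟨i, h⟩
  have hq : Coh.IsQCoh A := by
    have hC : Coh.IsCoh (kernel (𝟙 B - p ≫ i)) :=
      QCoh.isCoh_kernel (coh_of_free k hB) (coh_of_free k hB) _
    have w : i ≫ (𝟙 B - p ≫ i) = 0 := by rw [Preadditive.comp_sub, Category.comp_id, reassoc_of% h, sub_self]
    let e : A ≅ kernel (𝟙 B - p ≫ i) :=
      { hom := kernel.lift _ i w
        inv := kernel.ι _ ≫ p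
        hom_inv_id := by rw [kernel.lift_ι_assoc, h]
        inv_hom_id := by
          rw [← cancel_mono (kernel.ι (𝟙 B - p ≫ i)), Category.assoc, kernel.lift_ι, Category.id_comp]
          have := kernel.condition (𝟙 B - p ≫ i)
          rw [Preadditive.comp_sub, Category.comp_id, sub_eq_zero] at this
          rw [Category.assoc]
          exact this.symm }
    exact (QCoh.isQCoh_iff_iso e).2 hC.1
  have hA : Coh.IsCoh A := QCoh.isCoh_of_epi p (coh_of_free k hB) hq
  exact isFinLocFree_of_mono k hdim hA i hB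

variable (hdim : topologicalKrullDim X = 1)
include hdim k

/-- Every bundle is a sum of indecomposable ones. -/
theorem exists_decomposition : ∀ (n : ℕ) (M : X.Modules), FlatMod.IsFinLocFree M → rk M = n →
    ∃ l : List X.Modules, (∀ A ∈ l, IsIndec A) ∧ Nonempty (M ≅ sumL l) := by
  haveI := isLocallyNoetherian' k (X := X)
  intro n
  induction n using Nat.strong_induction_on with
  | _ n ih =>
    intro M hM hn
    by_cases hz : IsZero M
    · exact ⟨[], fun A hA => absurd hA List.not_mem_nil, ⟨hz.iso isZero_freeZero⟩⟩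
    by_cases hind : IsIndec M
    · exact ⟨[M], fun A hA => List.mem_singleton.1 hA ▸ hind,
        ⟨(biprodZeroIso M isZero_freeZero).symm⟩⟩
    obtain ⟨A, B, ⟨e⟩, hA, hB⟩ : ∃ A B, Nonempty (M ≅ A ⊞ B) ∧ ¬ IsZero A ∧ ¬ IsZero B := by
      by_contra hc
      refine hind ⟨hM, hz, fun A B he => ?_⟩
      by_contra hAB
      rw [not_or] at hAB
      exact hc ⟨A, B, he, hAB.1, hAB.2⟩
    have hAB : FlatMod.IsFinLocFree (A ⊞ B) := H23.PullPush.isFinLocFree_of_iso e hM
    have hAf := isFinLocFree_retract k hdim.le hAB biprod.inl biprod.fst biprod.inl_fst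
    have hBf := isFinLocFree_retract k hdim.le hAB biprod.inr biprod.snd biprod.inr_snd
    have hr := rk_biprod hAB
    rw [← rk_congr e, hn] at hr
    have hA0 := (isZero_or_pos k hAf).resolve_left hA
    have hB0 := (isZero_or_pos k hBf).resolve_left hB
    obtain ⟨l, hl, ⟨a⟩⟩ := ih (rk A) (by omega) A hAf rfl
    obtain ⟨l', hl', ⟨b⟩⟩ := ih (rk B) (by omega) B hBf rfl
    exact ⟨l ++ l', fun C hC => (List.mem_append.1 hC).elim (hl C) (hl' C),
      ⟨e ≪≫ biprod.mapIso a b ≪≫ (sumL_append l l').some.symm⟩⟩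

variable [IsAlgClosed k]

theorem end_local {A : X.Modules} (hA : IsIndec A) (f g : End A) (h : f + g = 1) : IsUnit f ∨ IsUnit g := by
  rcases CurveEnd.isUnit_or_isNilpotent_end (k := k) A (rk A) (isFinLocFreeOfRank_rk hA.1) hA.2.2 f with hf | hf
  · exact Or.inl hf
  · right
    rw [show g = 1 - f by rw [← h, add_sub_cancel_left]]
    exact hf.isUnit_one_sub

/-- Exchange: a retract of a sum of indecomposables is one of them, and can be cancelled. -/
theorem exists_exchange {A : X.Modules} (hA : IsIndec A) : ∀ (l : List X.Modules), (∀ B ∈ l, IsIndec B) →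
    ∀ (R : X.Modules), (A ⊞ R ≅ sumL l) → ∃ (B : X.Modules) (l' : List X.Modules),
      l.Perm (B :: l') ∧ Nonempty (A ≅ B) ∧ Nonempty (R ≅ sumL l') := by
  intro l
  induction l with
  | nil =>
    intro _ R e
    refine absurd ((IsZero.iff_id_eq_zero A).2 ?_) hA.2.1
    rw [← biprod.inl_fst (X := A) (Y := R), ← Category.comp_id biprod.inl, ← e.hom_inv_id,
      isZero_freeZero.eq_of_tgt e.hom 0, zero_comp, comp_zero, zero_comp]
  | cons B t ih =>
    intro hl R e0
    let e : A ⊞ R ≅ B ⊞ sumL t := e0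
    let a : A ⟶ B := biprod.inl ≫ e.hom ≫ biprod.fst
    let b : A ⟶ sumL t := biprod.inl ≫ e.hom ≫ biprod.snd
    let a' : B ⟶ A := biprod.inl ≫ e.inv ≫ biprod.fst
    let b' : sumL t ⟶ A := biprod.inr ≫ e.inv ≫ biprod.fst
    have hsum : a ≫ a' + b ≫ b' = 𝟙 A := by
      have h2 : (biprod.inl ≫ e.hom) ≫ (biprod.fst ≫ biprod.inl + biprod.snd ≫ biprod.inr) ≫ e.inv ≫
          biprod.fst = 𝟙 A := by
        rw [biprod.total, Category.id_comp, Category.assoc, e.hom_inv_id_assoc, biprod.inl_fst]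
      simpa only [a, b, a', b', Preadditive.add_comp, Preadditive.comp_add, Category.assoc] using h2
    rcases end_local k hdim hA (a ≫ a') (b ≫ b') hsum with h | h
    · haveI : IsIso (a ≫ a') := (isUnit_iff_isIso _).1 h
      haveI : IsIso (biprod.inl ≫ e.hom ≫ biprod.fst) :=
        isIso_of_retract hA.2.1 (hl B List.mem_cons_self) a (a' ≫ inv (a ≫ a'))
          (by rw [← Category.assoc, IsIso.hom_inv_id])
      exact ⟨B, t, List.Perm.refl _, ⟨asIso a⟩, ⟨Biprod.isoElim e⟩⟩
    · haveI : IsIso (b ≫ b') := (isUnit_iff_isIso _).1 h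
      obtain ⟨R', et, het⟩ := exists_compl b (b' ≫ inv (b ≫ b')) (by rw [← Category.assoc, IsIso.hom_inv_id])
      obtain ⟨B₀, t', hp, hAB, ⟨eR⟩⟩ :=
        ih (fun C hC => hl C (List.mem_cons_of_mem _ hC)) R' et.symm
      let e2 : A ⊞ R ≅ A ⊞ (B ⊞ R') := e ≪≫ biprod.mapIso (Iso.refl B) et ≪≫ (biprod.associator B A R').symm ≪≫
        biprod.mapIso (biprod.braiding B A) (Iso.refl R') ≪≫ biprod.associator A B R'
      have hcomp : biprod.inl ≫ e2.hom ≫ biprod.fst = 𝟙 A := by
        have : b ≫ et.hom ≫ biprod.fst = 𝟙 A := by rw [reassoc_of% het, biprod.inl_fst]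
        simpa [e2, b] using this
      haveI : IsIso (biprod.inl ≫ e2.hom ≫ biprod.fst) := by rw [hcomp]; infer_instance
      exact ⟨B₀, B :: t', (hp.cons B).trans (List.Perm.swap _ _ _), hAB,
        ⟨Biprod.isoElim e2 ≪≫ biprod.mapIso (Iso.refl B) eR⟩⟩

end Groth.Agent.BunLib68.KS
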