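import Groth.Agent.BunLib68.KS
import Groth.Agent.KZ.CohClass
import Mathlib.Algebra.BigOperators.Fin
import Mathlib.Algebra.Category.ModuleCat.Biproducts

/-!
# The class of a bundle in the free monoid on indecomposable bundles
-/

universe u

set_option backward.isDefEq.respectTransparency false
set_option backward.isDefEq.respectTransparency.types false
set_option linter.style.haveILetI false
set_option linter.unusedSectionVars false
set_option linter.unusedVariables false
set_option synthInstance.maxHeartbeats 100000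

open CategoryTheory CategoryTheory.Limits AlgebraicGeometry TopologicalSpace Opposite

noncomputable section

namespace Groth.Agent.BunLib68.KS

open Groth.Agent.CurveBundle Groth.Agent.CurveSlope Groth.Agent.CurveStable

variable {X : Scheme.{u}}

/-- Isomorphism classes. -/
abbrev Cls (X : Scheme.{u}) := Quotient (isIsomorphicSetoid X.Modules)

/-- The class of a module. -/
def mk (A : X.Modules) : Cls X := Quotient.mk (isIsomorphicSetoid X.Modules) A

theorem mk_eq_iff {A B : X.Modules} : mk A = mk B ↔ Nonempty (A ≅ B) := Quotient.eq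

/-- A decomposition into indecomposable bundles. -/
def Dec (M : X.Modules) (l : List X.Modules) : Prop :=
  (∀ A ∈ l, IsIndec A) ∧ Nonempty (M ≅ sumL l)

/-- The multiset of classes of the indecomposable summands. -/
def cls (M : X.Modules) : Multiset (Cls X) :=
  open Classical in if h : ∃ l, Dec M l then ↑(h.choose.map mk) else 0

theorem isZero_retract {A B : X.Modules} (hB : IsZero B) (i : A ⟶ B) (p : B ⟶ A) (h : i ≫ p = 𝟙 A) :
    IsZero A :=
  (IsZero.iff_id_eq_zero A).2 (by rw [← h, hB.eq_of_tgt i 0, zero_comp])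

theorem isFinLocFree_biprod [IsLocallyNoetherian X] {A B : X.Modules} (hA : FlatMod.IsFinLocFree A)
    (hB : FlatMod.IsFinLocFree B) : FlatMod.IsFinLocFree (A ⊞ B) := by
  have hc : Coh.IsCoh (A ⊞ B) :=
    KZ.isCoh_X₂ (S := ShortComplex.mk biprod.inl biprod.snd (biprod.inl_snd (X := A) (Y := B)))
      (ShortComplex.Splitting.ofHasBinaryBiproduct A B).shortExact
      (CurveDeg.isCoh_of_isFinLocFree hA) (CurveDeg.isCoh_of_isFinLocFree hB)
  refine QCoh.isFinLocFree_iff.2 ⟨QCoh.isCoh_iff_isFP.1 hc, fun x => ?_⟩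
  let F := DerSch.stalkFunctor X x
  haveI := QCoh.free_stalk_of_isFinLocFree hA x
  haveI := QCoh.free_stalk_of_isFinLocFree hB x
  haveI := preservesBinaryBiproducts_of_preservesBiproducts F
  let e := (F.mapBiprod A B ≪≫ ModuleCat.biprodIsoProd (F.obj A) (F.obj B)).toLinearEquiv
  haveI : Module.Free (X.presheaf.stalk x) (F.obj A) := QCoh.free_stalk_of_isFinLocFree hA x
  haveI : Module.Free (X.presheaf.stalk x) (F.obj B) := QCoh.free_stalk_of_isFinLocFree hB x
  exact Module.Free.of_equiv e.symm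

theorem isFinLocFree_sumL [IsLocallyNoetherian X] : ∀ {l : List X.Modules},
    (∀ A ∈ l, FlatMod.IsFinLocFree A) → FlatMod.IsFinLocFree (sumL l) := by
  intro l
  induction l with
  | nil => exact fun _ => KFlatLib.isFinLocFree_freeMod 0
  | cons A t ih =>
    exact fun h => isFinLocFree_biprod (h A List.mem_cons_self) (ih fun B hB => h B (List.mem_cons_of_mem _ hB))

variable (k : Type u) [Field k] [X.Over (Spec (CommRingCat.of k))] [IsIntegral X]
  [IsProper (X ↘ Spec (CommRingCat.of k))] [Smooth (X ↘ Spec (CommRingCat.of k))]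
  [IsAlgClosed k] (hdim : topologicalKrullDim X = 1)
include hdim k

theorem dec_unique : ∀ (l : List X.Modules) {M : X.Modules} {l' : List X.Modules}, Dec M l → Dec M l' →
    ((l.map mk : List (Cls X)) : Multiset (Cls X)) = ↑(l'.map mk) := by
  intro l
  induction l with
  | nil =>
    intro M l' h h'
    cases l' with
    | nil => rfl
    | cons B t =>
      exfalso
      obtain ⟨⟨e⟩, ⟨e'⟩⟩ := And.intro h.2 h'.2
      have hz : IsZero (B ⊞ sumL t) := isZero_freeZero.of_iso (e'.symm ≪≫ e)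
      exact (h'.1 B List.mem_cons_self).2.1 (isZero_retract hz biprod.inl biprod.fst biprod.inl_fst)
  | cons A t ih =>
    intro M l' h h'
    obtain ⟨e⟩ := h.2
    obtain ⟨e'⟩ := h'.2
    obtain ⟨B, l'', hp, hAB, he⟩ :=
      exists_exchange k hdim (h.1 A List.mem_cons_self) l' h'.1 (sumL t) (e.symm ≪≫ e')
    have h2 := ih (M := sumL t) (l' := l'') ⟨fun C hC => h.1 C (List.mem_cons_of_mem _ hC), ⟨Iso.refl _⟩⟩
      ⟨fun C hC => h'.1 C (hp.mem_iff.2 (List.mem_cons_of_mem _ hC)), he⟩
    rw [Multiset.coe_eq_coe.2 (hp.map mk), List.map_cons, List.map_cons, ← Multiset.cons_coe,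
      ← Multiset.cons_coe, h2, mk_eq_iff.2 hAB]

theorem exists_dec {M : X.Modules} (hM : FlatMod.IsFinLocFree M) : ∃ l, Dec M l :=
  exists_decomposition k hdim _ M hM rfl

theorem cls_eq {M : X.Modules} {l : List X.Modules} (h : Dec M l) : cls M = ↑(l.map mk) := by
  have he : ∃ l, Dec M l := ⟨l, h⟩
  rw [cls, dif_pos he]
  exact dec_unique k hdim _ he.choose_spec h

theorem cls_iso {M N : X.Modules} (hM : FlatMod.IsFinLocFree M) (e : M ≅ N) : cls M = cls N := by
  obtain ⟨l, hl⟩ := exists_dec k hdim hM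
  rw [cls_eq k hdim hl, cls_eq k hdim ⟨hl.1, ⟨e.symm ≪≫ hl.2.some⟩⟩]

theorem cls_biprod {A B : X.Modules} (hA : FlatMod.IsFinLocFree A) (hB : FlatMod.IsFinLocFree B) :
    cls (A ⊞ B) = cls A + cls B := by
  obtain ⟨l, hl⟩ := exists_dec k hdim hA
  obtain ⟨l', hl'⟩ := exists_dec k hdim hB
  rw [cls_eq k hdim hl, cls_eq k hdim hl', cls_eq k hdim (l := l ++ l')
    ⟨fun C hC => (List.mem_append.1 hC).elim (hl.1 C) (hl'.1 C),
      ⟨biprod.mapIso hl.2.some hl'.2.some ≪≫ (sumL_append l l').some.symm⟩⟩,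
    List.map_append, Multiset.coe_add]

theorem cls_eq_zero_of_isZero {M : X.Modules} (h : IsZero M) : cls M = 0 :=
  (cls_eq k hdim (l := []) ⟨fun A hA => absurd hA List.not_mem_nil, ⟨h.iso isZero_freeZero⟩⟩).trans rfl

theorem isZero_of_cls {M : X.Modules} (hM : FlatMod.IsFinLocFree M) (h : cls M = 0) : IsZero M := by
  obtain ⟨l, hl⟩ := exists_dec k hdim hM
  rw [cls_eq k hdim hl, Multiset.coe_eq_zero, List.map_eq_nil_iff] at h
  subst h
  exact isZero_freeZero.of_iso hl.2.some

theorem cls_le_of_retract {A B : X.Modules} (hB : FlatMod.IsFinLocFree B) (i : A ⟶ B) (p : B ⟶ A)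
    (h : i ≫ p = 𝟙 A) : cls A ≤ cls B := by
  obtain ⟨R, e, -⟩ := exists_compl i p h
  have hAR : FlatMod.IsFinLocFree (A ⊞ R) := H23.PullPush.isFinLocFree_of_iso e hB
  have hA := isFinLocFree_retract k hdim.le hAR biprod.inl biprod.fst biprod.inl_fst
  have hR := isFinLocFree_retract k hdim.le hAR biprod.inr biprod.snd biprod.inr_snd
  rw [cls_iso k hdim hB e, cls_biprod k hdim hA hR]
  exact le_self_add

theorem cls_indec {A : X.Modules} (hA : IsIndec A) : cls A = {mk A} :=
  (cls_eq k hdim (l := [A]) ⟨fun B hB => List.mem_singleton.1 hB ▸ hA,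
    ⟨(biprodZeroIso A isZero_freeZero).symm⟩⟩).trans rfl

omit hdim k in
theorem sumL_iso_of_classes : ∀ (l l' : List X.Modules),
    ((l.map mk : List (Cls X)) : Multiset (Cls X)) = ↑(l'.map mk) → Nonempty (sumL l ≅ sumL l') := by
  intro l
  induction l with
  | nil =>
    intro l' h
    rw [List.map_nil, eq_comm, Multiset.coe_eq_coe, List.perm_nil, List.map_eq_nil_iff] at h
    subst h
    exact ⟨Iso.refl _⟩
  | cons A t ih =>
    intro l' h
    have hA : mk A ∈ l'.map mk := (Multiset.coe_eq_coe.1 h).mem_iff.1 (by simp)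
    obtain ⟨B, hB, hBA⟩ := List.mem_map.1 hA
    obtain ⟨l₁, l₂, rfl⟩ := List.append_of_mem hB
    have hp : (l₁ ++ B :: l₂).Perm (B :: (l₁ ++ l₂)) := List.perm_middle
    rw [Multiset.coe_eq_coe.2 (hp.map mk), List.map_cons, List.map_cons, ← Multiset.cons_coe,
      ← Multiset.cons_coe, hBA, Multiset.cons_inj_right] at h
    obtain ⟨e⟩ := ih _ h
    obtain ⟨e'⟩ := mk_eq_iff.1 hBA
    exact ⟨biprod.mapIso e'.symm e ≪≫ (sumL_perm hp).some.symm⟩

theorem iso_of_cls {M N : X.Modules} (hM : FlatMod.IsFinLocFree M) (hN : FlatMod.IsFinLocFree N)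
    (h : cls M = cls N) : Nonempty (M ≅ N) := by
  obtain ⟨l, hl⟩ := exists_dec k hdim hM
  obtain ⟨l', hl'⟩ := exists_dec k hdim hN
  rw [cls_eq k hdim hl, cls_eq k hdim hl'] at h
  exact ⟨hl.2.some ≪≫ (sumL_iso_of_classes l l' h).some ≪≫ hl'.2.some.symm⟩

omit hdim k in
/-- Splitting off the first summand of a finite coproduct. -/
def sigmaSuccIso {n : ℕ} (f : Fin (n + 1) → X.Modules) : (∐ f) ≅ f 0 ⊞ (∐ fun i : Fin n => f i.succ) where
  hom := Sigma.desc (Fin.cases (motive := fun i => f i ⟶ f 0 ⊞ (∐ fun i : Fin n => f i.succ)) biprod.inl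
    fun i => Sigma.ι (fun i : Fin n => f i.succ) i ≫ biprod.inr)
  inv := biprod.desc (Sigma.ι f 0) (Sigma.desc fun i => Sigma.ι f i.succ)
  hom_inv_id := by
    refine Sigma.hom_ext _ _ fun i => ?_
    refine Fin.cases ?_ (fun i => ?_) i <;> simp
  inv_hom_id := by
    refine biprod.hom_ext' _ _ (by simp) (Sigma.hom_ext _ _ fun i => by simp)

theorem cls_sigma : ∀ {n : ℕ} (f : Fin n → X.Modules), (∀ i, FlatMod.IsFinLocFree (f i)) →
    FlatMod.IsFinLocFree (∐ f) ∧ cls (∐ f) = ∑ i, cls (f i) := by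
  haveI := isLocallyNoetherian' k (X := X)
  intro n
  induction n with
  | zero =>
    intro f _
    have hz : IsZero (∐ f) := (IsZero.iff_id_eq_zero _).2 (Sigma.hom_ext _ _ fun i => i.elim0)
    exact ⟨H23.PullPush.isFinLocFree_of_iso (hz.iso isZero_freeZero).symm (KFlatLib.isFinLocFree_freeMod 0),
      by rw [cls_eq_zero_of_isZero k hdim hz]; simp⟩
  | succ n ih =>
    intro f hf
    obtain ⟨h1, h2⟩ := ih (fun i => f i.succ) fun i => hf _
    have h3 := isFinLocFree_biprod (hf 0) h1
    have h4 : FlatMod.IsFinLocFree (∐ f) := H23.PullPush.isFinLocFree_of_iso (sigmaSuccIso f).symm h3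
    exact ⟨h4, by rw [cls_iso k hdim h4 (sigmaSuccIso f), cls_biprod k hdim (hf 0) h1, h2, Fin.sum_univ_succ]⟩

end Groth.Agent.BunLib68.KS
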