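import Groth.Agent.ShStabX.CurveTwo
import Groth.Agent.ShStabX.Simple
import Groth.Agent.ShStabX.Curve
import Groth.Agent.CanonDual.PushRep
import Groth.Agent.IntNum47.Push
import Groth.Agent.TorLib.Basic
import Groth.Agent.ZClosLib.CohDescent
import Groth.Agent.S1585
import Groth.Agent.NormCurve.Delta
import Groth.Agent.VarBase.Restrict
import Groth.Agent.CurveBC.FiniteDim
import Groth.Agent.ShStabX.CurveSS
import Groth.Prelude.Def_Curv2

/-!
# Semistability and direct images along finite birational morphisms of curves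

A coherent submodule of a direct image `ν_* E` differs from the direct image of the submodule it
generates only at finitely many closed points, so only the constant term of its Hilbert polynomial drops.
-/

set_option autoImplicit false
set_option linter.style.haveILetI false
set_option linter.unusedSectionVars false
set_option backward.isDefEq.respectTransparency false
set_option backward.isDefEq.respectTransparency.types false

universe u

open CategoryTheory CategoryTheory.Limits AlgebraicGeometry Polynomial StabCat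

attribute [local instance] HasDerivedCategory.standard

noncomputable section

namespace Groth.Agent.BunLib68.NormPush

open Groth.Agent

variable {k : Type u} [Field k] {X Y : Scheme.{u}} [X.Over (Spec (CommRingCat.of k))]
  [IsProper (X ↘ Spec (CommRingCat.of k))] [Y.Over (Spec (CommRingCat.of k))]
  [IsProper (Y ↘ Spec (CommRingCat.of k))] (ν : Y ⟶ X) [IsFinite ν]
  {L : X.Modules}

theorem epi_push {A B : Y.Modules} (φ : A ⟶ B) [Epi φ] (hA : Coh.IsQCoh A) (hB : Coh.IsQCoh B) :
    Epi ((Coh.push ν).map φ) := by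
  haveI := CanonDual.preservesColimit_parallelPair_push ν φ hA hB
  refine Preadditive.epi_of_cokernel_zero (IsZero.eq_of_tgt ?_ _ _)
  exact ((Coh.push ν).map_isZero (Limits.isZero_cokernel_of_epi φ)).of_iso
    (PreservesCokernel.iso (Coh.push ν) φ).symm

theorem isZero_of_isZero_push {M : Y.Modules} (hM : Coh.IsQCoh M) (h : IsZero ((Coh.push ν).obj M)) : IsZero M := by
  have hφ : IsIso ((Scheme.Modules.pushforward ν).map (0 : M ⟶ M)) :=
    ⟨0, h.eq_of_src _ _, h.eq_of_src _ _⟩
  haveI := CanonDual.isIso_of_isIso_push ν _ hM hM hφ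
  exact IsZero.of_epi_zero M M

theorem isHilbPoly_push (hν : ν ≫ (X ↘ Spec (CommRingCat.of k)) = Y ↘ Spec (CommRingCat.of k))
    (hL : PicF.IsInvertible L) {M : Y.Modules} (hM : Coh.IsCoh M) (P : ℚ[X]) :
    ShStab.IsHilbPoly k X L ((Coh.push ν).obj M) P ↔
      ShStab.IsHilbPoly k Y ((Scheme.Modules.pullback ν).obj L) M P := by
  haveI := CurveCohLib.isNoetherian_of_proper (k := k) (X := X)
  haveI := CurveCohLib.isNoetherian_of_proper (k := k) (X := Y)
  refine forall_congr' fun m => ?_
  have hLm : PicF.IsInvertible (CohB1.tensorPow L m) := H23.PicMul.isInvertible_tensorPow hL m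
  obtain ⟨e⟩ := IntNum47.nonempty_projIso ν hLm M
  obtain ⟨q⟩ := VarBase.nonempty_pullback_tensorPow ν L m
  let e' : CohB1.tensorMod ((Coh.push ν).obj M) (CohB1.tensorPow L m) ≅
      (Coh.push ν).obj (CohB1.tensorMod M (CohB1.tensorPow ((Scheme.Modules.pullback ν).obj L) m)) :=
    e ≪≫ (Coh.push ν).mapIso (PicGrp.tensorModIso (Iso.refl _) q)
  show ((Curv2.euler k X (CohB1.tensorMod _ _) : ℤ) : ℚ) = _ ↔
    ((Curv2.euler k Y (CohB1.tensorMod _ _) : ℤ) : ℚ) = _
  rw [CurveCohLib.euler_congr e', VarBase.euler_push ν k hν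
    (AmpleVan.isCoh_tensor hM (AmpleVan.isCoh_invertible
      (H23.PicMul.isInvertible_tensorPow (PicClLib.isInvertible_pullback ν hL) m))).1]

/-- The hypotheses on the morphism: `O → ν_* O` has finite cokernel. -/
def FiniteCoker : Prop :=
  ∀ x ∈ CohB1.support (cokernel (ClSub.unitToPush ν)), IsClosed ({x} : Set X)

variable (hν : ν ≫ (X ↘ Spec (CommRingCat.of k)) = Y ↘ Spec (CommRingCat.of k)) (hfc : FiniteCoker ν)
  (hdim : topologicalKrullDim X = 1) (hL : CohB1.IsAmple L)

include hdim in
theorem dim_le (F : X.Modules) : topologicalKrullDim ↥(CohB1.support F) ≤ ((1 : ℕ) : WithBot ℕ∞) :=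
  (topologicalKrullDim_subspace_le X _).trans hdim.le

include hdim hL in
theorem mult_le_of_epi {A B : X.Modules} (hA : Coh.IsCoh A) (hB : Coh.IsCoh B) (φ : A ⟶ B) [Epi φ] :
    HilbPoly.mult k L 1 B ≤ HilbPoly.mult k L 1 A := by
  haveI := CurveCohLib.isNoetherian_of_proper (k := k) (X := X)
  have hK : Coh.IsCoh (kernel φ) := QCoh.isCoh_kernel hA hB φ
  have hadd := (HilbPoly.additive_lead (HilbPoly.additive_euler k) hL.1 1).add
    (ShortComplex.mk (kernel.ι φ) φ (kernel.condition φ))
    (.mk' (ShortComplex.exact_kernel φ) inferInstance inferInstance) hK hA hB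
  have := (HilbPoly.mult_nonneg_and_pos k hL 1 _ hK (dim_le hdim _)).1
  simp only [HilbPoly.mult] at this ⊢
  dsimp only at hadd
  omega

include hdim hL hfc in
/-- Tensoring with `ν_* O` does not increase the multiplicity. -/
theorem mult_tensor_le {F : X.Modules} (hF : Coh.IsCoh F) :
    HilbPoly.mult k L 1 ((DCoh.tensorBi.obj ((Coh.push ν).obj (Coh.structureModule Y))).obj F) ≤
      HilbPoly.mult k L 1 F := by
  haveI := CurveCohLib.isNoetherian_of_proper (k := k) (X := X)
  haveI := CurveCohLib.isNoetherian_of_proper (k := k) (X := Y)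
  let u := ClSub.unitToPush ν
  have hP : Coh.IsCoh ((Coh.push ν).obj (Coh.structureModule Y)) :=
    QCoh.isCoh_pushforward_finite ν QCoh.isCoh_structureModule'
  have hT : Coh.IsCoh ((SheafHomX.ten F).obj ((Coh.push ν).obj (Coh.structureModule Y))) :=
    AmpleVan.isCoh_tensor hP hF
  have hOF : Coh.IsCoh ((SheafHomX.ten F).obj (Coh.structureModule X)) :=
    AmpleVan.isCoh_tensor QCoh.isCoh_structureModule' hF
  obtain ⟨K, I, a, p, b, w, hpb, _, _, hp, -, -, hI⟩ := HilbPoly.exists_factor (k := k) hOF hT ((SheafHomX.ten F).map u)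
  have hI' : HilbPoly.mult k L 1 I ≤ HilbPoly.mult k L 1 F := by
    haveI := hp
    refine (mult_le_of_epi hdim hL hOF hI p).trans_eq ?_
    exact (HilbPoly.additive_lead (HilbPoly.additive_euler k) hL.1 1).iso _ _
      ⟨CurveTensor.structureTensorIso F⟩
  have hC : Coh.IsCoh (cokernel b) := QCoh.isCoh_cokernel hI.1 hT b
  have hadd := (HilbPoly.additive_lead (HilbPoly.additive_euler k) hL.1 1).add
    (ShortComplex.mk b (cokernel.π b) (cokernel.condition b))
    (.mk' (ShortComplex.exact_of_g_is_cokernel _ (cokernelIsCokernel b)) inferInstance inferInstance) hI hT hC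
  haveI : (SheafHomX.ten F).IsLeftAdjoint := SheafHomX.isLeftAdjoint_ten F
  let e : cokernel b ≅ (DCoh.tensorBi.obj F).obj (cokernel u) :=
    (cokernelEpiComp p b).symm ≪≫ cokernelIsoOfEq hpb ≪≫
      (PreservesCokernel.iso (SheafHomX.ten F) u).symm ≪≫ CurveTensor.commIso _ F
  have h0 : HilbPoly.mult k L 1 (cokernel b) = 0 := by
    refine ((HilbPoly.additive_lead (HilbPoly.additive_euler k) hL.1 1).iso _ _ ⟨e⟩).trans ?_
    have hc : Coh.IsCoh (cokernel u) := QCoh.isCoh_cokernel QCoh.isQCoh_structureModule hP u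
    refine HilbPoly.iterD_eq_zero 1 (HilbPoly.additive_euler k) _ List.length_replicate
      (fun N hN => (List.eq_of_mem_replicate hN) ▸ hL.1) _ (AmpleVan.isCoh_tensor hF hc) ?_
    refine HilbPoly.dimLT_of_subset CurveTensor.support_tensor_subset ?_
    exact (ShStabX.dimLE_of_closedPoints (QCoh.isClosed_support_of_isFT hc.1 hc.2) hfc).trans_lt
      (by exact_mod_cast Nat.zero_lt_one)
  have hadd' : HilbPoly.mult k L 1 ((SheafHomX.ten F).obj ((Coh.push ν).obj (Coh.structureModule Y))) =
      HilbPoly.mult k L 1 I + HilbPoly.mult k L 1 (cokernel b) := hadd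
  change HilbPoly.mult k L 1 ((SheafHomX.ten F).obj ((Coh.push ν).obj (Coh.structureModule Y))) ≤ _
  linarith

include hν hfc hdim hL in
/-- A submodule of a direct image lies, up to finitely many points, in a direct image of a submodule. -/
theorem exists_sub {E : Y.Modules} (hE : Coh.IsCoh E) {F : X.Modules} (hF : Coh.IsCoh F)
    (ι : F ⟶ (Coh.push ν).obj E) [Mono ι] (hF0 : ¬ IsZero F) {pF : ℚ[X]}
    (hpF : ShStab.IsHilbPoly k X L F pF) :
    ∃ (G : Y.Modules) (j : G ⟶ E) (c : ℚ), Mono j ∧ Coh.IsCoh G ∧ ¬ IsZero G ∧ 0 ≤ c ∧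
      ShStab.IsHilbPoly k Y ((Scheme.Modules.pullback ν).obj L) G (pF + C c) ∧
      (IsIso j → c = 0 → IsIso ι) := by
  haveI := CurveCohLib.isNoetherian_of_proper (k := k) (X := X)
  haveI := CurveCohLib.isNoetherian_of_proper (k := k) (X := Y)
  let adj := Scheme.Modules.pullbackPushforwardAdjunction ν
  have hνF : Coh.IsCoh ((Scheme.Modules.pullback ν).obj F) := ZClosLib.isCoh_pullback ν hF
  obtain ⟨K, G, a, p, j, w, hpj, _, hj, hp, -, -, hG⟩ :=
    HilbPoly.exists_factor (k := k) hνF hE ((adj.homEquiv _ _).symm ι)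
  haveI := hj
  haveI := hp
  haveI : (Coh.push ν).PreservesMonomorphisms :=
    (Coh.push ν).preservesMonomorphisms_of_adjunction adj
  let β : F ⟶ (Coh.push ν).obj G := adj.homEquiv _ _ p
  have hβ : β ≫ (Coh.push ν).map j = ι := by
    rw [← adj.homEquiv_naturality_right, hpj, Equiv.apply_symm_apply]
  haveI : Mono β := mono_of_mono_fac hβ
  have hPG : Coh.IsCoh ((Coh.push ν).obj G) := QCoh.isCoh_pushforward_finite ν hG
  obtain ⟨pG, hpG, -, -⟩ := HilbPoly.exists_hilb (k := k) hL.1 hPG (dim_le hdim _)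
  obtain ⟨hQ, hdQ, hpQ⟩ := HilbPoly.cokernel_data (k := k) hL hF hPG (dim_le hdim _) β hpF hpG
  have hm : HilbPoly.mult k L 1 ((Coh.push ν).obj G) ≤ HilbPoly.mult k L 1 F := by
    haveI := epi_push ν p hνF.1 hG.1
    refine (mult_le_of_epi hdim hL (QCoh.isCoh_pushforward_finite ν hνF) hPG ((Coh.push ν).map p)).trans ?_
    refine le_trans (Eq.le ?_) (mult_tensor_le ν hfc hdim hL hF)
    haveI := SerreVan45.isIso_projMod ν (Coh.structureModule Y) F QCoh.isQCoh_structureModule hF.1
    exact (HilbPoly.additive_lead (HilbPoly.additive_euler k) hL.1 1).iso _ _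
      ⟨(Coh.push ν).mapIso (CurveTensor.structureTensorIso _).symm ≪≫
        (asIso (KFlatLib.projMod ν (Coh.structureModule Y) F)).symm⟩
  obtain ⟨hdeg, haQ⟩ := HilbPoly.hilb_props (k := k) hL.1 hQ hdQ hpQ
  have ha0 : (pG - pF).coeff 1 = 0 := by
    have hle : alpha 1 (pG - pF) ≤ 0 := by
      rw [show alpha 1 (pG - pF) = alpha 1 pG - alpha 1 pF by simp [alpha],
        (HilbPoly.hilb_props (k := k) hL.1 hPG (dim_le hdim _) hpG).2,
        (HilbPoly.hilb_props (k := k) hL.1 hF (dim_le hdim _) hpF).2]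
      exact sub_nonpos.2 (by exact_mod_cast hm)
    have hge := HilbPoly.alpha_nonneg hL hQ hdQ hpQ
    simpa [alpha] using le_antisymm hle hge
  let c := (pG - pF).coeff 0
  have hC : pG - pF = C c := by
    rw [eq_X_add_C_of_natDegree_le_one hdeg, ha0]; simp [c]
  have hc : 0 ≤ c := by
    obtain ⟨N, hN⟩ := HilbPoly.hilb_nonneg hL hQ hdQ hpQ
    have := hN N le_rfl
    simpa [hC] using this
  refine ⟨G, j, c, hj, hG, fun h => hF0 ?_, hc, (isHilbPoly_push ν hν hL.1 hG _).1 ?_, fun hji hc0 => ?_⟩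
  · exact IsZero.of_mono β ((Coh.push ν).map_isZero h)
  · rwa [← hC, add_sub_cancel]
  · haveI := hji
    have hz : IsZero (cokernel β) := by
      by_contra hne
      obtain ⟨N, hN⟩ := HilbPoly.hilb_eventually_pos hL hQ hne hdQ hpQ
      have := hN N le_rfl
      simp [hC, hc0] at this
    haveI : Epi β := Preadditive.epi_of_isZero_cokernel _ hz
    haveI : IsIso β := isIso_of_mono_of_epi β
    rw [← hβ]
    infer_instance

include hν hfc hdim hL in
/-- Semistability and stability of a pure direct image are those of the module. -/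
theorem push_iff {E : Y.Modules} (hE : Coh.IsCoh E) (hp : ShStab.IsPure Y E 1)
    (hpp : ShStab.IsPure X ((Coh.push ν).obj E) 1) :
    (ShStab.IsSemistable k Y ((Scheme.Modules.pullback ν).obj L) E 1 ↔
        ShStab.IsSemistable k X L ((Coh.push ν).obj E) 1) ∧
      (ShStab.IsStable k Y ((Scheme.Modules.pullback ν).obj L) E 1 ↔
        ShStab.IsStable k X L ((Coh.push ν).obj E) 1) := by
  haveI := CurveCohLib.isNoetherian_of_proper (k := k) (X := X)
  haveI := CurveCohLib.isNoetherian_of_proper (k := k) (X := Y)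
  have hPE : Coh.IsCoh ((Coh.push ν).obj E) := QCoh.isCoh_pushforward_finite ν hE
  haveI : (Coh.push ν).PreservesMonomorphisms :=
    (Coh.push ν).preservesMonomorphisms_of_adjunction (Scheme.Modules.pullbackPushforwardAdjunction ν)
  have hz : IsZero E ↔ IsZero ((Coh.push ν).obj E) :=
    ⟨fun h => (Coh.push ν).map_isZero h, isZero_of_isZero_push ν hE.1⟩
  -- the multiplicity of the direct image is positive
  have hα : ¬ IsZero E → ∀ pE, ShStab.IsHilbPoly k X L ((Coh.push ν).obj E) pE → 0 < alpha 1 pE :=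
    fun h0 pE hpE => HilbPoly.alpha_pos hL hPE (HilbPoly.dim_of_isPure hpp hPE (fun h => h0 (hz.2 h))) hpE
  have down : ∀ {R : ℚ[X] → ℚ[X] → Prop},
      (∀ (F : X.Modules) (ι : F ⟶ (Coh.push ν).obj E), Mono ι → Coh.IsCoh F → ¬ IsZero F → ¬ IsIso ι →
        ∀ pF pE, ShStab.IsHilbPoly k X L F pF → ShStab.IsHilbPoly k X L ((Coh.push ν).obj E) pE → R pF pE) →
      ∀ (F : Y.Modules) (ι : F ⟶ E), Mono ι → Coh.IsCoh F → ¬ IsZero F → ¬ IsIso ι → ∀ pF pE,
        ShStab.IsHilbPoly k Y ((Scheme.Modules.pullback ν).obj L) F pF →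
        ShStab.IsHilbPoly k Y ((Scheme.Modules.pullback ν).obj L) E pE → R pF pE := by
    intro R h F ι hι hF hF0 hni pF pE hpF hpE
    haveI := hι
    exact h _ ((Coh.push ν).map ι) inferInstance (QCoh.isCoh_pushforward_finite ν hF)
      (fun hzF => hF0 (isZero_of_isZero_push ν hF.1 hzF))
      (fun hi => hni (CanonDual.isIso_of_isIso_push ν ι hF.1 hE.1 hi))
      pF pE ((isHilbPoly_push ν hν hL.1 hF _).2 hpF) ((isHilbPoly_push ν hν hL.1 hE _).2 hpE)
  refine ⟨⟨fun ⟨_, h0, _, h⟩ => ⟨hPE, fun hh => h0 (hz.2 hh), hpp, ?_⟩,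
      fun ⟨_, h0, _, h⟩ => ⟨hE, fun hh => h0 (hz.1 hh), hp, down h⟩⟩,
    ⟨fun ⟨_, h0, _, h⟩ => ⟨hPE, fun hh => h0 (hz.2 hh), hpp, ?_⟩,
      fun ⟨_, h0, _, h⟩ => ⟨hE, fun hh => h0 (hz.1 hh), hp, down h⟩⟩⟩
  all_goals
    intro F ι hι hF hF0 hni pF pE hpF hpE
    haveI := hι
    obtain ⟨G, j, c, hj, hG, hG0, hc, hpG, hiso⟩ := exists_sub ν hν hfc hdim hL hE hF ι hF0 hpF
    have hpE' := (isHilbPoly_push ν hν hL.1 hE _).1 hpE
    have hpos := hα h0 pE hpE
    have hα' : alpha 1 (pF + C c) = alpha 1 pF := by simp [alpha, coeff_C]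
    by_cases hi : IsIso j
    · -- `G = E`
      haveI := hi
      obtain rfl : pF + C c = pE :=
        HilbPoly.isHilbPoly_unique hpG (HilbPoly.hilb_iso (asIso j).symm hpE')
      have hc' : 0 < c := hc.lt_of_ne fun he => hni (hiso hi he.symm)
      refine ⟨0, fun m _ => ?_⟩
      simp only [hα', eval_smul, eval_add, eval_C, smul_eq_mul]
      rw [hα'] at hpos
      nlinarith [mul_pos hpos hc']
    · obtain ⟨N, hN⟩ := h G j hj hG hG0 hi _ pE hpG hpE'
      refine ⟨N, fun m hm => ?_⟩
      have h1 := hN m hm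
      simp only [hα', eval_smul, eval_add, eval_C, smul_eq_mul] at h1 ⊢
      nlinarith [mul_nonneg hpos.le hc]

include hdim hL in
/-- Semistability and stability of bundles on the normalisation. -/
theorem normalization_iff [IsIntegral X] [QuasiCompact (X.fromSpecStalk (genericPoint X))]
    [QuasiSeparated (X.fromSpecStalk (genericPoint X))] {n : ℕ} {E : (Curv2.normalization X).Modules}
    (hE : FlatMod.IsFinLocFreeOfRank n E) :
    letI : (Curv2.normalization X).Over (Spec (CommRingCat.of k)) :=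
      ⟨Curv2.normalizationι X ≫ X ↘ Spec (CommRingCat.of k)⟩
    (ShStab.IsSemistable k (Curv2.normalization X) ((Scheme.Modules.pullback (Curv2.normalizationι X)).obj L) E 1 ↔
        ShStab.IsSemistable k X L ((Coh.push (Curv2.normalizationι X)).obj E) 1) ∧
      (ShStab.IsStable k (Curv2.normalization X) ((Scheme.Modules.pullback (Curv2.normalizationι X)).obj L) E 1 ↔
        ShStab.IsStable k X L ((Coh.push (Curv2.normalizationι X)).obj E) 1) := by
  classical
  letI : (Curv2.normalization X).Over (Spec (CommRingCat.of k)) :=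
    ⟨Curv2.normalizationι X ≫ X ↘ Spec (CommRingCat.of k)⟩
  obtain ⟨hfin, hdom, -, hint, -⟩ := S1585.result k X
  haveI := hfin
  haveI := hdom
  haveI := hint
  haveI : IsProper ((Curv2.normalization X) ↘ Spec (CommRingCat.of k)) :=
    inferInstanceAs (IsProper (Curv2.normalizationι X ≫ X ↘ Spec (CommRingCat.of k)))
  haveI : Surjective (Curv2.normalizationι X) := ⟨Set.range_eq_univ.1 <| by
    rw [← (Curv2.normalizationι X).isClosedMap.isClosed_range.closure_eq]
    exact (Curv2.normalizationι X).denseRange.closure_range⟩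
  haveI := CurveCohLib.isNoetherian_of_proper (k := k) (X := X)
  haveI := CurveCohLib.isNoetherian_of_proper (k := k) (X := Curv2.normalization X)
  have hdY := CurveBC.topologicalKrullDim_finite_cover (Curv2.normalizationι X) hdim
  have htf := ShStabX.isTorsionFree_of_locFree hE
  refine push_iff (Curv2.normalizationι X) rfl (fun x hx => ?_) hdim hL
    (QCoh.isCoh_iff_isFP.2 (QCoh.isFP_of_isFinLocFree fun y => let ⟨W, hy, he⟩ := hE y; ⟨W, n, hy, he⟩))
    (ShStabX.isPure_one_of_torsionFree (k := k) hdY (ShStabX.not_isOpen_point k hdY) htf)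
    (ShStabX.isPure_one_of_torsionFree (k := k) hdim (ShStabX.not_isOpen_point k hdim)
      (TorLib.isTorsionFree_pushforward (Curv2.normalizationι X) htf))
  by_contra hxc
  refine hx ?_
  have h := NormCurve.length_cokernel_stalk X x
  rw [NormCurve.deltaInv_of_isField (NormCurve.isField_stalk_of_not_isClosed X hdim x hxc)] at h
  exact Module.length_eq_zero_iff.1 h

end Groth.Agent.BunLib68.NormPush
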