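import Groth.Agent.BunLib68.KSClass
import Groth.Agent.BunLib68.DualTensor
import Groth.Agent.Lib.CurveHiggs
import Groth.Agent.H23.PicMul

/-!
# Bundles finite in the sense of Weil

`IsWeil E` holds iff only finitely many indecomposable bundles occur in the tensor powers of `E`.
-/

universe u

set_option backward.isDefEq.respectTransparency false
set_option backward.isDefEq.respectTransparency.types false
set_option linter.style.haveILetI false
set_option linter.unusedSectionVars false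
set_option linter.unusedVariables false
set_option synthInstance.maxHeartbeats 100000

open CategoryTheory CategoryTheory.Limits AlgebraicGeometry TopologicalSpace Opposite

noncomputable section

namespace Groth.Agent.BunLib68.KS

open Groth.Agent.CurveBundle Groth.Agent.CurveSlope Groth.Agent.CurveStable
open Groth.Agent.H23 (PicMul.assoc PicMul.comm PicMul.unit)

variable {X : Scheme.{u}}

/-- Finite in the sense of Weil. -/
def IsWeil (E : X.Modules) : Prop :=
  ∃ P Q : Polynomial ℕ, P ≠ Q ∧ Nonempty ((∐ fun i : Fin (P.natDegree + 1) => ∐ fun _ : Fin (P.coeff ↑i) => CohB1.tensorPow E ↑i) ≅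
    (∐ fun i : Fin (Q.natDegree + 1) => ∐ fun _ : Fin (Q.coeff ↑i) => CohB1.tensorPow E ↑i))

/-- Finitely many indecomposable bundles occur in the tensor powers. -/
def TPFin (E : X.Modules) : Prop :=
  ∃ S : Finset (Cls X), ∀ m : ℕ, ∀ c ∈ cls (CohB1.tensorPow E m), c ∈ S

/-- Isomorphisms of the first tensor factor. -/
def isoL {A A' : X.Modules} (e : A ≅ A') (B : X.Modules) : CohB1.tensorMod A B ≅ CohB1.tensorMod A' B :=
  (DCoh.tensorBi.mapIso e).app B

/-- Isomorphisms of the second tensor factor. -/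
def isoR (A : X.Modules) {B B' : X.Modules} (e : B ≅ B') : CohB1.tensorMod A B ≅ CohB1.tensorMod A B' :=
  (DCoh.tensorBi.obj A).mapIso e

instance additive_tensor (A : X.Modules) : (DCoh.tensorBi.obj A).Additive :=
  inferInstanceAs ((DCoh.tensorBi.obj A).Additive)

theorem nonempty_tensor_biprod (A B C : X.Modules) :
    Nonempty (CohB1.tensorMod A (B ⊞ C) ≅ CohB1.tensorMod A B ⊞ CohB1.tensorMod A C) := by
  haveI := preservesBinaryBiproducts_of_preservesBiproducts (DCoh.tensorBi.obj A)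
  exact ⟨(DCoh.tensorBi.obj A).mapBiprod B C⟩

/-- `(A ⊗ B) ⊗ C ≅ (A ⊗ C) ⊗ B`. -/
theorem nonempty_swap_right (A B C : X.Modules) :
    Nonempty (CohB1.tensorMod (CohB1.tensorMod A B) C ≅ CohB1.tensorMod (CohB1.tensorMod A C) B) := by
  obtain ⟨a⟩ := PicMul.assoc A B C
  obtain ⟨b⟩ := PicMul.assoc A C B
  obtain ⟨c⟩ := PicMul.comm B C
  exact ⟨a ≪≫ isoR A c ≪≫ b.symm⟩

theorem nonempty_tensor_four (A B C D : X.Modules) :
    Nonempty (CohB1.tensorMod (CohB1.tensorMod A B) (CohB1.tensorMod C D) ≅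
      CohB1.tensorMod (CohB1.tensorMod A C) (CohB1.tensorMod B D)) := by
  obtain ⟨a⟩ := PicMul.assoc (CohB1.tensorMod A B) C D
  obtain ⟨b⟩ := PicMul.assoc (CohB1.tensorMod A C) B D
  obtain ⟨c⟩ := nonempty_swap_right A B C
  exact ⟨a.symm ≪≫ isoL c D ≪≫ b⟩

theorem nonempty_pow_tensor (A B : X.Modules) : ∀ m : ℕ,
    Nonempty (CohB1.tensorPow (CohB1.tensorMod A B) m ≅
      CohB1.tensorMod (CohB1.tensorPow A m) (CohB1.tensorPow B m)) := by
  intro m
  induction m with
  | zero => exact ⟨(PicMul.unit (Coh.structureModule X)).some.symm⟩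
  | succ m ih =>
    obtain ⟨e⟩ := ih
    obtain ⟨f⟩ := nonempty_tensor_four (CohB1.tensorPow A m) (CohB1.tensorPow B m) A B
    exact ⟨isoL e _ ≪≫ f⟩

theorem nonempty_pow_add (A : X.Modules) (a : ℕ) : ∀ b : ℕ,
    Nonempty (CohB1.tensorPow A (a + b) ≅ CohB1.tensorMod (CohB1.tensorPow A a) (CohB1.tensorPow A b)) := by
  intro b
  induction b with
  | zero => exact ⟨(PicMul.unit (CohB1.tensorPow A a)).some.symm⟩
  | succ b ih =>
    obtain ⟨e⟩ := ih
    obtain ⟨f⟩ := PicMul.assoc (CohB1.tensorPow A a) (CohB1.tensorPow A b) A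
    exact ⟨isoL e A ≪≫ f⟩

theorem nonempty_pow_iso {A B : X.Modules} (e : A ≅ B) : ∀ m : ℕ,
    Nonempty (CohB1.tensorPow A m ≅ CohB1.tensorPow B m) := by
  intro m
  induction m with
  | zero => exact ⟨Iso.refl _⟩
  | succ m ih => exact ⟨isoL ih.some A ≪≫ isoR _ e⟩

theorem exists_pow_retract {A B : X.Modules} (i : A ⟶ B) (p : B ⟶ A) (h : i ≫ p = 𝟙 A) : ∀ m : ℕ,
    ∃ (j : CohB1.tensorPow A m ⟶ CohB1.tensorPow B m) (q : CohB1.tensorPow B m ⟶ CohB1.tensorPow A m),
      j ≫ q = 𝟙 _ := by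
  intro m
  induction m with
  | zero => exact ⟨𝟙 _, 𝟙 _, Category.id_comp _⟩
  | succ m ih =>
    obtain ⟨j, q, hjq⟩ := ih
    refine ⟨(DCoh.tensorBi.map j).app A ≫ (DCoh.tensorBi.obj (CohB1.tensorPow B m)).map i,
      (DCoh.tensorBi.obj (CohB1.tensorPow B m)).map p ≫ (DCoh.tensorBi.map q).app A, ?_⟩
    have h1 : (DCoh.tensorBi.obj (CohB1.tensorPow B m)).map i ≫ (DCoh.tensorBi.obj (CohB1.tensorPow B m)).map p =
        𝟙 _ := by rw [← Functor.map_comp, h, CategoryTheory.Functor.map_id]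
    have h2 : (DCoh.tensorBi.map j).app A ≫ (DCoh.tensorBi.map q).app A = 𝟙 _ := by
      rw [← NatTrans.comp_app, ← Functor.map_comp, hjq, CategoryTheory.Functor.map_id, NatTrans.id_app]
    rw [Category.assoc, reassoc_of% h1]
    exact h2

/-- Tensor products of bundles are bundles. -/
theorem isFinLocFree_tM {A B : X.Modules} (hA : FlatMod.IsFinLocFree A) (hB : FlatMod.IsFinLocFree B) :
    FlatMod.IsFinLocFree (CohB1.tensorMod A B) :=
  KFlatLib.isFinLocFree_tensor hA hB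

variable (k : Type u) [Field k] [X.Over (Spec (CommRingCat.of k))] [IsIntegral X]
  [IsProper (X ↘ Spec (CommRingCat.of k))] [Smooth (X ↘ Spec (CommRingCat.of k))]
  [IsAlgClosed k] (hdim : topologicalKrullDim X = 1)

theorem isFinLocFree_pow {E : X.Modules} (hE : FlatMod.IsFinLocFree E) : ∀ m : ℕ,
    FlatMod.IsFinLocFree (CohB1.tensorPow E m) := by
  intro m
  induction m with
  | zero => exact isFinLocFree_one
  | succ m ih => exact isFinLocFree_tM ih hE

include hdim k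

theorem cls_one_ne_zero : cls (Coh.structureModule X) ≠ 0 := fun h => by
  haveI := isLocallyNoetherian' k (X := X)
  have := rk_eq_zero_of_isZero (isZero_of_cls k hdim isFinLocFree_one h)
  rw [rk_one] at this
  exact one_ne_zero this

/-- A class occurring comes with a representative. -/
theorem exists_indec_of_mem {M : X.Modules} (hM : FlatMod.IsFinLocFree M) {c : Cls X} (hc : c ∈ cls M) :
    ∃ A, IsIndec A ∧ mk A = c := by
  obtain ⟨l, hl⟩ := exists_dec k hdim hM
  rw [cls_eq k hdim hl, Multiset.mem_coe, List.mem_map] at hc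
  obtain ⟨A, hA, rfl⟩ := hc
  exact ⟨A, hl.1 A hA, rfl⟩

theorem mem_cls_tensor {E : X.Modules} (hE : FlatMod.IsFinLocFree E) {M : X.Modules}
    (hM : FlatMod.IsFinLocFree M) (c : Cls X) :
    c ∈ cls (CohB1.tensorMod M E) ↔
      ∃ A, IsIndec A ∧ mk A ∈ cls M ∧ c ∈ cls (CohB1.tensorMod A E) := by
  haveI := isLocallyNoetherian' k (X := X)
  have hT := fun {A : X.Modules} (hA : FlatMod.IsFinLocFree A) => isFinLocFree_tM hA hE
  have hT' := fun {A : X.Modules} (hA : FlatMod.IsFinLocFree A) => isFinLocFree_tM hE hA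
  have hl : ∀ l : List X.Modules, (∀ A ∈ l, IsIndec A) →
      (c ∈ cls (CohB1.tensorMod E (sumL l)) ↔ ∃ A ∈ l, c ∈ cls (CohB1.tensorMod A E)) := by
    intro l
    induction l with
    | nil =>
      intro _
      rw [cls_eq_zero_of_isZero k hdim
        (M := CohB1.tensorMod E (sumL [])) ((DCoh.tensorBi.obj E).map_isZero isZero_freeZero)]
      simp
    | cons A t ih =>
      intro h
      have hA := (h A List.mem_cons_self).1
      have ht := isFinLocFree_sumL fun B hB => (h B (List.mem_cons_of_mem _ hB)).1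
      obtain ⟨e⟩ := nonempty_tensor_biprod E A (sumL t)
      rw [show sumL (A :: t) = (A ⊞ sumL t) from rfl, cls_iso k hdim (hT' (isFinLocFree_biprod hA ht)) e,
        cls_biprod k hdim (hT' hA) (hT' ht), Multiset.mem_add, ih fun B hB => h B (List.mem_cons_of_mem _ hB),
        cls_iso k hdim (hT' hA) (PicMul.comm E A).some]
      simp
  obtain ⟨l, hl'⟩ := exists_dec k hdim hM
  have e0 : CohB1.tensorMod M E ≅ CohB1.tensorMod E (sumL l) :=
    (PicMul.comm M E).some ≪≫ isoR E hl'.2.some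
  rw [cls_iso k hdim (hT hM) e0, hl l hl'.1, cls_eq k hdim hl']
  constructor
  · rintro ⟨A, hA, hc⟩
    exact ⟨A, hl'.1 A hA, List.mem_map.2 ⟨A, hA, rfl⟩, hc⟩
  · rintro ⟨A, hA, hA', hc⟩
    obtain ⟨B, hB, hBA⟩ := List.mem_map.1 hA'
    refine ⟨B, hB, ?_⟩
    rwa [cls_iso k hdim (hT (hl'.1 B hB).1) (isoL (mk_eq_iff.1 hBA).some E)]

/-- The classes of `P(E)`. -/
theorem cls_poly {E : X.Modules} (hE : FlatMod.IsFinLocFree E) (P : Polynomial ℕ) (N : ℕ) (hN : P.natDegree < N) :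
    FlatMod.IsFinLocFree (∐ fun i : Fin (P.natDegree + 1) => ∐ fun _ : Fin (P.coeff ↑i) => CohB1.tensorPow E ↑i) ∧
    cls (∐ fun i : Fin (P.natDegree + 1) => ∐ fun _ : Fin (P.coeff ↑i) => CohB1.tensorPow E ↑i) =
      ∑ i ∈ Finset.range N, P.coeff i • cls (CohB1.tensorPow E i) := by
  have h1 := fun i : Fin (P.natDegree + 1) =>
    cls_sigma k hdim (fun _ : Fin (P.coeff ↑i) => CohB1.tensorPow E ↑i) fun _ => isFinLocFree_pow hE _
  obtain ⟨h2, h3⟩ := cls_sigma k hdim
    (fun i : Fin (P.natDegree + 1) => ∐ fun _ : Fin (P.coeff ↑i) => CohB1.tensorPow E ↑i) fun i => (h1 i).1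
  refine ⟨h2, h3.trans ?_⟩
  rw [Finset.sum_congr rfl fun i _ => (h1 i).2]
  simp only [Finset.sum_const, Finset.card_univ, Fintype.card_fin]
  rw [Fin.sum_univ_eq_sum_range (fun i => P.coeff i • cls (CohB1.tensorPow E i))]
  refine Finset.sum_subset (Finset.range_subset_range.2 hN) fun i _ hi => ?_
  rw [Finset.mem_range, not_lt] at hi
  rw [Polynomial.coeff_eq_zero_of_natDegree_lt hi, zero_smul]

theorem tpFin_of_isWeil {E : X.Modules} (hE : FlatMod.IsFinLocFree E) (h : IsWeil E) : TPFin E := by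
  classical
  obtain ⟨P, Q, hne, ⟨e⟩⟩ := h
  let N := max P.natDegree Q.natDegree + 1
  obtain ⟨hPf, hP⟩ := cls_poly k hdim hE P N (Nat.lt_succ_of_le (le_max_left _ _))
  obtain ⟨-, hQ⟩ := cls_poly k hdim hE Q N (Nat.lt_succ_of_le (le_max_right _ _))
  have heq := cls_iso k hdim hPf e
  rw [hP, hQ] at heq
  obtain ⟨n, hn⟩ : ∃ n, n ∈ (Finset.range N).filter (fun i => P.coeff i ≠ Q.coeff i) ∧
      ∀ i ∈ (Finset.range N).filter (fun i => P.coeff i ≠ Q.coeff i), i ≤ n := by
    refine ⟨_, Finset.max'_mem _ ?_, fun i hi => Finset.le_max' _ i hi⟩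
    obtain ⟨i, hi⟩ : ∃ i, P.coeff i ≠ Q.coeff i := by
      by_contra hc
      push Not at hc
      exact hne (Polynomial.ext hc)
    refine ⟨i, Finset.mem_filter.2 ⟨Finset.mem_range.2 ?_, hi⟩⟩
    by_contra hiN
    exact hi (by rw [Polynomial.coeff_eq_zero_of_natDegree_lt (by omega),
      Polynomial.coeff_eq_zero_of_natDegree_lt (by omega)])
  obtain ⟨hn, hmax⟩ := hn
  rw [Finset.mem_filter, Finset.mem_range] at hn
  let v := fun m => cls (CohB1.tensorPow E m)
  have htop : ∀ c, c ∈ v n → ∃ i < n, c ∈ v i := by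
    intro c hc
    by_contra hlow
    push Not at hlow
    have h1 := congrArg (Multiset.count c) heq
    simp only [Multiset.count_sum', Multiset.count_nsmul] at h1
    have h2 : ∀ i ∈ Finset.range N, i ≠ n →
        P.coeff i * Multiset.count c (v i) = Q.coeff i * Multiset.count c (v i) := by
      intro i hi hin
      rcases lt_or_gt_of_ne hin with hlt | hgt
      · rw [Multiset.count_eq_zero.2 (hlow i hlt), mul_zero, mul_zero]
      · by_cases he : P.coeff i = Q.coeff i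
        · rw [he]
        · have := hmax i (Finset.mem_filter.2 ⟨hi, he⟩)
          omega
    rw [← Finset.add_sum_erase _ _ (Finset.mem_range.2 hn.1), ← Finset.add_sum_erase _ _ (Finset.mem_range.2 hn.1),
      Finset.sum_congr rfl fun i hi => h2 i (Finset.mem_of_mem_erase hi) (Finset.ne_of_mem_erase hi),
      Nat.add_right_cancel_iff] at h1
    exact hn.2 (mul_right_cancel₀ (Multiset.count_ne_zero.2 hc) h1)
  have hn0 : 0 < n := by
    by_contra h0
    obtain rfl : n = 0 := by omega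
    obtain ⟨c, hc⟩ := Multiset.exists_mem_of_ne_zero (cls_one_ne_zero k hdim)
    obtain ⟨i, hi, -⟩ := htop c hc
    omega
  refine ⟨(Finset.range n).biUnion fun i => (v i).toFinset, fun m => ?_⟩
  have hS : ∀ c, c ∈ (Finset.range n).biUnion (fun i => (v i).toFinset) ↔ ∃ i < n, c ∈ v i := by
    simp [Finset.mem_biUnion]
  induction m with
  | zero => exact fun c hc => (hS c).2 ⟨0, hn0, hc⟩
  | succ m ih =>
    intro c hc
    obtain ⟨A, hA, hAm, hcA⟩ := (mem_cls_tensor k hdim hE (isFinLocFree_pow hE m) c).1 hc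
    obtain ⟨i, hi, hAi⟩ := (hS _).1 (ih _ hAm)
    have hc' : c ∈ v (i + 1) := (mem_cls_tensor k hdim hE (isFinLocFree_pow hE i) c).2 ⟨A, hA, hAi, hcA⟩
    rcases Nat.lt_or_ge (i + 1) n with h | h
    · exact (hS c).2 ⟨i + 1, h, hc'⟩
    · rw [show i + 1 = n by omega] at hc'
      exact (hS c).2 (htop c hc')

theorem isWeil_of_tpFin {E : X.Modules} (hE : FlatMod.IsFinLocFree E) (h : TPFin E) : IsWeil E := by
  classical
  obtain ⟨S, hS⟩ := h
  let n := S.card + 1
  let v := fun m => cls (CohB1.tensorPow E m)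
  let M := ∑ i : Fin n, (v i).card
  let B := (M + 1) ^ S.card
  let val : (Fin n → Fin (B + 1)) → (S → Fin (B * M + 1)) := fun φ c =>
    ⟨∑ i, (φ i : ℕ) * Multiset.count c.1 (v i), Nat.lt_succ_of_le (by
      rw [Finset.mul_sum]
      exact Finset.sum_le_sum fun i _ => Nat.mul_le_mul (Nat.le_of_lt_succ (φ i).2) (Multiset.count_le_card _ _))⟩
  have hlt : Fintype.card (S → Fin (B * M + 1)) < Fintype.card (Fin n → Fin (B + 1)) := by
    rw [Fintype.card_fun, Fintype.card_fun, Fintype.card_fin, Fintype.card_fin, Fintype.card_fin, Fintype.card_coe]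
    calc (B * M + 1) ^ S.card ≤ ((B + 1) * (M + 1)) ^ S.card := Nat.pow_le_pow_left (by ring_nf; omega) _
      _ = (B + 1) ^ S.card * B := mul_pow _ _ _
      _ < (B + 1) ^ S.card * (B + 1) := Nat.mul_lt_mul_of_pos_left (Nat.lt_succ_self B) (by positivity)
      _ = (B + 1) ^ n := (pow_succ _ _).symm
  obtain ⟨φ, ψ, hne, heq⟩ := Fintype.exists_ne_map_eq_of_card_lt val hlt
  let poly : (Fin n → Fin (B + 1)) → Polynomial ℕ := fun φ =>
    ∑ i : Fin n, Polynomial.monomial (i : ℕ) ((φ i : ℕ))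
  have hcoeff : ∀ φ (i : Fin n), (poly φ).coeff i = (φ i : ℕ) := fun φ i => by
    simp only [poly, Polynomial.finsetSum_coeff, Polynomial.coeff_monomial]
    rw [Finset.sum_eq_single i (fun j _ hj => if_neg fun h => hj (Fin.ext h)) (fun h => absurd (Finset.mem_univ i) h),
      if_pos rfl]
  have hdeg : ∀ φ, (poly φ).natDegree < n := fun φ =>
    Nat.lt_succ_of_le (Polynomial.natDegree_sum_le_of_forall_le _ _ fun i _ =>
      (Polynomial.natDegree_monomial_le _).trans (Nat.le_of_lt_succ i.2))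
  refine ⟨poly φ, poly ψ, fun h => hne ?_, ?_⟩
  · funext i
    exact Fin.ext (by rw [← hcoeff φ i, ← hcoeff ψ i, h])
  obtain ⟨hPf, hP⟩ := cls_poly k hdim hE (poly φ) n (hdeg φ)
  obtain ⟨hQf, hQ⟩ := cls_poly k hdim hE (poly ψ) n (hdeg ψ)
  refine iso_of_cls k hdim hPf hQf ?_
  rw [hP, hQ]
  refine Multiset.ext.2 fun c => ?_
  simp only [Multiset.count_sum', Multiset.count_nsmul]
  rw [← Fin.sum_univ_eq_sum_range (fun i => (poly φ).coeff i * Multiset.count c (v i)),
    ← Fin.sum_univ_eq_sum_range (fun i => (poly ψ).coeff i * Multiset.count c (v i))]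
  simp only [hcoeff]
  by_cases hc : c ∈ S
  · exact congrArg Fin.val (congrFun heq ⟨c, hc⟩)
  · refine Finset.sum_congr rfl fun i _ => ?_
    rw [Multiset.count_eq_zero.2 fun h => hc (hS i c h), mul_zero, mul_zero]

theorem isWeil_iff {E : X.Modules} (hE : FlatMod.IsFinLocFree E) : IsWeil E ↔ TPFin E :=
  ⟨tpFin_of_isWeil k hdim hE, isWeil_of_tpFin k hdim hE⟩

theorem tpFin_retract {A E : X.Modules} (hE : FlatMod.IsFinLocFree E) (i : A ⟶ E) (p : E ⟶ A)
    (h : i ≫ p = 𝟙 A) (hfin : TPFin E) : TPFin A := by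
  obtain ⟨S, hS⟩ := hfin
  refine ⟨S, fun m c hc => hS m c ?_⟩
  obtain ⟨j, q, hjq⟩ := exists_pow_retract i p h m
  exact Multiset.mem_of_le (cls_le_of_retract k hdim (isFinLocFree_pow hE m) j q hjq) hc

/-- The classes in all products of tensor powers of two finite bundles. -/
theorem exists_finset_prod {E₁ E₂ : X.Modules} (h₁ : FlatMod.IsFinLocFree E₁) (h₂ : FlatMod.IsFinLocFree E₂)
    (f₁ : TPFin E₁) (f₂ : TPFin E₂) :
    ∃ S : Finset (Cls X), ∀ a b : ℕ,
      ∀ c ∈ cls (CohB1.tensorMod (CohB1.tensorPow E₁ a) (CohB1.tensorPow E₂ b)), c ∈ S := by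
  classical
  obtain ⟨S₁, hS₁⟩ := f₁
  obtain ⟨S₂, hS₂⟩ := f₂
  refine ⟨(S₁ ×ˢ S₂).biUnion fun st => (cls (CohB1.tensorMod st.1.out st.2.out)).toFinset, fun a b c hc => ?_⟩
  have ha := isFinLocFree_pow h₁ a
  have hb := isFinLocFree_pow h₂ b
  obtain ⟨A, hA, hAm, hcA⟩ := (mem_cls_tensor k hdim hb ha c).1 hc
  rw [cls_iso k hdim (isFinLocFree_tM hA.1 hb) (PicMul.comm _ _).some] at hcA
  obtain ⟨B, hB, hBm, hcB⟩ := (mem_cls_tensor k hdim hA.1 hb c).1 hcA
  refine Finset.mem_biUnion.2 ⟨(mk A, mk B), Finset.mem_product.2 ⟨hS₁ a _ hAm, hS₂ b _ hBm⟩, ?_⟩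
  rw [Multiset.mem_toFinset]
  obtain ⟨eA⟩ : Nonempty ((mk A).out ≅ A) := mk_eq_iff.1 (Quotient.out_eq (mk A))
  obtain ⟨eB⟩ : Nonempty ((mk B).out ≅ B) := mk_eq_iff.1 (Quotient.out_eq (mk B))
  rw [cls_iso k hdim (isFinLocFree_tM hB.1 hA.1)
    ((PicMul.comm B A).some ≪≫ isoL eA.symm B ≪≫ isoR _ eB.symm)] at hcB
  exact hcB

theorem tpFin_tensor {E₁ E₂ : X.Modules} (h₁ : FlatMod.IsFinLocFree E₁) (h₂ : FlatMod.IsFinLocFree E₂)
    (f₁ : TPFin E₁) (f₂ : TPFin E₂) : TPFin (CohB1.tensorMod E₁ E₂) := by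
  obtain ⟨S, hS⟩ := exists_finset_prod k hdim h₁ h₂ f₁ f₂
  refine ⟨S, fun m c hc => hS m m c ?_⟩
  rwa [← cls_iso k hdim (isFinLocFree_pow (isFinLocFree_tM h₁ h₂) m) (nonempty_pow_tensor E₁ E₂ m).some]

theorem tpFin_biprod {E₁ E₂ : X.Modules} (h₁ : FlatMod.IsFinLocFree E₁) (h₂ : FlatMod.IsFinLocFree E₂)
    (f₁ : TPFin E₁) (f₂ : TPFin E₂) : TPFin (E₁ ⊞ E₂) := by
  haveI := isLocallyNoetherian' k (X := X)
  obtain ⟨S, hS⟩ := exists_finset_prod k hdim h₁ h₂ f₁ f₂
  have hE := isFinLocFree_biprod h₁ h₂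
  let T := fun a b => CohB1.tensorMod (CohB1.tensorPow E₁ a) (CohB1.tensorPow E₂ b)
  have hT : ∀ a b, FlatMod.IsFinLocFree (T a b) := fun a b =>
    isFinLocFree_tM (isFinLocFree_pow h₁ a) (isFinLocFree_pow h₂ b)
  suffices h : ∀ m, ∀ c ∈ cls (CohB1.tensorPow (E₁ ⊞ E₂) m), ∃ a b, c ∈ cls (T a b) from
    ⟨S, fun m c hc => by obtain ⟨a, b, hab⟩ := h m c hc; exact hS a b c hab⟩
  intro m
  induction m with
  | zero =>
    intro c hc
    refine ⟨0, 0, ?_⟩
    rwa [cls_iso k hdim (hT 0 0) (PicMul.unit (Coh.structureModule X)).some]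
  | succ m ih =>
    intro c hc
    obtain ⟨A, hA, hAm, hcA⟩ := (mem_cls_tensor k hdim hE (isFinLocFree_pow hE m) c).1 hc
    obtain ⟨a, b, hab⟩ := ih _ hAm
    obtain ⟨e⟩ := nonempty_tensor_biprod A E₁ E₂
    rw [cls_iso k hdim (isFinLocFree_tM hA.1 hE) e,
      cls_biprod k hdim (isFinLocFree_tM hA.1 h₁) (isFinLocFree_tM hA.1 h₂),
      Multiset.mem_add] at hcA
    rcases hcA with hc1 | hc2
    · refine ⟨a + 1, b, ?_⟩
      have := (mem_cls_tensor k hdim h₁ (hT a b) c).2 ⟨A, hA, hab, hc1⟩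
      rwa [cls_iso k hdim (isFinLocFree_tM (hT a b) h₁) (nonempty_swap_right _ _ _).some] at this
    · refine ⟨a, b + 1, ?_⟩
      have := (mem_cls_tensor k hdim h₂ (hT a b) c).2 ⟨A, hA, hab, hc2⟩
      rwa [cls_iso k hdim (isFinLocFree_tM (hT a b) h₂) (PicMul.assoc _ _ _).some] at this

omit hdim [IsAlgClosed k] in
theorem exists_isoDual_one : Nonempty (RefHull.dual (Coh.structureModule X) ≅ Coh.structureModule X) := by
  obtain ⟨e⟩ := nonempty_iso_homSh_self (InvEnd.isFinLocFreeOfRank_one (CurveDeg.isInvertible_structureModule (X := X)))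
  exact ⟨e.symm⟩

/-- `(E^∨)^⊗m ≅ (E^⊗m)^∨`. -/
theorem nonempty_pow_dual {E : X.Modules} (hE : FlatMod.IsFinLocFree E) : ∀ m : ℕ,
    Nonempty (CohB1.tensorPow (RefHull.dual E) m ≅ RefHull.dual (CohB1.tensorPow E m)) := by
  intro m
  induction m with
  | zero => exact ⟨(exists_isoDual_one k (X := X)).some.symm⟩
  | succ m ih =>
    obtain ⟨e⟩ := nonempty_iso_dual_tensor _ _ (isFinLocFree_pow hE m) hE
    exact ⟨isoL ih.some _ ≪≫ (PicMul.comm _ _).some ≪≫ e.symm⟩

theorem tpFin_dual {E : X.Modules} (hE : FlatMod.IsFinLocFree E) (hfin : TPFin E) : TPFin (RefHull.dual E) := by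
  classical
  haveI := isLocallyNoetherian' k (X := X)
  obtain ⟨S, hS⟩ := hfin
  refine ⟨S.biUnion fun s => (cls (RefHull.dual s.out)).toFinset, fun m c hc => ?_⟩
  have hM := isFinLocFree_pow hE m
  rw [cls_iso k hdim (isFinLocFree_pow (isFinLocFree_dual k hE) m) (nonempty_pow_dual k hdim hE m).some] at hc
  obtain ⟨l, hl, ⟨el⟩⟩ := exists_dec k hdim hM
  have hsum : ∀ l : List X.Modules, (∀ A ∈ l, IsIndec A) → c ∈ cls (RefHull.dual (sumL l)) →
      ∃ A ∈ l, c ∈ cls (RefHull.dual A) := by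
    intro l
    induction l with
    | nil =>
      intro _ hc
      exfalso
      have hz := isZero_of_rk_zero (isFinLocFree_dual k (KFlatLib.isFinLocFree_freeMod (X := X) 0))
        (by rw [rk_dual (KFlatLib.isFinLocFree_freeMod 0), rk_free])
      rw [show sumL ([] : List X.Modules) = FlatMod.freeMod X 0 from rfl, cls_eq_zero_of_isZero k hdim hz] at hc
      exact absurd hc (Multiset.notMem_zero c)
    | cons A t ih =>
      intro h hc
      have hA := (h A List.mem_cons_self).1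
      have ht := isFinLocFree_sumL fun B hB => (h B (List.mem_cons_of_mem _ hB)).1
      have hAt := isFinLocFree_biprod hA ht
      let S' : ShortComplex X.Modules := ShortComplex.mk biprod.inl biprod.snd (biprod.inl_snd (X := A) (Y := sumL t))
      have hS' : S'.ShortExact := (ShortComplex.Splitting.ofHasBinaryBiproduct A (sumL t)).shortExact
      obtain ⟨w, hT⟩ := shortExact_comap hS' hA hAt ht (Coh.structureModule X)
      let sp : (ShortComplex.mk _ _ w).Splitting :=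
        ShortComplex.Splitting.ofExactOfSection _ hT.exact (comap (Coh.structureModule X) biprod.fst)
          (by show comap _ biprod.fst ≫ comap _ biprod.inl = _; rw [← comap_comp, biprod.inl_fst, comap_id]) hT.mono_f
      rw [show sumL (A :: t) = (A ⊞ sumL t) from rfl,
        cls_iso k hdim (isFinLocFree_dual k hAt) sp.isoBinaryBiproduct,
        cls_biprod k hdim (isFinLocFree_dual k ht) (isFinLocFree_dual k hA), Multiset.mem_add] at hc
      rcases hc with hc | hc
      · obtain ⟨B, hB, hcB⟩ := ih (fun B hB => h B (List.mem_cons_of_mem _ hB)) hc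
        exact ⟨B, List.mem_cons_of_mem _ hB, hcB⟩
      · exact ⟨A, List.mem_cons_self, hc⟩
  rw [cls_iso k hdim (isFinLocFree_dual k hM) (isoCongr el (Iso.refl _))] at hc
  obtain ⟨A, hA, hcA⟩ := hsum l hl hc
  refine Finset.mem_biUnion.2 ⟨mk A, hS m _ ?_, ?_⟩
  · rw [cls_eq k hdim ⟨hl, ⟨el⟩⟩]
    exact List.mem_map.2 ⟨A, hA, rfl⟩
  · obtain ⟨eA⟩ : Nonempty ((mk A).out ≅ A) := mk_eq_iff.1 (Quotient.out_eq (mk A))
    rw [Multiset.mem_toFinset]
    rwa [cls_iso k hdim (isFinLocFree_dual k (hl A hA).1) (isoCongr eA.symm (Iso.refl _))] at hcA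

end Groth.Agent.BunLib68.KS
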