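import Groth.Agent.BunLib68.AutCount

/-!
Endomorphisms of a non-split self-extension `F` of `P` with scalar endomorphisms, and of `P ⊞ F`.
-/

universe v u

set_option backward.isDefEq.respectTransparency false
set_option backward.isDefEq.respectTransparency.types false
set_option linter.style.haveILetI false
set_option linter.unusedSectionVars false

open CategoryTheory CategoryTheory.Limits

noncomputable section

namespace Groth.Agent.BunLib68.SelfExt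

variable {C : Type u} [Category.{v} C] [Preadditive C] [HasBinaryBiproducts C] {K : Type*} [Field K]

/-- A non-split self-extension of an object whose endomorphisms are scalars. -/
structure Data (K : Type*) [Field K] (P F : C) where
  f : P ⟶ F
  g : F ⟶ P
  w : f ≫ g = 0
  mono : Mono f
  epi : Epi g
  lift : ∀ u : P ⟶ F, u ≫ g = 0 → ∃ v : P ⟶ P, v ≫ f = u
  liftF : ∀ u : F ⟶ F, u ≫ g = 0 → ∃ v : F ⟶ P, v ≫ f = u
  desc : ∀ u : F ⟶ P, f ≫ u = 0 → ∃ v : P ⟶ P, g ≫ v = u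
  descF : ∀ u : F ⟶ F, f ≫ u = 0 → ∃ v : P ⟶ F, g ≫ v = u
  nonsplit : ∀ s : P ⟶ F, s ≫ g ≠ 𝟙 P
  nonsplit' : ∀ r : F ⟶ P, f ≫ r ≠ 𝟙 P
  sP : K →+* End P
  sF : K →+* End F
  surj : Function.Surjective sP
  natF : ∀ (u : P ⟶ F) (a : K), sP a ≫ u = u ≫ sF a
  natG : ∀ (u : F ⟶ P) (a : K), sF a ≫ u = u ≫ sP a

variable {P F : C} (D : Data K P F)

namespace Data

/-- The scalar of `P`, as a morphism. -/
def pP (a : K) : P ⟶ P := D.sP a

/-- The scalar of `F`, as a morphism. -/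
def pF (a : K) : F ⟶ F := D.sF a

theorem pP_add (a b : K) : D.pP (a + b) = D.pP a + D.pP b := map_add D.sP a b

theorem pP_zero : D.pP 0 = 0 := map_zero D.sP

theorem pP_one : D.pP 1 = 𝟙 P := map_one D.sP

theorem pF_one : D.pF 1 = 𝟙 F := map_one D.sF

theorem comp_pP (a b : K) : D.pP a ≫ D.pP b = D.pP (b * a) := (map_mul D.sP b a).symm

theorem comp_pF (a b : K) : D.pF a ≫ D.pF b = D.pF (b * a) := (map_mul D.sF b a).symm

theorem natF' (u : P ⟶ F) (a : K) : D.pP a ≫ u = u ≫ D.pF a := D.natF u a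

theorem natG' (u : F ⟶ P) (a : K) : D.pF a ≫ u = u ≫ D.pP a := D.natG u a

theorem surj' (u : P ⟶ P) : ∃ a, D.pP a = u := D.surj u

theorem pP_injective : Function.Injective D.pP := by
  haveI : Nontrivial (End P) := ⟨1, 0, fun h1 => D.nonsplit 0 (by rw [zero_comp]; exact h1.symm)⟩
  exact D.sP.injective

theorem exists_PF (u : P ⟶ F) : ∃ b : K, u = D.pP b ≫ D.f := by
  obtain ⟨a, ha⟩ := D.surj' (u ≫ D.g : P ⟶ P)
  have ha0 : a = 0 := by
    by_contra hne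
    refine D.nonsplit (D.pP a⁻¹ ≫ u) ?_
    rw [Category.assoc, ← ha, D.comp_pP, mul_inv_cancel₀ hne, D.pP_one]
  rw [ha0, D.pP_zero] at ha
  obtain ⟨v, hv⟩ := D.lift u ha.symm
  obtain ⟨b, rfl⟩ := D.surj' v
  exact ⟨b, hv.symm⟩

theorem exists_FP (u : F ⟶ P) : ∃ c : K, u = D.g ≫ D.pP c := by
  obtain ⟨a, ha⟩ := D.surj' (D.f ≫ u : P ⟶ P)
  have ha0 : a = 0 := by
    by_contra hne
    refine D.nonsplit' (u ≫ D.pP a⁻¹) ?_
    rw [← Category.assoc, ← ha, D.comp_pP, inv_mul_cancel₀ hne, D.pP_one]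
  rw [ha0, D.pP_zero] at ha
  obtain ⟨v, hv⟩ := D.desc u ha.symm
  obtain ⟨b, rfl⟩ := D.surj' v
  exact ⟨b, hv.symm⟩

/-- The endomorphisms of `F`. -/
def φ (a d : K) : F ⟶ F := (D.pF a : F ⟶ F) + D.g ≫ (D.pP d : P ⟶ P) ≫ D.f

theorem f_φ (a d : K) : D.f ≫ (D.φ a d : F ⟶ F) = D.pP a ≫ D.f := by
  show D.f ≫ ((D.pF a : F ⟶ F) + D.g ≫ D.pP d ≫ D.f) = _
  rw [Preadditive.comp_add, ← D.natF', reassoc_of% D.w, zero_comp, add_zero]

theorem φ_g (a d : K) : (D.φ a d : F ⟶ F) ≫ D.g = D.g ≫ D.pP a := by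
  show ((D.pF a : F ⟶ F) + D.g ≫ D.pP d ≫ D.f) ≫ D.g = _
  rw [Preadditive.add_comp, D.natG']
  simp [D.w]

theorem exists_FF (u : F ⟶ F) : ∃ a d : K, u = D.φ a d := by
  obtain ⟨a, ha⟩ := D.exists_PF (D.f ≫ u)
  have h0 : D.f ≫ (u - (D.pF a : F ⟶ F)) = 0 := by
    rw [Preadditive.comp_sub, ha, ← D.natF', sub_self]
  obtain ⟨v, hv⟩ := D.descF _ h0
  obtain ⟨d, rfl⟩ := D.exists_PF v
  refine ⟨a, d, ?_⟩
  show u = (D.pF a : F ⟶ F) + D.g ≫ D.pP d ≫ D.f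
  rw [hv, add_sub_cancel]

theorem inj_f {a b : K} (h : (D.pP a : P ⟶ P) ≫ D.f = D.pP b ≫ D.f) : a = b := by
  haveI := D.mono
  haveI : Nontrivial (End P) := ⟨1, 0, fun h1 => D.nonsplit 0 (by rw [zero_comp]; exact h1.symm)⟩
  exact D.pP_injective ((cancel_mono D.f).1 h)

theorem inj_g {a b : K} (h : D.g ≫ (D.pP a : P ⟶ P) = D.g ≫ D.pP b) : a = b := by
  haveI := D.epi
  haveI : Nontrivial (End P) := ⟨1, 0, fun h1 => D.nonsplit 0 (by rw [zero_comp]; exact h1.symm)⟩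
  exact D.pP_injective ((cancel_epi D.g).1 h)

theorem inj_φ {a d a' d' : K} (h : D.φ a d = D.φ a' d') : a = a' ∧ d = d' := by
  have ha : a = a' := D.inj_f (by rw [← D.f_φ a d, h, D.f_φ])
  subst ha
  refine ⟨rfl, ?_⟩
  have h' : D.g ≫ (D.pP d : P ⟶ P) ≫ D.f = D.g ≫ (D.pP d' : P ⟶ P) ≫ D.f := add_left_cancel h
  haveI := D.epi
  exact D.inj_f ((cancel_epi D.g).1 h')

theorem φ_comp (a d a' d' : K) : (D.φ a d : F ⟶ F) ≫ D.φ a' d' = D.φ (a' * a) (a * d' + d * a') := by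
  show (D.φ a d : F ⟶ F) ≫ ((D.pF a' : F ⟶ F) + D.g ≫ D.pP d' ≫ D.f) = _
  rw [Preadditive.comp_add, ← Category.assoc _ D.g, D.φ_g]
  show ((D.pF a : F ⟶ F) + D.g ≫ D.pP d ≫ D.f) ≫ (D.pF a' : F ⟶ F) + _ = _
  rw [Preadditive.add_comp, Category.assoc, Category.assoc, ← D.natF', ← Category.assoc (D.pP d), D.comp_pP,
    Category.assoc, ← Category.assoc (D.pP a), D.comp_pP]
  show _ = (D.pF (a' * a) : F ⟶ F) + D.g ≫ (D.pP (a * d' + d * a') : P ⟶ P) ≫ D.f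
  rw [← D.comp_pF, add_assoc]
  congr 1
  rw [show (D.pP (a * d' + d * a') : P ⟶ P) = (D.pP (d' * a) : P ⟶ P) + D.pP (a' * d) by
      rw [mul_comm d' a, mul_comm a' d, D.pP_add],
    Preadditive.add_comp, Preadditive.comp_add, add_comm]

theorem φ_one : (D.φ 1 0 : F ⟶ F) = 𝟙 F := by
  show (D.pF 1 : F ⟶ F) + D.g ≫ (D.pP 0 : P ⟶ P) ≫ D.f = _
  rw [D.pF_one, D.pP_zero]
  simp

include D in
theorem card_aut [Finite K] : Nat.card (Aut F) = (Nat.card K - 1) * Nat.card K := by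
  let inv : {a : K // a ≠ 0} × K → Aut F := fun p =>
    { hom := D.φ p.1.1 p.2
      inv := D.φ p.1.1⁻¹ (-(p.2 / (p.1.1 * p.1.1)))
      hom_inv_id := by
        rw [D.φ_comp, inv_mul_cancel₀ p.1.2,
          show p.1.1 * -(p.2 / (p.1.1 * p.1.1)) + p.2 * p.1.1⁻¹ = 0 by field_simp [p.1.2]; ring]
        exact D.φ_one
      inv_hom_id := by
        rw [D.φ_comp, mul_inv_cancel₀ p.1.2,
          show p.1.1⁻¹ * p.2 + -(p.2 / (p.1.1 * p.1.1)) * p.1.1 = 0 by field_simp [p.1.2]; ring]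
        exact D.φ_one }
  have hb : Function.Bijective inv := by
    constructor
    · rintro ⟨⟨a, ha⟩, d⟩ ⟨⟨a', ha'⟩, d'⟩ h
      obtain ⟨rfl, rfl⟩ := D.inj_φ (congrArg Iso.hom h)
      rfl
    · intro e
      obtain ⟨a, d, h⟩ := D.exists_FF e.hom
      obtain ⟨a', d', h'⟩ := D.exists_FF e.inv
      have h1 := e.hom_inv_id
      rw [h, h', D.φ_comp, ← D.φ_one] at h1
      have ha : a ≠ 0 := right_ne_zero_of_mul_eq_one (D.inj_φ h1).1
      exact ⟨(⟨a, ha⟩, d), Iso.ext h.symm⟩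
  have hc : Nat.card {a : K // a ≠ 0} = Nat.card K - 1 :=
    (Nat.card_congr unitsEquivNeZero.symm).trans (Nat.card_units K)
  rw [← Nat.card_congr (Equiv.ofBijective inv hb), Nat.card_prod, hc]

/-- The endomorphisms of `P ⊞ F`. -/
def mat (a b c a' d : K) : P ⊞ F ⟶ P ⊞ F :=
  Biprod.ofComponents (D.pP a) (D.pP b ≫ D.f) (D.g ≫ D.pP c) (D.φ a' d)

theorem exists_mk (e : P ⊞ F ⟶ P ⊞ F) : ∃ a b c a' d : K, e = D.mat a b c a' d := by
  obtain ⟨a, ha⟩ := D.surj' (biprod.inl ≫ e ≫ biprod.fst : P ⟶ P)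
  obtain ⟨b, hb⟩ := D.exists_PF (biprod.inl ≫ e ≫ biprod.snd)
  obtain ⟨c, hc⟩ := D.exists_FP (biprod.inr ≫ e ≫ biprod.fst)
  obtain ⟨a', d, hd⟩ := D.exists_FF (biprod.inr ≫ e ≫ biprod.snd)
  refine ⟨a, b, c, a', d, ?_⟩
  unfold mat
  rw [ha, ← hb, ← hc, ← hd, Biprod.ofComponents_eq]

theorem inj_mk {a b c a' d A B C' A' D' : K} (h : D.mat a b c a' d = D.mat A B C' A' D') :
    a = A ∧ b = B ∧ c = C' ∧ a' = A' ∧ d = D' := by
  have h1 := congrArg (fun e => biprod.inl ≫ e ≫ biprod.fst) h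
  have h2 := congrArg (fun e => biprod.inl ≫ e ≫ biprod.snd) h
  have h3 := congrArg (fun e => biprod.inr ≫ e ≫ biprod.fst) h
  have h4 := congrArg (fun e => biprod.inr ≫ e ≫ biprod.snd) h
  simp only [mat, Biprod.ofComponents_fst, Biprod.ofComponents_snd, Preadditive.comp_add, biprod.inl_fst_assoc,
    biprod.inl_snd_assoc, biprod.inr_fst_assoc, biprod.inr_snd_assoc, zero_comp, add_zero, zero_add] at h1 h2 h3 h4
  haveI : Nontrivial (End P) := ⟨1, 0, fun hh => D.nonsplit 0 (by rw [zero_comp]; exact hh.symm)⟩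
  exact ⟨D.pP_injective h1, D.inj_f h2, D.inj_g h3, (D.inj_φ h4).1, (D.inj_φ h4).2⟩

theorem mk_comp (a b c a' d A B C' A' D' : K) :
    D.mat a b c a' d ≫ D.mat A B C' A' D' =
      D.mat (A * a) (a * B + b * A') (c * A + a' * C') (A' * a') (a' * D' + d * A' + c * B) := by
  unfold mat
  rw [Biprod.ofComponents_comp]
  congr 1
  · rw [D.comp_pP, Category.assoc, reassoc_of% D.w, zero_comp, comp_zero, add_zero]
  · rw [← Category.assoc, D.comp_pP, Category.assoc, D.f_φ, ← Category.assoc, D.comp_pP, ← Preadditive.add_comp,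
      mul_comm B a, mul_comm A' b, D.pP_add]
  · rw [Category.assoc, D.comp_pP, ← Category.assoc, D.φ_g, Category.assoc, D.comp_pP, ← Preadditive.comp_add,
      mul_comm A c, mul_comm C' a', D.pP_add]
  · rw [D.φ_comp, Category.assoc, ← Category.assoc (D.pP c), D.comp_pP]
    show D.g ≫ (D.pP (B * c) : P ⟶ P) ≫ D.f +
        ((D.pF (A' * a') : F ⟶ F) + D.g ≫ (D.pP (a' * D' + d * A') : P ⟶ P) ≫ D.f) =
      (D.pF (A' * a') : F ⟶ F) + D.g ≫ (D.pP (a' * D' + d * A' + c * B) : P ⟶ P) ≫ D.f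
    rw [show (D.pP (a' * D' + d * A' + c * B) : P ⟶ P) =
        (D.pP (a' * D' + d * A') : P ⟶ P) + D.pP (B * c) by rw [mul_comm B c, D.pP_add],
      Preadditive.add_comp, Preadditive.comp_add]
    abel

theorem mk_one : D.mat 1 0 0 1 0 = 𝟙 (P ⊞ F) := by
  unfold mat
  rw [D.φ_one, D.pP_zero, D.pP_one]
  refine biprod.hom_ext' _ _ ?_ ?_ <;> refine biprod.hom_ext _ _ ?_ ?_ <;> simp [Biprod.ofComponents]

include D in
theorem card_aut_biprod [Finite K] : Nat.card (Aut (P ⊞ F)) = (Nat.card K - 1) ^ 2 * Nat.card K ^ 3 := by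
  let inv : ({a : K // a ≠ 0} × {a : K // a ≠ 0}) × (K × K × K) → Aut (P ⊞ F) := fun p =>
    { hom := D.mat p.1.1.1 p.2.1 p.2.2.1 p.1.2.1 p.2.2.2
      inv := D.mat p.1.1.1⁻¹ (-(p.2.1 / (p.1.1.1 * p.1.2.1))) (-(p.2.2.1 / (p.1.1.1 * p.1.2.1))) p.1.2.1⁻¹
        ((p.2.2.1 * p.2.1 / (p.1.1.1 * p.1.2.1) - p.2.2.2 / p.1.2.1) / p.1.2.1)
      hom_inv_id := by
        obtain ⟨⟨⟨a, ha⟩, ⟨a', ha'⟩⟩, b, c, d⟩ := p
        rw [D.mk_comp, ← D.mk_one]
        congr 1 <;> field_simp <;> ring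
      inv_hom_id := by
        obtain ⟨⟨⟨a, ha⟩, ⟨a', ha'⟩⟩, b, c, d⟩ := p
        rw [D.mk_comp, ← D.mk_one]
        congr 1 <;> field_simp <;> ring }
  have hb : Function.Bijective inv := by
    constructor
    · rintro ⟨⟨⟨a, ha⟩, ⟨a', ha'⟩⟩, b, c, d⟩ ⟨⟨⟨A, hA⟩, ⟨A', hA'⟩⟩, B, C', D'⟩ h
      obtain ⟨rfl, rfl, rfl, rfl, rfl⟩ := D.inj_mk (congrArg Iso.hom h)
      rfl
    · intro e
      obtain ⟨a, b, c, a', d, h⟩ := D.exists_mk e.hom
      obtain ⟨A, B, C', A', D', h'⟩ := D.exists_mk e.inv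
      have h1 := e.hom_inv_id
      rw [h, h', D.mk_comp, ← D.mk_one] at h1
      obtain ⟨i1, -, -, i4, -⟩ := D.inj_mk h1
      exact ⟨((⟨a, right_ne_zero_of_mul_eq_one i1⟩, ⟨a', right_ne_zero_of_mul_eq_one i4⟩), (b, c, d)),
        Iso.ext h.symm⟩
  have hc : Nat.card {a : K // a ≠ 0} = Nat.card K - 1 :=
    (Nat.card_congr unitsEquivNeZero.symm).trans (Nat.card_units K)
  rw [← Nat.card_congr (Equiv.ofBijective inv hb)]
  simp only [Nat.card_prod, hc]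
  ring

end Data

end Groth.Agent.BunLib68.SelfExt
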