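import Groth.Agent.BunLib68.Deg
import Groth.Agent.S1536

/-!
# Splitting of slope filtrations in genus one
-/

universe u

set_option backward.isDefEq.respectTransparency false
set_option backward.isDefEq.respectTransparency.types false
set_option linter.style.haveILetI false
set_option linter.unusedSectionVars false
set_option linter.unusedVariables false
set_option synthInstance.maxHeartbeats 100000

open CategoryTheory CategoryTheory.Limits AlgebraicGeometry TopologicalSpace Opposite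

noncomputable section

namespace Groth.Agent.BunLib68

open Groth.Agent.CurveBundle Groth.Agent.CurveSlope Groth.Agent.CurveStable

variable {X : Scheme.{u}} (k : Type u) [Field k] [X.Over (Spec (CommRingCat.of k))]

theorem geometricallyConnected_of_geometricallyIntegral [GeometricallyIntegral (X ↘ Spec (CommRingCat.of k))] :
    GeometricallyConnected (X ↘ Spec (CommRingCat.of k)) :=
  ⟨fun K _ y Z g₁ g₂ h =>
    haveI := GeometricallyIrreducible.geometrically_irreducibleSpace (f := X ↘ Spec (CommRingCat.of k)) y g₁ g₂ h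
    show ConnectedSpace Z from { toNonempty := inferInstance }⟩

theorem finrank_h0_one [IsProper (X ↘ Spec (CommRingCat.of k))] [Smooth (X ↘ Spec (CommRingCat.of k))]
    [GeometricallyConnected (X ↘ Spec (CommRingCat.of k))] :
    Module.finrank k (Coh.HH X (Coh.structureModule X) 0) = 1 := by
  haveI := Groth.Agent.GrpSchLib.geometricallyReduced_of_smooth (X ↘ Spec (CommRingCat.of k))
  exact Groth.Agent.S1536.result k X

variable [IsIntegral X] [IsProper (X ↘ Spec (CommRingCat.of k))] [Smooth (X ↘ Spec (CommRingCat.of k))]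

/-- Semistability, for a module given without a rank. -/
def SS (E : X.Modules) : Prop :=
  ∀ (F : X.Modules) (i : F ⟶ E), Mono i → FlatMod.IsFinLocFree F →
    dg k F * (rk E : ℤ) ≤ dg k E * (rk F : ℤ)

theorem ss_of (hdim : topologicalKrullDim X ≤ 1) {E : X.Modules} {r : ℕ}
    (hE : FlatMod.IsFinLocFreeOfRank r E)
    (hss : ∀ (F : X.Modules) (r' : ℕ) (i : F ⟶ E), Mono i → 0 < r' → FlatMod.IsFinLocFreeOfRank r' F →
      Curv2.deg k X F r' * (r : ℤ) ≤ Curv2.deg k X E r * (r' : ℤ)) : SS k E := fun F i hi hF => by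
  haveI := hi
  rw [rk_eq hE]
  exact dg_mul_le_of_ss k hdim hE hss i (coh_of_free k hF)

theorem deg_le_of_ss {E : X.Modules} {r : ℕ} (hE : FlatMod.IsFinLocFreeOfRank r E) (h : SS k E)
    (F : X.Modules) (r' : ℕ) (i : F ⟶ E) (hi : Mono i) (hF : FlatMod.IsFinLocFreeOfRank r' F) :
    Curv2.deg k X F r' * (r : ℤ) ≤ Curv2.deg k X E r * (r' : ℤ) := by
  have := h F i hi (isFinLocFree_of_rank hF)
  rwa [← deg_eq_dg k hE, ← deg_eq_dg k hF, rk_eq hE, rk_eq hF] at this

/-- No maps between semistable bundles of decreasing slope. -/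
theorem hom_eq_zero_of_slope (hdim : topologicalKrullDim X ≤ 1) {A B : X.Modules}
    (hA : FlatMod.IsFinLocFree A) (hB : FlatMod.IsFinLocFree B) (hAs : SS k A) (hBs : SS k B)
    (hlt : dg k B * (rk A : ℤ) < dg k A * (rk B : ℤ)) (f : A ⟶ B) : f = 0 := by
  by_contra hf
  obtain ⟨I, π, j, hj, hπ, hfac, hK, hI, hrk, hdg, hpos, hle⟩ := exists_decomp k hdim hA hB f
  have h1 := hAs (kernel f) (kernel.ι f) inferInstance hK
  have h2 := hBs I j hj hI
  have hI0 : (0 : ℤ) < rk I := by exact_mod_cast hpos hf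
  have hr : (rk A : ℤ) = (rk (kernel f) : ℤ) + (rk I : ℤ) := by exact_mod_cast hrk
  have hge : dg k A * (rk I : ℤ) ≤ dg k I * (rk A : ℤ) := by
    linear_combination h1 + (rk A : ℤ) * hdg - (dg k A) * hr
  have hB0 : (0 : ℤ) ≤ rk B := Int.natCast_nonneg _
  have h3 := mul_le_mul_of_nonneg_right h2 (Int.natCast_nonneg (rk A))
  have h4 := mul_le_mul_of_nonneg_right hge hB0
  have h5 := mul_lt_mul_of_pos_right hlt hI0
  linarith

/-- The first step of the slope filtration: semistable, with no maps to the quotient. -/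
theorem exists_destab (hdim : topologicalKrullDim X ≤ 1) {E : X.Modules} (hE : FlatMod.IsFinLocFree E)
    (hr : 0 < rk E) :
    ∃ (E₁ : X.Modules) (i₁ : E₁ ⟶ E), Mono i₁ ∧ 0 < rk E₁ ∧ FlatMod.IsFinLocFree E₁ ∧
      FlatMod.IsFinLocFree (cokernel i₁) ∧ SS k E₁ ∧
      (∀ (G : X.Modules) (j : G ⟶ E), Mono j → FlatMod.IsFinLocFree G →
        dg k G * (rk E₁ : ℤ) ≤ dg k E₁ * (rk G : ℤ)) ∧
      (∀ (G : X.Modules) (j : G ⟶ cokernel i₁), Mono j → FlatMod.IsFinLocFree G → 0 < rk G →
        dg k G * (rk E₁ : ℤ) < dg k E₁ * (rk G : ℤ)) ∧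
      ∀ g : E₁ ⟶ cokernel i₁, g = 0 := by
  haveI := isLocallyNoetherian' k (X := X)
  obtain ⟨E₁, i₁, hi₁, hpos, hE₁, hmax⟩ := exists_max_slope k hdim hr (isFinLocFreeOfRank_rk hE)
  haveI := hi₁
  have hall : ∀ (G : X.Modules) (j : G ⟶ E), Mono j → FlatMod.IsFinLocFree G →
      dg k G * (rk E₁ : ℤ) ≤ dg k E₁ * (rk G : ℤ) := fun G j hj hG => by
    rcases isZero_or_pos k hG with h | h
    · rw [dg_eq_zero_of_isZero k h, rk_eq_zero_of_isZero h]
      simp
    · exact (hmax G j hj hG h).1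
  have hEc := coh_of_free k hE
  have hE₁c := coh_of_free k hE₁
  have hQc : Coh.IsCoh (cokernel i₁) := QCoh.isCoh_cokernel hE₁c.1 hEc i₁
  have hS := shortExact_cokernel_of_mono i₁
  have hQ := isFinLocFree_of_max k hdim i₁ (cokernel.π i₁) _ hS hE₁c hE hQc (fun G g hg hG hrG => by
    have := hall G g hg hG
    rw [hrG] at this
    exact le_of_mul_le_mul_right this (by exact_mod_cast hpos))
  have hquot : ∀ (G : X.Modules) (j : G ⟶ cokernel i₁), Mono j → FlatMod.IsFinLocFree G → 0 < rk G →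
      dg k G * (rk E₁ : ℤ) < dg k E₁ * (rk G : ℤ) := fun G j hj hG hG0 => by
    haveI := hj
    obtain ⟨P, i, hi, hP, hrP, hdP⟩ := exists_preimage k hdim i₁ (cokernel.π i₁) _ hS hE₁c hE hQc j (coh_of_free k hG)
    have h := hmax P i hi hP (by omega)
    have hrP' : (rk P : ℤ) = (rk E₁ : ℤ) + (rk G : ℤ) := by exact_mod_cast hrP
    have h1 := h.1
    rw [hrP', hdP] at h1
    rcases lt_or_eq_of_le h1 with h2 | h2
    · linarith
    · have := h.2 (by rw [hrP', hdP]; exact h2)
      omega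
  refine ⟨E₁, i₁, hi₁, hpos, hE₁, hQ, fun G i hi hG => ?_, hall, hquot, fun g => ?_⟩
  · haveI := hi
    exact hall G (i ≫ i₁) (mono_comp _ _) hG
  · by_contra hg
    obtain ⟨I, π, j, hj, hπ, hfac, hK, hI, hrk, hdg, hp, -⟩ := exists_decomp k hdim hE₁ hQ g
    have h1 := hall (kernel g) (kernel.ι g ≫ i₁) (mono_comp _ _) hK
    have h2 := hquot I j hj hI (hp hg)
    have hrk' : (rk E₁ : ℤ) = (rk (kernel g) : ℤ) + (rk I : ℤ) := by exact_mod_cast hrk
    rw [hrk', hdg] at h1 h2
    linarith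

variable (hdim : topologicalKrullDim X = 1) (hO : Module.finrank k (Coh.HH X (Coh.structureModule X) 0) = 1)
  (hg : Curv2.genus k X = 1)
include hdim hO hg

/-- In genus one an extension splits when there are no maps from the sub to the quotient. -/
theorem isSplitEpi_of_hom_eq_zero {S : ShortComplex X.Modules} (hS : S.ShortExact)
    (h1 : FlatMod.IsFinLocFree S.X₁) (h3 : FlatMod.IsFinLocFree S.X₃) (h : ∀ g : S.X₁ ⟶ S.X₃, g = 0) :
    IsSplitEpi S.g :=
  isSplitEpi_of_HH_one hS h3 (subsingleton_HH_one_homSh k hdim hO hg h1 h3 h)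

/-- In genus one an indecomposable bundle is semistable. -/
theorem ss_of_indecomposable {E : X.Modules} (hE : FlatMod.IsFinLocFree E)
    (hind : ∀ E₁ E₂ : X.Modules, Nonempty (E ≅ E₁ ⊞ E₂) → IsZero E₁ ∨ IsZero E₂) : SS k E := by
  intro F i hi hF
  haveI := hi
  rcases Nat.eq_zero_or_pos (rk E) with h0 | h0
  · have := rk_le_of_mono k i (coh_of_free k hE)
    rw [h0, show rk F = 0 by omega]
    simp
  obtain ⟨E₁, i₁, hi₁, hpos, hE₁, hQ, -, hall, -, hzero⟩ := exists_destab k hdim.le hE h0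
  haveI := hi₁
  let S : ShortComplex X.Modules := ShortComplex.mk i₁ (cokernel.π i₁) (cokernel.condition i₁)
  have hS : S.ShortExact := shortExact_cokernel_of_mono i₁
  haveI : IsSplitEpi S.g := isSplitEpi_of_hom_eq_zero k hdim hO hg hS hE₁ hQ hzero
  let sp := ShortComplex.Splitting.ofExactOfSection S hS.exact (section_ S.g) (IsSplitEpi.id S.g) hS.mono_f
  have hEc := coh_of_free k hE
  rcases hind E₁ (cokernel i₁) ⟨sp.isoBinaryBiproduct⟩ with h | h
  · rw [rk_eq_zero_of_isZero h] at hpos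
    omega
  · haveI : Epi i₁ := Preadditive.epi_of_isZero_cokernel i₁ h
    haveI := isIso_of_mono_of_epi i₁
    rw [← rk_congr (asIso i₁), ← dg_congr k (asIso i₁)]
    exact hall F i hi hF

end Groth.Agent.BunLib68
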