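import Groth.Agent.BunLib68.EvalDual
import Groth.Agent.BunLib68.Weil
import Groth.Agent.BunLib68.DualTensor
import Groth.Agent.BunLib68.Higgs
import Groth.Agent.JacTheta.Twist

/-!
Genus one with a rational point: semistable bundles of small slope lie in sums of copies of a line bundle.
-/

universe u

set_option backward.isDefEq.respectTransparency false
set_option backward.isDefEq.respectTransparency.types false
set_option linter.style.haveILetI false
set_option linter.unusedSectionVars false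
set_option linter.unusedVariables false
set_option synthInstance.maxHeartbeats 100000

open CategoryTheory CategoryTheory.Limits AlgebraicGeometry TopologicalSpace Opposite
open Groth.Agent.PnCoh.Finite (mapLin)

noncomputable section

namespace Groth.Agent.BunLib68.SubSum

open Groth.Agent.CurveBundle Groth.Agent.CurveSlope Groth.Agent.CurveStable

variable {X : Scheme.{u}}

theorem isFinLocFree_sigma [IsIntegral X] [IsLocallyNoetherian X] : ∀ {n : ℕ} (f : Fin n → X.Modules),
    (∀ i, FlatMod.IsFinLocFree (f i)) → FlatMod.IsFinLocFree (∐ f) := by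
  intro n
  induction n with
  | zero =>
    intro f _
    exact H23.PullPush.isFinLocFree_of_iso
      (IsZero.iso KS.isZero_freeZero ((IsZero.iff_id_eq_zero _).2 (Sigma.hom_ext _ _ fun i => i.elim0)))
      (KFlatLib.isFinLocFree_freeMod 0)
  | succ n ih =>
    intro f hf
    exact H23.PullPush.isFinLocFree_of_iso (KS.sigmaSuccIso f).symm
      (KS.isFinLocFree_biprod (hf 0) (ih _ fun i => hf i.succ))

variable (k : Type u) [Field k] [X.Over (Spec (CommRingCat.of k))] [IsIntegral X]
  [IsProper (X ↘ Spec (CommRingCat.of k))] [Smooth (X ↘ Spec (CommRingCat.of k))]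

theorem ss_iso {E E' : X.Modules} (e : E ≅ E') (h : SS k E) : SS k E' := fun K i hi hK => by
  haveI := hi
  have h1 := h K (i ≫ e.inv) (mono_comp _ _) hK
  rwa [rk_congr e, dg_congr k e] at h1

variable (hdim : topologicalKrullDim X = 1)
include hdim

/-- Sections of a bundle against those vanishing at a rational point. -/
theorem h0_le_twist {P : X.Modules} (hP : PicF.IsInvertible P) (hP1 : Curv2.deg k X P 1 = -1)
    (ι : P ⟶ Coh.structureModule X) [Mono ι] {A : X.Modules} (hA : FlatMod.IsFinLocFree A) :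
    Module.finrank k (Coh.HH X A 0) ≤ Module.finrank k (Coh.HH X ((DCoh.tensorBi.obj A).obj P) 0) + rk A := by
  haveI := isLocallyNoetherian' k (X := X)
  have hS := CurvePoint.shortExact_of_iso_mid _ _ _
    (CurveTensor.shortExact_tensor hA _ _ _ (shortExact_cokernel_of_mono ι)) (KFlatLib.tensorUnitIso A)
  have hPf := isFinLocFree_of_rank (InvEnd.isFinLocFreeOfRank_one hP)
  have hAc := coh_of_free k hA
  have hPc := coh_of_free k (KFlatLib.isFinLocFree_tensor hA hPf)
  have hQc : Coh.IsCoh ((DCoh.tensorBi.obj A).obj (cokernel ι)) :=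
    CurveTensor.isCoh_tensor hA (QCoh.isCoh_cokernel (coh_of_free k hPf).1 QCoh.isCoh_structureModule' ι)
  obtain ⟨hr1, hd1⟩ := CurveDuality.dg_tensor_line k hdim hP hA
  rw [rk_congr (CurveTensor.commIso P A)] at hr1
  rw [dg_congr k (CurveTensor.commIso P A), hP1] at hd1
  have hr : rk A = rk ((DCoh.tensorBi.obj A).obj P) + rk ((DCoh.tensorBi.obj A).obj (cokernel ι)) :=
    rk_add_coh k _ _ _ hS hAc
  have hd : dg k A = dg k ((DCoh.tensorBi.obj A).obj P) + dg k ((DCoh.tensorBi.obj A).obj (cokernel ι)) :=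
    dg_add k _ _ _ hS hPc hAc hQc
  have hq : (Module.finrank k (Coh.HH X ((DCoh.tensorBi.obj A).obj (cokernel ι)) 0) : ℤ) = rk A := by
    rw [mul_neg_one] at hd1
    have : dg k ((DCoh.tensorBi.obj A).obj (cokernel ι)) = (rk A : ℤ) := by linarith
    rw [← this]
    unfold dg
    rw [show rk ((DCoh.tensorBi.obj A).obj (cokernel ι)) = 0 by omega,
      CurveRR.euler_eq_h0_sub_h1 k hdim.le hQc.1]
    haveI := CurveDuality.subsingleton_HH_of_rk_zero k hdim hQc (by omega) 0
    rw [Module.finrank_zero_of_subsingleton (M := Coh.HH X ((DCoh.tensorBi.obj A).obj (cokernel ι)) 1)]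
    simp
  have hr0 : rk ((DCoh.tensorBi.obj A).obj (cokernel ι)) = 0 := by omega
  haveI := S0002.result k X A hAc 0
  haveI := S0002.result k X _ hQc 0
  haveI := CurveCohLib.isNoetherian_of_proper (k := k) (X := X)
  have hsum := LinearMap.finrank_range_add_finrank_ker
    (mapLin k ((KFlatLib.tensorUnitIso A).inv ≫ (DCoh.tensorBi.obj A).map (cokernel.π ι)) 0)
  rw [show LinearMap.ker (mapLin k ((KFlatLib.tensorUnitIso A).inv ≫
      (DCoh.tensorBi.obj A).map (cokernel.π ι)) 0) = _ from CurveCohLib.ker_mapLin_g k hS 0,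
    LinearMap.finrank_range_of_inj (CurveCohLib.mapLin_f_zero_injective k hS)] at hsum
  have := Submodule.finrank_le (LinearMap.range
    (mapLin k ((KFlatLib.tensorUnitIso A).inv ≫ (DCoh.tensorBi.obj A).map (cokernel.π ι)) 0))
  change _ + Module.finrank k (Coh.HH X ((DCoh.tensorBi.obj A).obj P) 0) = _ at hsum
  omega

theorem finrank_h0_le_of_mono {A B : X.Modules} (f : A ⟶ B) [Mono f] (hB : Coh.IsCoh B) :
    Module.finrank k (Coh.HH X A 0) ≤ Module.finrank k (Coh.HH X B 0) := by
  haveI := S0002.result k X B hB 0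
  exact LinearMap.finrank_le_finrank_of_injective
    (CurveCohLib.mapLin_f_zero_injective k (shortExact_cokernel_of_mono f))

omit hdim in
theorem h0_eq_of_zero {A B C : X.Modules} (f : A ⟶ B) (g : B ⟶ C) (w : f ≫ g = 0)
    (hS : (ShortComplex.mk f g w).ShortExact) (h : mapLin k g 0 = 0) :
    Module.finrank k (Coh.HH X A 0) = Module.finrank k (Coh.HH X B 0) := by
  haveI := CurveCohLib.isNoetherian_of_proper (k := k) (X := X)
  have h1 := CurveCohLib.mapLin_f_zero_injective k hS
  have h2 := CurveCohLib.ker_mapLin_g k hS 0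
  dsimp only at h1 h2
  rw [h, LinearMap.ker_zero] at h2
  have he := LinearMap.finrank_range_of_inj h1
  rw [← h2, finrank_top] at he
  exact he.symm

omit hdim in
theorem mapLin_comap_eq_zero {F L : X.Modules} {ι : Type*} (b : Module.Basis ι k (Coh.HH X (RefHull.homSh F L) 0))
    {K : X.Modules} (u : K ⟶ F)
    (h : ∀ i, u ≫ toHom (Sheaf.H.equiv₀ (Coh.toAb (RefHull.homSh F L)) isTerminalTop (b i)) = 0) :
    mapLin k (comap L u) 0 = 0 := by
  refine b.ext fun i => ?_
  rw [LinearMap.zero_apply]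
  refine (Sheaf.H.equiv₀ (Coh.toAb (RefHull.homSh K L)) isTerminalTop).injective ?_
  rw [map_zero]
  refine (Sheaf.H.equiv₀_naturality isTerminalTop ((QCoh.toAbFunctor X).map (comap L u)) (b i)).symm.trans ?_
  refine (homEquiv (F := K) (G := L)).injective ?_
  rw [map_zero]
  exact (toHom_comap _ _).trans (h i)

omit hdim in
/-- A family of maps assembles to a map to the sum killed exactly by what all of them kill. -/
theorem exists_sum {F L : X.Modules} {n : ℕ} (ψ : Fin n → (F ⟶ L)) :
    ∃ j : F ⟶ ∐ fun _ : Fin n => L, ∀ {K : X.Modules} (u : K ⟶ F), u ≫ j = 0 → ∀ i, u ≫ ψ i = 0 := by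
  classical
  refine ⟨∑ i, ψ i ≫ Sigma.ι (fun _ : Fin n => L) i, fun {K} u hu i => ?_⟩
  have h := congrArg (fun f => f ≫ Sigma.desc (fun m => if m = i then 𝟙 L else 0)) hu
  simp only [Preadditive.comp_sum, Preadditive.sum_comp, zero_comp, Category.assoc, Sigma.ι_desc] at h
  simpa [comp_ite, Finset.sum_ite_eq'] using h

omit hdim in
theorem shortExact_image {E F I : X.Modules} (j : E ⟶ F) (π : E ⟶ I) [Epi π] (i : I ⟶ F) [Mono i]
    (hfac : π ≫ i = j) : ∃ w : kernel.ι j ≫ π = 0, (ShortComplex.mk (kernel.ι j) π w).ShortExact := by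
  have hw : kernel.ι j ≫ π = 0 := by
    rw [← cancel_mono i, Category.assoc, hfac, kernel.condition, zero_comp]
  exact ⟨hw, { exact := ShortComplex.exact_of_f_is_kernel _ (KernelFork.IsLimit.ofι _ _
      (fun g hg => kernel.lift j g (by rw [← hfac, ← Category.assoc, hg, zero_comp]))
      (fun g hg => kernel.lift_ι _ _ _)
      (fun g hg m hm => by rw [← cancel_mono (kernel.ι j), kernel.lift_ι]; exact hm)) }⟩

variable (hO : Module.finrank k (Coh.HH X (Coh.structureModule X) 0) = 1) (hg : Curv2.genus k X = 1)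
include hO hg

/-- The numerical gap for a semistable bundle of slope above one. -/
theorem h0_gap {P : X.Modules} (hP : PicF.IsInvertible P) (hP1 : Curv2.deg k X P 1 = -1)
    {G : X.Modules} (hG : FlatMod.IsFinLocFree G) (hGs : SS k G) (hbig : (rk G : ℤ) < dg k G) :
    Module.finrank k (Coh.HH X ((DCoh.tensorBi.obj G).obj P) 0) + rk G = Module.finrank k (Coh.HH X G 0) := by
  obtain ⟨hr2, hd2⟩ := CurveDuality.dg_tensor_line k hdim hP hG
  rw [rk_congr (CurveTensor.commIso P G)] at hr2
  rw [dg_congr k (CurveTensor.commIso P G), hP1, mul_neg_one] at hd2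
  have hPf := isFinLocFree_of_rank (InvEnd.isFinLocFreeOfRank_one hP)
  have hGP : FlatMod.IsFinLocFree ((DCoh.tensorBi.obj G).obj P) := KFlatLib.isFinLocFree_tensor hG hPf
  have hGPs : SS k ((DCoh.tensorBi.obj G).obj P) :=
    ss_iso k (CurveTensor.commIso P G) (ss_twist k hdim hP hG hGs)
  have hone : ∀ {B : X.Modules}, FlatMod.IsFinLocFree B → SS k B → 0 < dg k B →
      (Module.finrank k (Coh.HH X B 0) : ℤ) = dg k B := fun {B} hB hs hpos =>
    (h0_of_hom_eq_zero k hdim hO hg hB fun φ => hom_eq_zero_of_slope k hdim.le hB isFinLocFree_one hs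
      (ss_one k hdim) (by rw [dg_one k, rk_one, zero_mul]; simpa using hpos) φ).2
  have h1 := hone hG hGs (by omega)
  have h2 := hone hGP hGPs (by omega)
  omega

/-- A semistable bundle of slope less than `deg L - 1` lies in a sum of copies of `L`. -/
theorem exists_mono {P : X.Modules} (hP : PicF.IsInvertible P) (hP1 : Curv2.deg k X P 1 = -1)
    (ι : P ⟶ Coh.structureModule X) [Mono ι] {F : X.Modules} (hF : FlatMod.IsFinLocFree F)
    (hFs : SS k F) (hr : 0 < rk F) {L : X.Modules} (hL : PicF.IsInvertible L)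
    (hdeg : dg k F < (Curv2.deg k X L 1 - 1) * (rk F : ℤ)) :
    ∃ (M : ℕ), 0 < M ∧ ∃ (j : F ⟶ ∐ fun _ : Fin M => L), Mono j := by
  haveI := isLocallyNoetherian' k (X := X)
  have hL1 := InvEnd.isFinLocFreeOfRank_one hL
  have hLf := isFinLocFree_of_rank hL1
  have hG : FlatMod.IsFinLocFree (RefHull.homSh F L) := isFinLocFree_homSh hF hLf
  haveI := isIso_theta hF L
  let e : (DCoh.tensorBi.obj L).obj (RefHull.dual F) ≅ RefHull.homSh F L :=
    CurveTensor.commIso L (RefHull.dual F) ≪≫ asIso (theta F L)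
  have hD := isFinLocFree_dual k hF
  obtain ⟨hr1, hd1⟩ := CurveDuality.dg_tensor_line k hdim hL hD
  rw [rk_congr e, rk_dual hF] at hr1
  rw [dg_congr k e, dg_dual k hdim hF, rk_dual hF] at hd1
  have hGs : SS k (RefHull.homSh F L) := ss_iso k e (ss_twist k hdim hL hD (ss_dual k hdim hF hFs))
  have hgap := h0_gap k hdim hO hg hP hP1 hG hGs (by rw [hr1, hd1]; linear_combination hdeg)
  haveI := S0002.result k X _ (coh_of_free k hG) 0
  let b := Module.finBasis k (Coh.HH X (RefHull.homSh F L) 0)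
  obtain ⟨j, hj⟩ := exists_sum
    fun i => toHom (Sheaf.H.equiv₀ (Coh.toAb (RefHull.homSh F L)) isTerminalTop (b i))
  refine ⟨_, by omega, j, ?_⟩
  obtain ⟨I, π, i₀, hi₀, hπ, hfac, hK, hI, hrk, -, -, -⟩ :=
    exists_decomp k hdim.le hF (isFinLocFree_sigma _ fun _ => hLf) j
  haveI := hπ
  haveI := hi₀
  obtain ⟨hw, hS⟩ := shortExact_image j π i₀ hfac
  obtain ⟨w, hS'⟩ := shortExact_comap hS hK hF hI L
  have hzero := mapLin_comap_eq_zero k b (kernel.ι j) (hj _ (kernel.condition j))
  haveI : Mono (comap L π) := hS'.mono_f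
  have hA : FlatMod.IsFinLocFree (RefHull.homSh I L) := isFinLocFree_homSh hI hLf
  have hA0 := h0_eq_of_zero k (comap L π) (comap L (kernel.ι j)) w hS' hzero
  have h3 := h0_le_twist k hdim hP hP1 ι hA
  have hPf := isFinLocFree_of_rank (InvEnd.isFinLocFreeOfRank_one hP)
  haveI : Mono (CurveHiggs.twist P (comap L π)) := CurveHiggs.mono_twist hPf _
  have h4 := finrank_h0_le_of_mono k hdim (CurveHiggs.twist P (comap L π))
    (coh_of_free k (KFlatLib.isFinLocFree_tensor hG hPf))
  have h5 : rk (RefHull.homSh I L) = rk I := by rw [rk_homSh hI hLf, rk_eq hL1, mul_one]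
  have h6 : rk (kernel j) = 0 := by omega
  exact Preadditive.mono_of_kernel_zero ((isZero_of_rk_zero hK h6).eq_of_src _ _)

omit hO hg hdim

/-- Slopes of subsheaves bounded by `a / b`. -/
def Sub (a b : ℤ) (M : X.Modules) : Prop :=
  ∀ (K : X.Modules) (i : K ⟶ M), Mono i → FlatMod.IsFinLocFree K → dg k K * b ≤ a * (rk K : ℤ)

theorem sub_iso {a b : ℤ} {M M' : X.Modules} (e : M ≅ M') (h : Sub k a b M) : Sub k a b M' :=
  fun K i hi hK => by
    haveI := hi
    exact h K (i ≫ e.inv) (mono_comp _ _) hK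

include hdim in
theorem sub_biprod {a b : ℤ} {A B : X.Modules} (hA : FlatMod.IsFinLocFree A) (hB : FlatMod.IsFinLocFree B)
    (h1 : Sub k a b A) (h2 : Sub k a b B) : Sub k a b (A ⊞ B) := by
  haveI := isLocallyNoetherian' k (X := X)
  intro K i hi hK
  haveI := hi
  obtain ⟨I, π, j, hj, hπ, hfac, hker, hI, hrk, hdg, -, -⟩ := exists_decomp k hdim.le hK hA (i ≫ biprod.fst)
  haveI : Mono (kernel.ι (i ≫ biprod.fst) ≫ i ≫ biprod.snd) := by
    refine Preadditive.mono_of_cancel_zero _ fun {Z} g hg => ?_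
    rw [← cancel_mono (kernel.ι (i ≫ biprod.fst)), zero_comp, ← cancel_mono i, zero_comp]
    refine biprod.hom_ext _ _ ?_ ?_
    · rw [Category.assoc, Category.assoc, kernel.condition, comp_zero, zero_comp]
    · rw [zero_comp]
      simpa using hg
  have e1 := h2 _ (kernel.ι (i ≫ biprod.fst) ≫ i ≫ biprod.snd) inferInstance hker
  have e2 := h1 I j hj hI
  rw [hdg, hrk]
  push_cast
  linarith

include hdim in
theorem sub_sigma_tensor {a b : ℤ} {L B : X.Modules} (hL : FlatMod.IsFinLocFree L) (hB : FlatMod.IsFinLocFree B)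
    (h : Sub k a b (CohB1.tensorMod L B)) : ∀ n : ℕ, Sub k a b (CohB1.tensorMod (∐ fun _ : Fin n => L) B) := by
  haveI := isLocallyNoetherian' k (X := X)
  intro n
  induction n with
  | zero =>
    intro K i hi hK
    haveI := hi
    have hz : IsZero (∐ fun _ : Fin 0 => L) :=
      (IsZero.iff_id_eq_zero _).2 (Sigma.hom_ext _ _ fun i => i.elim0)
    have hz' : IsZero (CohB1.tensorMod (∐ fun _ : Fin 0 => L) B) :=
      IsZero.of_iso ((DCoh.tensorBi.obj B).map_isZero hz) (CurveTensor.commIso (∐ fun _ : Fin 0 => L) B)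
    have hKz : IsZero K := IsZero.of_mono_eq_zero i (hz'.eq_of_tgt _ _)
    rw [dg_eq_zero_of_isZero k hKz, rk_eq_zero_of_isZero hKz]
    simp
  | succ n ih =>
    obtain ⟨e⟩ := KS.nonempty_tensor_biprod B L (∐ fun _ : Fin n => L)
    have hR := isFinLocFree_sigma (fun _ : Fin n => L) fun _ => hL
    refine sub_iso k ?_ (sub_biprod k hdim (KFlatLib.isFinLocFree_tensor hB hL) (KFlatLib.isFinLocFree_tensor hB hR)
      (sub_iso k (CurveTensor.commIso L B) h) (sub_iso k (CurveTensor.commIso _ B) ih))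
    exact e.symm ≪≫ (DCoh.tensorBi.obj B).mapIso (KS.sigmaSuccIso fun _ : Fin (n + 1) => L).symm ≪≫
      CurveTensor.commIso B _

end Groth.Agent.BunLib68.SubSum
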