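import Groth.Agent.BunLib68.Weil

/-!
# Bundles finite in the sense of Weil are semistable of degree zero
-/

universe u

set_option backward.isDefEq.respectTransparency false
set_option backward.isDefEq.respectTransparency.types false
set_option linter.style.haveILetI false
set_option linter.unusedSectionVars false
set_option linter.unusedVariables false
set_option synthInstance.maxHeartbeats 100000

open CategoryTheory CategoryTheory.Limits AlgebraicGeometry TopologicalSpace Opposite

noncomputable section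

namespace Groth.Agent.BunLib68.KS

open Groth.Agent.CurveBundle Groth.Agent.CurveSlope Groth.Agent.CurveStable

variable {X : Scheme.{u}} (k : Type u) [Field k] [X.Over (Spec (CommRingCat.of k))] [IsIntegral X]
  [IsProper (X ↘ Spec (CommRingCat.of k))] [Smooth (X ↘ Spec (CommRingCat.of k))]

/-- The subsheaves have slope at most `C`. -/
def Bdd (C : ℕ) (M : X.Modules) : Prop :=
  ∀ (K : X.Modules) (i : K ⟶ M), Mono i → FlatMod.IsFinLocFree K → dg k K ≤ (C : ℤ) * (rk K : ℤ)

theorem exists_bdd (hdim : topologicalKrullDim X ≤ 1) {M : X.Modules} (hM : FlatMod.IsFinLocFree M) :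
    ∃ C, Bdd k C M := by
  haveI := isLocallyNoetherian' k (X := X)
  refine ⟨Module.finrank k (Coh.HH X M 0) + (Curv2.euler k X (Coh.structureModule X)).natAbs, fun K i hi hK => ?_⟩
  haveI := hi
  rcases Nat.eq_zero_or_pos (rk K) with h | h
  · rw [dg_eq_zero_of_isZero k (isZero_of_rk_zero hK h), h]
    simp
  have h1 := dg_le_h0 k hdim i (coh_of_free k hK) (coh_of_free k hM)
  have hK1 : (1 : ℤ) ≤ rk K := by exact_mod_cast h
  have h2 : (Module.finrank k (Coh.HH X M 0) : ℤ) ≤ (Module.finrank k (Coh.HH X M 0) : ℤ) * rk K :=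
    le_mul_of_one_le_right (Int.natCast_nonneg _) hK1
  have h3 : -((rk K : ℤ) * Curv2.euler k X (Coh.structureModule X)) ≤
      ((Curv2.euler k X (Coh.structureModule X)).natAbs : ℤ) * rk K := by
    rw [← mul_neg, mul_comm]
    refine mul_le_mul_of_nonneg_right ?_ (Int.natCast_nonneg _)
    rw [Int.natCast_natAbs]
    exact neg_le_abs _
  push_cast
  rw [Int.natCast_natAbs] at h3
  rw [add_mul]
  omega

theorem bdd_mono {C C' : ℕ} (h : C ≤ C') {M : X.Modules} (hM : Bdd k C M) : Bdd k C' M := fun K i hi hK =>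
  (hM K i hi hK).trans (mul_le_mul_of_nonneg_right (by exact_mod_cast h) (Int.natCast_nonneg _))

theorem bdd_iso {C : ℕ} {M N : X.Modules} (e : M ≅ N) (hM : Bdd k C M) : Bdd k C N := fun K i hi hK => by
  haveI := hi
  exact hM K (i ≫ e.inv) (mono_comp _ _) hK

theorem bdd_sumL (hdim : topologicalKrullDim X ≤ 1) {C : ℕ} : ∀ (l : List X.Modules),
    (∀ A ∈ l, FlatMod.IsFinLocFree A ∧ Bdd k C A) → Bdd k C (sumL l) := by
  haveI := isLocallyNoetherian' k (X := X)
  intro l
  induction l with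
  | nil =>
    intro _ K i hi hK
    haveI := hi
    have hz : IsZero K := IsZero.of_mono_eq_zero i (isZero_freeZero.eq_of_tgt _ _)
    rw [dg_eq_zero_of_isZero k hz, rk_eq_zero_of_isZero hz]
    simp
  | cons A t ih =>
    intro h K i0 hi hK
    obtain ⟨hA, hCA⟩ := h A List.mem_cons_self
    let i : K ⟶ A ⊞ sumL t := i0
    haveI : Mono i := hi
    obtain ⟨I, π, j, hj, hπ, hfac, hker, hI, hrk, hdg, -, -⟩ := exists_decomp k hdim hK hA (i ≫ biprod.fst)
    let l : kernel (i ≫ biprod.fst) ⟶ sumL t := kernel.ι (i ≫ biprod.fst) ≫ i ≫ biprod.snd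
    haveI : Mono l := Preadditive.mono_of_cancel_zero l fun v hv => by
      rw [← cancel_mono (kernel.ι (i ≫ biprod.fst)), zero_comp, ← cancel_mono i, zero_comp]
      refine biprod.hom_ext _ _ ?_ ?_
      · rw [zero_comp, Category.assoc, Category.assoc, kernel.condition, comp_zero]
      · rw [zero_comp, Category.assoc, Category.assoc]
        exact hv
    have h1 := ih (fun B hB => h B (List.mem_cons_of_mem _ hB)) _ l inferInstance hker
    have h2 := hCA I j hj hI
    rw [hdg, show (rk K : ℤ) = rk (kernel (i ≫ biprod.fst)) + rk I from by exact_mod_cast hrk, mul_add]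
    omega

variable (hdim : topologicalKrullDim X = 1)
include hdim

theorem dg_tensor {A B : X.Modules} (hA : FlatMod.IsFinLocFree A) (hB : FlatMod.IsFinLocFree B) :
    dg k (CohB1.tensorMod A B) = (rk A : ℤ) * dg k B + (rk B : ℤ) * dg k A := by
  have hr : rk (CohB1.tensorMod A B) = rk A * rk B := CurveDuality.rk_tensor hA hB
  have h := CurveTensor.euler_tensor k hdim (isFinLocFreeOfRank_rk hA) (coh_of_free k hB)
  rw [deg_eq_dg k (isFinLocFreeOfRank_rk hA)] at h
  have h' : Curv2.euler k X (CohB1.tensorMod A B) = _ := h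
  unfold dg at h' ⊢
  rw [h', hr]
  push_cast
  ring

omit hdim in
theorem rk_pow {F : X.Modules} (hF : FlatMod.IsFinLocFree F) : ∀ m : ℕ,
    rk (CohB1.tensorPow F m) = rk F ^ m := by
  intro m
  induction m with
  | zero => exact rk_one.trans (pow_zero _).symm
  | succ m ih =>
    rw [pow_succ, ← ih]
    exact CurveDuality.rk_tensor (isFinLocFree_pow hF m) hF

theorem dg_pow {F : X.Modules} (hF : FlatMod.IsFinLocFree F) : ∀ m : ℕ,
    (rk F : ℤ) * dg k (CohB1.tensorPow F m) = (m : ℤ) * dg k F * (rk F : ℤ) ^ m := by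
  intro m
  induction m with
  | zero =>
    rw [show CohB1.tensorPow F 0 = Coh.structureModule X from rfl, dg_one]
    simp
  | succ m ih =>
    rw [show CohB1.tensorPow F (m + 1) = CohB1.tensorMod (CohB1.tensorPow F m) F from rfl,
      dg_tensor k hdim (isFinLocFree_pow hF m) hF, rk_pow hF m]
    push_cast
    linear_combination (rk F : ℤ) * ih

include k in
theorem exists_pow_mono {F E : X.Modules} (hF : FlatMod.IsFinLocFree F) (hE : FlatMod.IsFinLocFree E)
    (i : F ⟶ E) [Mono i] : ∀ m : ℕ,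
    ∃ j : CohB1.tensorPow F m ⟶ CohB1.tensorPow E m, Mono j := by
  intro m
  induction m with
  | zero => exact ⟨𝟙 _, inferInstance⟩
  | succ m ih =>
    obtain ⟨j, hj⟩ := ih
    haveI := hj
    haveI h1 := CurveHiggs.mono_twist hF j
    haveI h2 : Mono ((DCoh.tensorBi.obj (CohB1.tensorPow E m)).map i) :=
      (CurveTensor.shortExact_tensor (isFinLocFree_pow hE m) _ _ _ (shortExact_cokernel_of_mono i)).mono_f
    exact ⟨CurveHiggs.twist F j ≫ (DCoh.tensorBi.obj (CohB1.tensorPow E m)).map i, mono_comp _ _⟩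

variable [IsAlgClosed k]

theorem exists_bdd_pow {E : X.Modules} (hE : FlatMod.IsFinLocFree E) (hfin : TPFin E) :
    ∃ C, ∀ m, Bdd k C (CohB1.tensorPow E m) := by
  classical
  obtain ⟨S, hS⟩ := hfin
  let c : Cls X → ℕ := fun s => if h : ∃ C, Bdd k C s.out then h.choose else 0
  refine ⟨∑ s ∈ S, c s, fun m => ?_⟩
  obtain ⟨l, hl, ⟨e⟩⟩ := exists_dec k hdim (isFinLocFree_pow hE m)
  refine bdd_iso k e.symm (bdd_sumL k hdim.le l fun A hA => ⟨(hl A hA).1, ?_⟩)
  have hmem : mk A ∈ S := hS m _ (by rw [cls_eq k hdim ⟨hl, ⟨e⟩⟩]; exact List.mem_map.2 ⟨A, hA, rfl⟩)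
  obtain ⟨eA⟩ : Nonempty ((mk A).out ≅ A) := mk_eq_iff.1 (Quotient.out_eq (mk A))
  have hex : ∃ C, Bdd k C (mk A).out :=
    exists_bdd k hdim.le (H23.PullPush.isFinLocFree_of_iso eA.symm (hl A hA).1)
  refine bdd_mono k (Finset.single_le_sum (fun s _ => Nat.zero_le (c s)) hmem) (bdd_iso k eA ?_)
  simp only [c, dif_pos hex]
  exact hex.choose_spec

/-- Subsheaves of a finite bundle have degree at most zero. -/
theorem dg_le_zero_of_tpFin {E : X.Modules} (hE : FlatMod.IsFinLocFree E) (hfin : TPFin E)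
    {F : X.Modules} (i : F ⟶ E) [Mono i] (hF : FlatMod.IsFinLocFree F) : dg k F ≤ 0 := by
  haveI := isLocallyNoetherian' k (X := X)
  obtain ⟨C, hC⟩ := exists_bdd_pow k hdim hE hfin
  rcases Nat.eq_zero_or_pos (rk F) with h | h
  · rw [dg_eq_zero_of_isZero k (isZero_of_rk_zero hF h)]
  by_contra hpos
  push Not at hpos
  let m := C * rk F + 1
  obtain ⟨j, hj⟩ := exists_pow_mono k hdim hF hE i m
  have h1 := hC m _ j hj (isFinLocFree_pow hF m)
  rw [rk_pow hF m] at h1
  have h2 := mul_le_mul_of_nonneg_left h1 (Int.natCast_nonneg (rk F))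
  rw [dg_pow k hdim hF m] at h2
  push_cast at h2
  have h3 : (0 : ℤ) < (rk F : ℤ) ^ m := pow_pos (by exact_mod_cast h) _
  have h4 : (m : ℤ) * dg k F ≤ (rk F : ℤ) * C := le_of_mul_le_mul_right (by linarith) h3
  have h5 : (m : ℤ) ≤ (m : ℤ) * dg k F := le_mul_of_one_le_right (Int.natCast_nonneg _) hpos
  have h6 : (m : ℤ) = (C : ℤ) * rk F + 1 := by simp [m]
  rw [mul_comm (rk F : ℤ) (C : ℤ)] at h4
  omega

/-- A finite bundle is semistable of degree zero. -/
theorem dg_eq_zero_and_ss {E : X.Modules} (hE : FlatMod.IsFinLocFree E) (hfin : TPFin E) :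
    dg k E = 0 ∧ SS k E := by
  have h1 := dg_le_zero_of_tpFin k hdim hE hfin (𝟙 E) hE
  have h2 := dg_le_zero_of_tpFin k hdim (isFinLocFree_dual k hE) (tpFin_dual k hdim hE hfin) (𝟙 _)
    (isFinLocFree_dual k hE)
  rw [dg_dual k hdim hE] at h2
  have h0 : dg k E = 0 := by omega
  refine ⟨h0, fun F i hi hF => ?_⟩
  haveI := hi
  rw [h0, zero_mul]
  exact mul_nonpos_of_nonpos_of_nonneg (dg_le_zero_of_tpFin k hdim hE hfin i hF) (Int.natCast_nonneg _)

end Groth.Agent.BunLib68.KS
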